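import Groth.Agent.Sga4h.AcycComp
import Groth.Agent.Sga4h.GSqEt
import Groth.Agent.Sga5.H855.EtUnit
import Groth.Agent.Etrest.HpullAcyc
import Groth.Agent.Etcore.HC

/-!
# Acyclic morphisms: étale descent on the target, base change, cohomology with constant coefficients
-/

set_option autoImplicit false
universe u

open CategoryTheory CategoryTheory.Limits AlgebraicGeometry Opposite
open scoped ZeroObject
attribute [local instance] HasDerivedCategory.standard

namespace K833.AcycDesc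

open Groth.Agent.Sga4h.Acyc Groth.Agent.Sga4h Groth.Agent.Sga5.H855

variable {X Y X' Y' : Scheme.{u}}

/-- A sheaf whose pullback along a surjective morphism is zero is zero. -/
theorem isZero_of_pull (c : Y' ⟶ Y) [Surjective c] (F : EtCoh.Ab Y)
    (h : IsZero ((EtCoh.pull c).obj F)) : IsZero F := by
  have h1 : IsIso (0 : F ⟶ (0 : EtCoh.Ab Y)) := by
    refine EtUnit.isIso_of_family _ fun y => ?_
    obtain ⟨v, hv⟩ := c.surjective y
    refine ⟨Y', c, v, hv, ?_⟩
    exact IsZero.isIso h ((EtCoh.pull c).map_isZero (isZero_zero _)) _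
  exact (isZero_zero _).of_iso (asIso (0 : F ⟶ (0 : EtCoh.Ab Y)))

variable {f : X ⟶ Y} {g : Y' ⟶ Y} {f' : X' ⟶ Y'} {g' : X' ⟶ X}

/-- The canonical isomorphism `f'^* g^* ≅ g'^* f^*`. -/
noncomputable def swap (w : g' ≫ f = f' ≫ g) (F : EtCoh.Ab Y) :
    (EtCoh.pull g').obj ((EtCoh.pull f).obj F) ≅ (EtCoh.pull f').obj ((EtCoh.pull g).obj F) :=
  ((EtCore.pullComp g' f).symm ≪≫ EtCore.pullCongr w ≪≫ EtCore.pullComp f' g).app F

/-- Étale descent of acyclicity. -/
theorem acyc_of_etale_cover (h : IsPullback g' f' f g) [Etale g] [Surjective g] (F : EtCoh.Ab Y)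
    (hF : Acyc f' ((EtCoh.pull g).obj F)) : Acyc f F := by
  refine ⟨?_, fun q hq => ?_⟩
  · refine EtUnit.isIso_of_family _ fun y => ?_
    obtain ⟨v, hv⟩ := g.surjective y
    exact ⟨Y', g, v, hv, (EtUnit.isIso_unit_iff h.w F
      (EtUnit.isIso_baseChange0_of_etale h _)).2 hF.1⟩
  · refine isZero_of_pull g _ ?_
    obtain ⟨e⟩ := GSq.nonempty_baseChange_iso ((EtCoh.pull f).obj F) (GSq.bc_of_etale h _) q
    exact (hF.2 q hq).of_iso (e ≪≫ (EtCoh.Rpush f' q).mapIso (swap h.w F))

/-- Base change of acyclicity. -/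
theorem acyc_of_bc (w : g' ≫ f = f' ≫ g) (F : EtCoh.Ab Y) (hF : Acyc f F)
    (h0 : IsIso (EtCoh.baseChange0 f g f' g' w ((EtCoh.pull f).obj F)))
    (h1 : GSq.BC w ((DerivedCategory.singleFunctor _ 0).obj ((EtCoh.pull f).obj F))) :
    Acyc f' ((EtCoh.pull g).obj F) := by
  have := hF.1
  refine ⟨(EtUnit.isIso_unit_iff w F h0).1 inferInstance, fun q hq => ?_⟩
  obtain ⟨e⟩ := GSq.nonempty_baseChange_iso ((EtCoh.pull f).obj F) h1 q
  exact ((EtCoh.pull g).map_isZero (hF.2 q hq)).of_iso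
    ((EtCoh.Rpush f' q).mapIso (swap w F).symm ≪≫ e.symm)

section Const

variable (M : Type) [AddCommGroup M]

/-- Pullback along an acyclic morphism is bijective on cohomology. -/
theorem HC_bijective (f : X ⟶ Y) (h : Acyc f (EtCoh.const Y M)) (q : ℕ) :
    Function.Bijective (Groth.Agent.Etcore.HC.HC M f q) := by
  rw [Groth.Agent.Etcore.HC.bijective_HC_iff]
  exact Groth.Agent.Etrest.HpullAcyc.Hpull_bijective f _ h.1 h.2 q

end Const

end K833.AcycDesc
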