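import Groth.Agent.Etcore.LCPull
import Groth.Agent.Sga3C.LocConn
import Groth.Agent.Fdesc.GeomAlgClosed
import Mathlib.AlgebraicGeometry.Geometrically.Connected
import Mathlib.AlgebraicGeometry.Morphisms.LocalFlatDescent

/-!
# The unit of the adjunction at a constant sheaf for open, geometrically connected morphisms
-/

set_option autoImplicit false
universe u
open CategoryTheory CategoryTheory.Limits AlgebraicGeometry Opposite

namespace K833.EffUnit

/-- `M_Y ⟶ q_* q⁻¹ M_Y` is an isomorphism. -/
theorem isIso_unit {X Y : Scheme.{u}} (q : X ⟶ Y) [GeometricallyConnected q] [UniversallyOpen q]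
    [IsLocallyNoetherian Y] (M : Type) [AddCommGroup M] :
    IsIso ((EtCoh.pullPushAdj q).unit.app (EtCoh.const Y M)) := by
  apply Groth.Agent.Etcore.LCPull.isIso_unit_const
  · rintro U W - ⟨w, hw⟩
    obtain ⟨z, hz⟩ := (pullback.fst U.hom q).surjective w
    exact ⟨z, show _ ∈ W from hz.symm ▸ hw⟩
  · intro U u
    have hU : IsLocallyNoetherian U.left :=
      LocallyOfFiniteType.isLocallyNoetherian (Y := Y) U.hom
    have hlc := Groth.Agent.Sga3C.LocConn.locallyConnectedSpace_of_isLocallyNoetherian U.left
    exact ⟨connectedComponent u, isOpen_connectedComponent, mem_connectedComponent,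
      ((pullback.fst U.hom q).isConnected_preimage (pullback.fst U.hom q).isOpenMap
        isConnected_connectedComponent isClosed_connectedComponent).isPreconnected⟩

/-- Geometric connectedness descends along surjective morphisms. -/
theorem geometricallyConnected_of_surjective {X Y Y' P : Scheme.{u}} {q : X ⟶ Y} {c : Y' ⟶ Y}
    [Surjective c] {x : P ⟶ X} {p : P ⟶ Y'} (hp : IsPullback x p q c) [GeometricallyConnected p] :
    GeometricallyConnected q := by
  constructor
  intro K _ y T a b hT
  obtain ⟨y₀, hy₀⟩ := c.surjective (y default)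
  obtain ⟨w, -, -⟩ := Scheme.Pullback.exists_preimage_pullback (f := c) (g := y) y₀ default hy₀
  let L := (pullback c y).residueField w
  let l : Spec L ⟶ pullback c y := (pullback c y).fromSpecResidueField w
  have hls : Surjective (l ≫ pullback.snd c y) := ⟨fun z => ⟨default, Subsingleton.elim _ _⟩⟩
  have hT' := (IsPullback.of_hasPullback b (l ≫ pullback.snd c y)).flip.flip
  let a' : pullback b (l ≫ pullback.snd c y) ⟶ P := hp.lift (pullback.fst _ _ ≫ a)
    (pullback.snd _ _ ≫ l ≫ pullback.fst c y) (by
      rw [Category.assoc, hT.w, pullback.condition_assoc]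
      simp only [Category.assoc]
      rw [pullback.condition])
  have ha' : IsPullback a' (pullback.snd b (l ≫ pullback.snd c y)) p (l ≫ pullback.fst c y) := by
    refine IsPullback.of_right ?_ (hp.lift_snd _ _ _) hp
    rw [hp.lift_fst, Category.assoc, pullback.condition, ← Category.assoc]
    exact hT'.paste_horiz hT
  have hc : ConnectedSpace (pullback b (l ≫ pullback.snd c y) : Scheme.{u}) :=
    GeometricallyConnected.geometrically_connectedSpace (f := p) (l ≫ pullback.fst c y) _ _ ha'
  exact (pullback.fst b (l ≫ pullback.snd c y)).surjective.connectedSpace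
    (pullback.fst b (l ≫ pullback.snd c y)).continuous

/-- The projection from a product with a connected scheme over an algebraically closed field. -/
theorem isIso_unit_of_prod {k : Type u} [Field k] [IsAlgClosed k] {X Y Y' P F : Scheme.{u}}
    (tY : Y ⟶ Spec (CommRingCat.of k)) [LocallyOfFiniteType tY]
    (q : X ⟶ Y) (c : Y' ⟶ Y) [Flat c] [QuasiCompact c] [Surjective c] {x : P ⟶ X} {p : P ⟶ Y'}
    (hp : IsPullback x p q c) (qF : F ⟶ Spec (CommRingCat.of k)) [Smooth qF] [ConnectedSpace F]
    {t : Y' ⟶ Spec (CommRingCat.of k)} {y : P ⟶ F} (hy : IsPullback y p qF t)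
    (M : Type) [AddCommGroup M] : IsIso ((EtCoh.pullPushAdj q).unit.app (EtCoh.const Y M)) := by
  have h1 : GeometricallyConnected qF :=
    Groth.Agent.Fdesc.GeomAlgClosed.geometricallyConnected_of_connectedSpace qF
  have h2 : GeometricallyConnected p := MorphismProperty.of_isPullback hy h1
  have h3 : Smooth p := MorphismProperty.of_isPullback hy ‹_›
  have h4 : GeometricallyConnected q := geometricallyConnected_of_surjective hp
  have h5 : Smooth q := MorphismProperty.of_isPullback_of_descendsAlong (P := @Smooth)
    (Q := @Surjective ⊓ @Flat ⊓ @QuasiCompact) hp.flip ⟨⟨‹_›, ‹_›⟩, ‹_›⟩ h3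
  have h6 : IsLocallyNoetherian Y := LocallyOfFiniteType.isLocallyNoetherian tY
  exact isIso_unit q M

end K833.EffUnit
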