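import Groth.Agent.Etbc.H187.BCStrictAb
import Groth.Agent.Etbc.H193.Main
import Groth.Agent.Etbc.H184.ULZA

/-!
# Degree zero base change over a discrete base
-/

set_option autoImplicit false
universe u

open CategoryTheory CategoryTheory.Limits AlgebraicGeometry Opposite

namespace K833.BCZero

/-- Degree zero base change of abelian sheaves over a discrete base (for instance the spectrum of a field). -/
theorem isIso_baseChange0 {X Y X' Y' : Scheme.{u}} [DiscreteTopology Y] {f : X ⟶ Y} {g : Y' ⟶ Y}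
    {f' : X' ⟶ Y'} {g' : X' ⟶ X} (h : IsPullback g' f' f g) [QuasiCompact f] [QuasiSeparated f]
    (F : EtCoh.Ab X) : IsIso (EtCoh.baseChange0 f g f' g' h.w F) := by
  have hg : EtAcyc.IsULocZeroAcyclic g := Groth.Agent.Etbc.H193.Main.isULocZeroAcyclic g
  have hg0 : EtAcyc.IsLocZeroAcyclic g := hg g (𝟙 _) (𝟙 _) IsPullback.of_id_fst
  exact Groth.Agent.Etbc.H187.BCStrictAb.isIso_baseChange0_of_strict h
    (fun Ω _ _ ξ => Groth.Agent.Etbc.H184.UnivSubm.isUnivSubmersive_psi g hg ξ)
    (fun Ω _ _ ξ Ω' _ _ η => by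
      have h1 := Groth.Agent.Etbc.H184.ULZA.sepGeomConnected_psi g hg0 ξ Ω' η
      exact (Scheme.homeoOfIso (pullbackSymmetry η
        (Groth.Agent.EtpbcB.Psi.psi g ξ))).surjective.connectedSpace
        (Scheme.homeoOfIso (pullbackSymmetry η (Groth.Agent.EtpbcB.Psi.psi g ξ))).continuous) F

end K833.BCZero
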