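import Groth.Agent.EtAdic.K833.AcycDesc
import Groth.Agent.Sga4h.PointConst
import Groth.Agent.EtpbcB.GammaRpush
import Groth.Agent.Sga5.H650.ConstCount
import Mathlib.AlgebraicGeometry.AlgClosed.Basic

/-!
# Acyclic schemes over an algebraically closed field

* `exists_point` : a nonempty quasi-compact scheme locally of finite type over an algebraically closed field has a
  rational point;
* `acyc_of_point` : a connected scheme with a rational point and without higher cohomology with coefficients in a
  finite group `M` is acyclic over the base field.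
-/

set_option autoImplicit false
universe u

open CategoryTheory CategoryTheory.Limits AlgebraicGeometry Opposite
open scoped Groth.Agent.Etcore.EtInst
open Groth.Agent.Etcore.EtInst Groth.Agent.Etcore.PullCoh Groth.Agent.Etcore.HpullCalc

namespace K833.PointAcyc

open Groth.Agent.Sga4h.Acyc Groth.Agent.Etcore.HC

theorem exists_point {k : Type u} [Field k] [IsAlgClosed k] {F : Scheme.{u}} [Nonempty F]
    (q : F ⟶ Spec (CommRingCat.of k)) [LocallyOfFiniteType q] [QuasiCompact q] :
    ∃ s : Spec (CommRingCat.of k) ⟶ F, s ≫ q = 𝟙 _ := by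
  have hc : CompactSpace F := HasAffineProperty.iff_of_isAffine (P := @QuasiCompact).1 ‹_›
  obtain ⟨x, -, hx⟩ := IsClosed.exists_closed_singleton (X := F) isClosed_univ Set.univ_nonempty
  exact ⟨pointOfClosedPoint q x hx, pointOfClosedPoint_comp q x hx⟩

variable {k : Type u} [Field k] [IsSepClosed k] {F : Scheme.{u}}

/-- `R^q a_* F = 0` over a separably closed field if `H^q(X, F) = 0`. -/
theorem isZero_Rpush_of_subsingleton {X : Scheme.{u}}
    (a : X ⟶ Spec (CommRingCat.of k)) (F : EtCoh.Ab X) (q : ℕ)
    (h : Subsingleton (EtCoh.H X F q)) : IsZero ((EtCoh.Rpush a q).obj F) := by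
  refine Groth.Agent.Etcore.Stalks.isZero_of_stalks _ fun x => ?_
  refine ⟨k, inferInstance, inferInstance, Groth.Agent.EtpbcB.SepClosedPoint.pt k, ?_, ?_⟩
  · exact Subsingleton.elim _ _
  · obtain ⟨e⟩ := Groth.Agent.EtpbcB.GammaRpush.stalk_id_Rpush a F q
    exact @AddCommGrpCat.isZero_of_subsingleton _ e.toEquiv.subsingleton

theorem acyc_of_point [ConnectedSpace F] (q : F ⟶ Spec (CommRingCat.of k))
    (s : Spec (CommRingCat.of k) ⟶ F) (hs : s ≫ q = 𝟙 _) (M : Type) [AddCommGroup M] [Finite M]
    (hF : ∀ r : ℕ, 0 < r → Subsingleton (EtCoh.H F (EtCoh.const F M) r)) :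
    Acyc q (EtCoh.const (Spec (CommRingCat.of k)) M) := by
  constructor
  · apply Groth.Agent.Sga4h.PointConst.isIso_of_top
    rw [ConcreteCategory.isIso_iff_bijective, ← bijective_unitSec_iff, ← bijective_hp_zero_iff,
      ← bijective_HC_iff]
    have hcon : ConnectedSpace (Spec (CommRingCat.of k)) := inferInstance
    have hfin : Finite (HH (Spec (CommRingCat.of k)) (EtCoh.const _ M) 0) :=
      Nat.finite_of_card_ne_zero (by
        rw [Groth.Agent.Sga5.H650.ConstCount.card_H0_const]
        exact Nat.card_pos.ne')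
    have hfin' : Finite (HH F (EtCoh.const _ M) 0) :=
      Nat.finite_of_card_ne_zero (by
        rw [Groth.Agent.Sga5.H650.ConstCount.card_H0_const]
        exact Nat.card_pos.ne')
    refine (Nat.bijective_iff_injective_and_card _).2 ⟨?_, ?_⟩
    · intro x y hxy
      rw [← HC_id M 0 x, ← HC_id M 0 y, ← HC_HC M s q (𝟙 _) hs, hxy, HC_HC M s q (𝟙 _) hs]
    · exact (Groth.Agent.Sga5.H650.ConstCount.card_H0_const _ M).trans
        (Groth.Agent.Sga5.H650.ConstCount.card_H0_const _ M).symm
  · intro r hr
    apply isZero_Rpush_of_subsingleton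
    have := hF r hr
    exact (HHmap_bijective (EtCore.pullConst q M).hom r).1.subsingleton

end K833.PointAcyc
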