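import Groth.Agent.EtAdic.K833.FieldBC
import Groth.Agent.EtAdic.K833.BCZero
import Groth.Agent.EtAdic.K833.PointAcyc
import Groth.Agent.Sga4B.PointConst
import Groth.Agent.EtpbcB.GeomPointIndep
import Groth.Agent.EtpbcB.TorsionBasic

/-!
# Higher direct images over a separably closed field are constant after every base change
-/

set_option autoImplicit false
universe u

open CategoryTheory CategoryTheory.Limits AlgebraicGeometry Opposite
attribute [local instance] HasDerivedCategory.standard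

namespace K833.FieldRpush

open Groth.Agent.Sga4h Groth.Agent.Sga4h.Acyc

variable {k : Type u} [Field k] {m : ℕ} (hm : (m : k) ≠ 0)

section sep

variable [IsSepClosed k] {F : Scheme.{u}} (q : F ⟶ Spec (CommRingCat.of k))
  [LocallyOfFiniteType q] [QuasiCompact q]

include hm q in
theorem finite_H (G : EtCoh.Ab F) (hG : EtPBC.IsConstructible G) (hGm : EtCoh.KilledBy m G) (r : ℕ) :
    Finite (EtCoh.H F G r) := by
  have hc := FieldBC.isConstructible_Rpush hm q G hG hGm r
  obtain ⟨e⟩ := Groth.Agent.EtpbcB.GammaRpush.stalk_id_Rpush q G r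
  have := Groth.Agent.EtpbcB.GeomPointIndep.finite_stalk_of_constructible
    (𝟙 (Spec (CommRingCat.of k))) _ hc
  exact Finite.of_equiv _ e.toEquiv

include hm in
theorem exists_const (G : EtCoh.Ab F) (hG : EtPBC.IsConstructible G) (hGm : EtCoh.KilledBy m G)
    (r : ℕ) :
    ∃ (M : Type) (_ : AddCommGroup M) (_ : Finite M), (∀ x : M, m • x = 0) ∧
      Nonempty (M ≃ EtCoh.H F G r) ∧
      ∀ {T P : Scheme.{u}} {t : T ⟶ Spec (CommRingCat.of k)} {p : P ⟶ T} {g' : P ⟶ F}
        (_ : IsPullback g' p q t),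
        Nonempty (EtCoh.const T M ≅ (EtCoh.Rpush p r).obj ((EtCoh.pull g').obj G)) := by
  have hc := FieldBC.isConstructible_Rpush hm q G hG hGm r
  have := Groth.Agent.Sga4B.PointConst.finite_sect_of_isConstructible _ hc
  have hk : EtCoh.KilledBy m ((EtCoh.Rpush q r).obj G) :=
    Groth.Agent.EtpbcB.TorsionBasic.killedBy_map _ m _ hGm
  obtain ⟨M, i1, i2, hM, ⟨e⟩⟩ := Groth.Agent.Sga4B.PointConst.exists_iso_const _ m hk
  refine ⟨M, i1, i2, hM, ?_, ?_⟩
  · obtain ⟨e1⟩ := Groth.Agent.EtpbcB.GammaRpush.gamma_Rpush q G r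
    have e2 := ((sheafToPresheaf _ _ ⋙ (evaluation _ _).obj
      (op (EtCoh.top (Spec (CommRingCat.of k))))).mapIso e).addCommGroupIsoToAddEquiv
    have e3 : ULift.{u + 1} M ≃ ((EtCoh.const (Spec (CommRingCat.of k)) M).obj.obj
        (op (EtCoh.top (Spec (CommRingCat.of k)))) : AddCommGrpCat.{u + 1}) :=
      (asIso ((Groth.Agent.Sga4h.PointConst.adj (K := k)).unit.app
        (AddCommGrpCat.of (ULift.{u + 1} M)))).addCommGroupIsoToAddEquiv.toEquiv
    exact ⟨Equiv.ulift.symm.trans (e3.trans (e2.toEquiv.trans e1.toEquiv))⟩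
  · intro T P t p g' h
    obtain ⟨e'⟩ := GSq.nonempty_baseChange_iso G (FieldBC.bc hm q t h G hG hGm) r
    exact ⟨(EtCore.pullConst t M).symm ≪≫ (EtCoh.pull t).mapIso e ≪≫ e'⟩

end sep

end K833.FieldRpush
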