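import Groth.Agent.EtAdic.K112.LHConst
import Groth.Agent.Sga4h.RPair
import Groth.Agent.Etrest.DEtPush

/-!
# Two lemmas on orders of hypercohomology groups
-/

set_option autoImplicit false
set_option linter.unusedSectionVars false
universe u

open CategoryTheory CategoryTheory.Limits AlgebraicGeometry Opposite DerivedCategory
open CategoryTheory.Pretriangulated
open scoped Groth.Agent.Etcore.EtInst
open Groth.Agent.Etcore.EtInst Groth.Agent.Etcore.HpullCalc Groth.Agent.Etcore.HC

attribute [local instance] HasDerivedCategory.standard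

namespace K833.LHAux

open Groth.Agent.Sga4h.LPull Groth.Agent.Sga7.H754.HDer Groth.Agent.Lefpen.H710.BettiSys
  Groth.Agent.Sga4h.RPair Groth.Agent.Etrest.DEtPush

/-- **(B)** -/
theorem card_push {X Y : Scheme.{u}} (f : X ⟶ Y) (G : EtCoh.Ab X) (t : ℕ) :
    K112.LH.cd (K112.LH.FH Y) (t : ℤ) ((pushD f).obj (S0 G)) = Nat.card (HH X G t) := by
  refine Nat.card_congr ?_
  have e1 : (Z0 Y ⟶ ((pushD f).obj (S0 G))⟦(t : ℤ)⟧) ≃ (Z0 Y ⟶ (pushD f).obj ((S0 G)⟦(t : ℤ)⟧)) :=
    (Iso.refl _).homCongr (((pushD f).commShiftIso (t : ℤ)).app (S0 G)).symm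
  have e2 : (Z0 Y ⟶ (pushD f).obj ((S0 G)⟦(t : ℤ)⟧)) ≃ ((pullD f).obj (Z0 Y) ⟶ (S0 G)⟦(t : ℤ)⟧) :=
    ((dPullPush f).homEquiv _ _).symm
  have e3 : ((pullD f).obj (Z0 Y) ⟶ (S0 G)⟦(t : ℤ)⟧) ≃ (Z0 X ⟶ (S0 G)⟦(t : ℤ)⟧) :=
    (LZ0 f).homCongr (Iso.refl _)
  exact (e1.trans (e2.trans (e3.trans
    (Abelian.Ext.homEquiv (X := EtCoh.const X ℤ) (Y := G) (n := t)).symm)))

section Pi

variable (Y : Scheme.{u}) (j : ℤ) {A B C : Type} [AddCommGroup A] [AddCommGroup B] [AddCommGroup C]

/-- `H^j` of a map of constant sheaves -/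
noncomputable def g (φ : A →+ B) : K112.LH.Hs (K112.LH.FH Y) j (S0 (EtCoh.const Y A)) →+
    K112.LH.Hs (K112.LH.FH Y) j (S0 (EtCoh.const Y B)) :=
  (((K112.LH.FH Y).shift j).map ((singleFunctor (EtCoh.Ab Y) 0).map (cm Y φ))).hom

theorem g_comp (φ : A →+ B) (ψ : B →+ C) (x) : g Y j ψ (g Y j φ x) = g Y j (ψ.comp φ) x := by
  unfold g
  rw [← cm_comp, Functor.map_comp, Functor.map_comp]
  rfl

theorem cm_add (φ ψ : A →+ B) : cm Y (φ + ψ) = cm Y φ + cm Y ψ := by
  have := additive_constantSheaf Y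
  unfold cm
  rw [← Functor.map_add]
  rfl

theorem g_add (φ ψ : A →+ B) : g Y j (φ + ψ) = g Y j φ + g Y j ψ := by
  unfold g
  rw [cm_add, Functor.map_add, Functor.map_add]
  rfl

/-- additive dependence on the homomorphism -/
noncomputable def gHom : (A →+ B) →+ (K112.LH.Hs (K112.LH.FH Y) j (S0 (EtCoh.const Y A)) →+
    K112.LH.Hs (K112.LH.FH Y) j (S0 (EtCoh.const Y B))) :=
  AddMonoidHom.mk' (g Y j) (g_add Y j)

theorem gHom_apply (φ : A →+ B) : gHom Y j φ = g Y j φ := rfl

theorem g_id (x) : g Y j (AddMonoidHom.id A) x = x := by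
  unfold g
  have h : cm Y (AddMonoidHom.id A) = 𝟙 _ := by
    have := cm_zsmul_id Y (A := A) 1
    rwa [one_smul, one_smul] at this
  rw [h, CategoryTheory.Functor.map_id, CategoryTheory.Functor.map_id]
  rfl

theorem g_zero (x) : g Y j (0 : A →+ B) x = 0 := by
  have h := map_zero (gHom Y j (A := A) (B := B))
  exact DFunLike.congr_fun h x

/-- **(A)** -/
theorem cd_pi (M : Type) [AddCommGroup M] (b : ℕ) :
    K112.LH.cd (K112.LH.FH Y) j (S0 (EtCoh.const Y (Fin b → M))) =
      K112.LH.cd (K112.LH.FH Y) j (S0 (EtCoh.const Y M)) ^ b := by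
  have h1 : ∑ i : Fin b, (AddMonoidHom.single (fun _ : Fin b => M) i).comp
      (Pi.evalAddMonoidHom (fun _ : Fin b => M) i) = AddMonoidHom.id (Fin b → M) := by
    refine AddMonoidHom.ext fun x => ?_
    funext i
    rw [AddMonoidHom.finsetSum_apply, Finset.sum_apply, Finset.sum_eq_single i]
    · simp
    · intro i' _ h
      simp [Pi.single_eq_of_ne (Ne.symm h)]
    · intro h
      exact absurd (Finset.mem_univ i) h
  let e : K112.LH.Hs (K112.LH.FH Y) j (S0 (EtCoh.const Y (Fin b → M))) ≃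
      (Fin b → K112.LH.Hs (K112.LH.FH Y) j (S0 (EtCoh.const Y M))) :=
    { toFun := fun x i => g Y j (Pi.evalAddMonoidHom (fun _ : Fin b => M) i) x
      invFun := fun y => ∑ i : Fin b, g Y j (AddMonoidHom.single (fun _ : Fin b => M) i) (y i)
      left_inv := fun x => by
        have h2 : ∀ i : Fin b, g Y j (AddMonoidHom.single (fun _ : Fin b => M) i)
            (g Y j (Pi.evalAddMonoidHom (fun _ : Fin b => M) i) x) =
            gHom Y j ((AddMonoidHom.single (fun _ : Fin b => M) i).comp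
              (Pi.evalAddMonoidHom (fun _ : Fin b => M) i)) x := fun i => g_comp Y j _ _ x
        change ∑ i : Fin b, g Y j (AddMonoidHom.single (fun _ : Fin b => M) i)
            (g Y j (Pi.evalAddMonoidHom (fun _ : Fin b => M) i) x) = x
        rw [Finset.sum_congr rfl fun i _ => h2 i, ← AddMonoidHom.finsetSum_apply, ← map_sum, h1]
        exact g_id Y j x
      right_inv := fun y => by
        funext i
        change g Y j (Pi.evalAddMonoidHom (fun _ : Fin b => M) i)
          (∑ i' : Fin b, g Y j (AddMonoidHom.single (fun _ : Fin b => M) i') (y i')) = y i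
        rw [map_sum, Finset.sum_eq_single i]
        · rw [g_comp]
          have h3 : (Pi.evalAddMonoidHom (fun _ : Fin b => M) i).comp
              (AddMonoidHom.single (fun _ : Fin b => M) i) = AddMonoidHom.id M := by
            ext x
            simp
          rw [h3, g_id]
        · intro i' _ h
          rw [g_comp]
          have h3 : (Pi.evalAddMonoidHom (fun _ : Fin b => M) i).comp
              (AddMonoidHom.single (fun _ : Fin b => M) i') = 0 := by
            ext x
            simp [Pi.single_eq_of_ne (Ne.symm h)]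
          rw [h3, g_zero]
        · intro h
          exact absurd (Finset.mem_univ i) h }
  rw [K112.LH.cd, K112.LH.cd, Nat.card_congr e, Nat.card_fun, Nat.card_fin]

end Pi

end K833.LHAux
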