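import Groth.Agent.S0162

/-!
# Smooth base change for sheaves killed by an invertible integer
-/

set_option autoImplicit false
universe u

open CategoryTheory CategoryTheory.Limits AlgebraicGeometry Opposite

namespace K833.SBC

theorem main {X S Y T : Scheme.{u}} (f : X ⟶ S) [Smooth f] (g : T ⟶ S) [QuasiCompact g]
    [QuasiSeparated g] {h : Y ⟶ X} {e : Y ⟶ T} (hc : IsPullback e h g f) (m : ℕ)
    (hm : IsUnit (m : Γ(S, ⊤))) (F : EtCoh.Ab T) (hF : EtCoh.KilledBy m F) (q : ℕ) :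
    Nonempty ((EtCoh.pull f).obj ((EtCoh.Rpush g q).obj F) ≅
      (EtCoh.Rpush h q).obj ((EtCoh.pull e).obj F)) ∧ IsIso (EtCoh.baseChange0 g f h e hc.w F) := by
  refine Groth.Agent.S0162.result f g h e hc F (fun U s x => ⟨U, 𝟙 U, m, ⟨x, rfl⟩, hm, ?_⟩) q
  have h1 : F.obj.map (𝟙 U : U ⟶ U).op s = s := by
    rw [op_id, F.obj.map_id]; rfl
  rw [h1]
  exact hF U s

end K833.SBC
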