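import Groth.Agent.EtAdic.K833.AcycDesc
import Groth.Agent.EtAdic.K833.SBC
import Groth.Agent.EtpbcB.TorsionBasic

/-!
# Acyclic morphisms: smooth descent on the target
-/

set_option autoImplicit false
universe u

open CategoryTheory CategoryTheory.Limits AlgebraicGeometry Opposite
attribute [local instance] HasDerivedCategory.standard

namespace K833.AcycSm

open Groth.Agent.Sga4h.Acyc Groth.Agent.Sga4h Groth.Agent.Sga5.H855

variable {X Y X' Y' : Scheme.{u}} {f : X ⟶ Y} {g : Y' ⟶ Y} {f' : X' ⟶ Y'} {g' : X' ⟶ X}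

/-- Smooth descent of acyclicity. -/
theorem acyc_of_smooth_cover (h : IsPullback g' f' f g) [Smooth g] [Surjective g] [QuasiCompact f]
    [QuasiSeparated f] (m : ℕ) (hm : IsUnit (m : Γ(Y, ⊤))) (F : EtCoh.Ab Y)
    (hk : EtCoh.KilledBy m F) (hF : Acyc f' ((EtCoh.pull g).obj F)) : Acyc f F := by
  have hk' : EtCoh.KilledBy m ((EtCoh.pull f).obj F) :=
    Groth.Agent.EtpbcB.TorsionBasic.killedBy_map _ m _ hk
  refine ⟨?_, fun q hq => ?_⟩
  · refine EtUnit.isIso_of_family _ fun y => ?_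
    obtain ⟨v, hv⟩ := g.surjective y
    exact ⟨Y', g, v, hv, (EtUnit.isIso_unit_iff h.w F (SBC.main g f h m hm _ hk' 0).2).2 hF.1⟩
  · refine AcycDesc.isZero_of_pull g _ ?_
    obtain ⟨e⟩ := (SBC.main g f h m hm _ hk' q).1
    exact (hF.2 q hq).of_iso (e ≪≫ (EtCoh.Rpush f' q).mapIso (AcycDesc.swap h.w F))

end K833.AcycSm
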