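import Groth.Agent.EtAdic.K833.FieldRpush
import Groth.Agent.EtAdic.K833.SBC
import Groth.Agent.Sga3C.KerSquare
import Groth.Prelude.Def_AlgGrp

/-!
# Higher direct images of constant sheaves along smooth homomorphisms

For a smooth homomorphism `π : G ⟶ Q` with kernel `K`, the sheaf `π^* R^q π_* M` is the constant sheaf with value
`H^q(K, M)`.
-/

set_option autoImplicit false
universe u

open CategoryTheory CategoryTheory.Limits MonoidalCategory CartesianMonoidalCategory MonObj GrpObj AlgebraicGeometry
attribute [local instance] HasDerivedCategory.standard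

namespace K833.FibSeq

open Groth.Agent.Sga4h

theorem exists_square {S : Scheme.{u}} {K G Q : Over S} [GrpObj G] [GrpObj Q] (i : K ⟶ G)
    (π : G ⟶ Q) [IsMonHom π] (hker : AlgGrp.IsKernel i π) :
    ∃ d : pullback π.left π.left ⟶ K.left,
      IsPullback (pullback.fst π.left π.left) d G.hom K.hom := by
  let E : Over S := Over.mk (pullback.fst π.left π.left ≫ G.hom)
  let p₁ : E ⟶ G := Over.homMk (pullback.fst π.left π.left) rfl
  let p₂ : E ⟶ G := Over.homMk (pullback.snd π.left π.left) (by
    have h := pullback.condition (f := π.left) (g := π.left) =≫ Q.hom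
    simp only [Category.assoc, Over.w] at h
    simpa [E] using h.symm)
  have hE : IsPullback p₁ p₂ π π := by
    refine IsPullback.of_map (Over.forget S) ?_ ?_
    · ext
      exact pullback.condition
    · exact IsPullback.of_hasPullback π.left π.left
  obtain ⟨d, -, hd⟩ := Groth.Agent.Sga3C.KerSquare.isPullback_div π hker hE
  refine ⟨d.left, ?_⟩
  have h := hd.map (Over.forget S)
  have h1 : (toUnit G).left = G.hom := by
    have := Over.w (toUnit G)
    simpa using this
  have h2 : (toUnit K).left = K.hom := by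
    have := Over.w (toUnit K)
    simpa using this
  have h' : IsPullback p₁.left d.left (toUnit G).left (toUnit K).left := h
  rw [h1, h2] at h'
  exact h'

variable {k : Type u} [Field k] {m : ℕ} (hm : (m : k) ≠ 0)

include hm in
theorem isUnit_cast {X : Scheme.{u}} (f : X ⟶ Spec (CommRingCat.of k)) : IsUnit (m : Γ(X, ⊤)) := by
  have h := ((IsUnit.mk0 (m : k) hm).map (Scheme.ΓSpecIso (CommRingCat.of k)).inv.hom).map
    f.appTop.hom
  rwa [map_natCast, map_natCast] at h

include hm in
theorem exists_iso [IsSepClosed k] {K G Q : Over (Spec (CommRingCat.of k))} [GrpObj G] [GrpObj Q]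
    (i : K ⟶ G) (π : G ⟶ Q) [IsMonHom π] (hker : AlgGrp.IsKernel i π) [Smooth π.left]
    [QuasiCompact π.left] [QuasiSeparated π.left] [LocallyOfFiniteType K.hom] [QuasiCompact K.hom]
    (M : Type) [AddCommGroup M] [Finite M] (hM : ∀ x : M, m • x = 0) (q : ℕ) :
    Nonempty ((EtCoh.pull π.left).obj ((EtCoh.Rpush π.left q).obj (EtCoh.const G.left M)) ≅
      (EtCoh.pull G.hom).obj ((EtCoh.Rpush K.hom q).obj (EtCoh.const K.left M))) := by
  obtain ⟨d, hd⟩ := exists_square i π hker
  have h1 : IsPullback (pullback.snd π.left π.left) (pullback.fst π.left π.left) π.left π.left :=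
    (IsPullback.of_hasPullback π.left π.left).flip
  obtain ⟨e1⟩ := (SBC.main π.left π.left h1 m (isUnit_cast hm Q.hom) (EtCoh.const G.left M)
    (Groth.Agent.Etrest.ConstBasic.killedBy_const _ M m hM) q).1
  obtain ⟨e2⟩ := GSq.nonempty_baseChange_iso _ (FieldBC.bc hm K.hom G.hom hd.flip
    (EtCoh.const K.left M) (Groth.Agent.Etrest.ConstBasic.isConstructible_const _ M)
    (Groth.Agent.Etrest.ConstBasic.killedBy_const _ M m hM)) q
  exact ⟨e1 ≪≫ (EtCoh.Rpush _ q).mapIso (EtCore.pullConst _ M ≪≫ (EtCore.pullConst d M).symm) ≪≫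
    e2.symm⟩

end K833.FibSeq
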