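import Groth.Agent.EtAdic.K833.Triv
import Groth.Agent.S3117
import Groth.Agent.Books.AffBridge
import Mathlib.LinearAlgebra.SymmetricAlgebra.Basis

/-!
# Vector groups over a field are acyclic
-/

set_option autoImplicit false
universe u

open CategoryTheory CategoryTheory.Limits MonoidalCategory CartesianMonoidalCategory MonObj GrpObj AlgebraicGeometry
attribute [local instance] HasDerivedCategory.standard

namespace K833.VecAcyc

open Groth.Agent.Sga4h Groth.Agent.Sga4h.Acyc Groth.Agent.Books.AffBridge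

theorem acyc_of_isIso {X Y : Scheme.{u}} (f : X ⟶ Y) [IsIso f] (F : EtCoh.Ab Y) : Acyc f F := by
  have h := Groth.Agent.EtpbcA.CdExact.push_isEquivalence_of_isIso f
  refine ⟨inferInstance, fun q hq => ?_⟩
  obtain ⟨m, rfl⟩ : ∃ m, q = m + 1 := ⟨q - 1, by omega⟩
  exact Groth.Agent.EtpbcA.CdExact.isZero_rightDerived_of_epi (EtCoh.push f) m _

variable {k : Type u} [Field k] {m : ℕ} (hm : (m : k) ≠ 0)

include hm in
/-- A vector group is acyclic. -/
theorem acyc_vec (U : Over (Spec (CommRingCat.of k))) (E : Type u) [AddCommGroup E] [Module k E]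
    [Module.Finite k E] (e : U ≅ SpecOver k (SymmetricAlgebra k E)) (M : Type) [AddCommGroup M]
    [Finite M] (hM : ∀ x : M, m • x = 0) :
    Acyc U.hom (EtCoh.const (Spec (CommRingCat.of k)) M) := by
  let d := Module.finrank k E
  let b : Module.Basis (ULift.{u} (Fin d)) k E := (Module.finBasis k E).reindex Equiv.ulift.symm
  let φ : SymmetricAlgebra k E ≃ₐ[k] MvPolynomial (ULift.{u} (Fin d)) k :=
    SymmetricAlgebra.equivMvPolynomial b
  let s : Spec (CommRingCat.of (MvPolynomial (ULift.{u} (Fin d)) k)) ≅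
      Spec (CommRingCat.of (SymmetricAlgebra k E)) :=
    Scheme.Spec.mapIso φ.toRingEquiv.toCommRingCatIso.op
  have hs : s.hom ≫ Spec.map (CommRingCat.ofHom (algebraMap k (SymmetricAlgebra k E))) =
      Spec.map (CommRingCat.ofHom (MvPolynomial.C : k →+* MvPolynomial (ULift.{u} (Fin d)) k)) := by
    change Spec.map _ ≫ Spec.map _ = Spec.map _
    rw [← Spec.map_comp]
    congr 1
    apply CommRingCat.hom_ext
    apply RingHom.ext
    intro x
    exact φ.commutes x
  let eU : U.left ≅ Spec (CommRingCat.of (SymmetricAlgebra k E)) := (Over.forget _).mapIso e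
  have heU : eU.hom ≫ Spec.map (CommRingCat.ofHom (algebraMap k (SymmetricAlgebra k E))) = U.hom :=
    Over.w e.hom
  have h1 := AffineSpace.SpecIso_inv_over (n := ULift.{u} (Fin d)) (CommRingCat.of k)
  have key : U.hom = (eU.hom ≫ s.inv ≫ (AffineSpace.SpecIso (ULift.{u} (Fin d)) (CommRingCat.of k)).inv) ≫
      (𝔸(ULift.{u} (Fin d); Spec (CommRingCat.of k)) ↘ Spec (CommRingCat.of k)) := by
    rw [Category.assoc, Category.assoc, h1, ← heU]
    congr 1
    rw [Iso.eq_inv_comp]
    exact hs
  rw [key]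
  refine (AcycComp.acyc_comp_iff _ _ _ (acyc_of_isIso _ _)).2 ?_
  have hu : IsUnit (m : Γ(Spec (CommRingCat.of k), ⊤)) := by
    have := (IsUnit.mk0 (m : k) hm).map (Scheme.ΓSpecIso (CommRingCat.of k)).inv.hom
    rwa [map_natCast] at this
  exact Groth.Agent.S3117.result (Spec (CommRingCat.of k)) d m hu _
    (Groth.Agent.Etrest.ConstBasic.killedBy_const _ M m hM)

end K833.VecAcyc
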