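import Groth.Agent.EtAdic.K833.PointAcyc
import Groth.Agent.Sga3C.LocConn

/-!
# Connected neighbourhoods with a rational point
-/

set_option autoImplicit false
universe u
open CategoryTheory CategoryTheory.Limits AlgebraicGeometry Opposite

namespace K833.ConnNhd

/-- A point of a scheme locally of finite type over an algebraically closed field has a connected open
neighbourhood with a rational point. -/
theorem exists_nhd {k : Type u} [Field k] [IsAlgClosed k] {Z : Scheme.{u}}
    (tZ : Z ⟶ Spec (CommRingCat.of k)) [LocallyOfFiniteType tZ] (z : Z) :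
    ∃ U : Z.Opens, z ∈ U ∧ ConnectedSpace U ∧ ∃ s : Spec (CommRingCat.of k) ⟶ U,
      s ≫ U.ι ≫ tZ = 𝟙 _ := by
  have hZ : IsLocallyNoetherian Z := LocallyOfFiniteType.isLocallyNoetherian tZ
  obtain ⟨_, ⟨U₀, hU₀, rfl⟩, hz, -⟩ := Z.isBasis_affineOpens.exists_subset_of_mem_open
    (Set.mem_univ z) isOpen_univ
  have hn : IsLocallyNoetherian (U₀ : Scheme.{u}) :=
    LocallyOfFiniteType.isLocallyNoetherian (Scheme.Opens.ι U₀ ≫ tZ)
  have hlc : LocallyConnectedSpace (U₀ : Scheme.{u}) :=
    Groth.Agent.Sga3C.LocConn.locallyConnectedSpace_of_isLocallyNoetherian _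
  let C : Set (U₀ : Scheme.{u}) := connectedComponent (⟨z, hz⟩ : (U₀ : Scheme.{u}))
  have hCo : IsOpen C := isOpen_connectedComponent
  have hCc : _root_.IsConnected C := isConnected_connectedComponent
  have hcomp : CompactSpace (U₀ : Scheme.{u}) :=
    isCompact_iff_compactSpace.1 (IsAffineOpen.isCompact hU₀)
  have hCk : IsCompact C := isClosed_connectedComponent.isCompact
  let U : Z.Opens := ⟨Scheme.Opens.ι U₀ '' C, (Scheme.Opens.ι U₀).isOpenEmbedding.isOpenMap _ hCo⟩
  have hU1 : _root_.IsConnected (U : Set Z) :=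
    hCc.image _ (Scheme.Opens.ι U₀).continuous.continuousOn
  have hU2 : IsCompact (U : Set Z) := hCk.image (Scheme.Opens.ι U₀).continuous
  have hU3 : ConnectedSpace U := isConnected_iff_connectedSpace.1 hU1
  have hU4 : CompactSpace U := isCompact_iff_compactSpace.1 hU2
  have hU5 : QuasiCompact (Scheme.Opens.ι U ≫ tZ) :=
    (HasAffineProperty.iff_of_isAffine (P := @QuasiCompact)).2 hU4
  have hU6 : Nonempty U := hU3.toNonempty
  refine ⟨U, ⟨⟨z, hz⟩, mem_connectedComponent, rfl⟩, hU3, ?_⟩
  exact PointAcyc.exists_point (Scheme.Opens.ι U ≫ tZ)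

end K833.ConnNhd
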