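import Groth.Agent.EtAdic.K833.LocCls

/-!
# Classes on a product vanishing on one fibre vanish locally on the base
-/

set_option autoImplicit false
universe u
open CategoryTheory CategoryTheory.Limits AlgebraicGeometry Opposite Abelian
open scoped Groth.Agent.Etcore.EtInst
open Groth.Agent.Etcore.EtInst
attribute [local instance] HasDerivedCategory.standard

namespace K833.EffFib

open Groth.Agent.Etcore.HpullCalc Groth.Agent.Etcore.PullCoh Groth.Agent.Etcore.HQ
  Groth.Agent.Etcore.HC Groth.Agent.Etcore Coeff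

attribute [local instance] pfl

/-- A class on `Y × F`, `Y` connected, which vanishes on the fibre over a rational point vanishes locally on `Y`. -/
theorem of_fibre {k : Type u} [Field k] [IsSepClosed k] {m : ℕ} (hm : (m : k) ≠ 0)
    {F X Y : Scheme.{u}} (qF : F ⟶ Spec (CommRingCat.of k)) [LocallyOfFiniteType qF] [QuasiCompact qF]
    (q : X ⟶ Y) [ConnectedSpace Y] (tY : Y ⟶ Spec (CommRingCat.of k))
    (y₀ : Spec (CommRingCat.of k) ⟶ Y) (hy₀ : y₀ ≫ tY = 𝟙 _) {y : X ⟶ F}
    (h : IsPullback y q qF tY) (M : Type) [AddCommGroup M] [Finite M] (hM : ∀ x : M, m • x = 0)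
    (t : ℕ) (z : HH X (EtCoh.const X M) t) (j : F ⟶ X) (hj : j ≫ y = 𝟙 F) (hjq : j ≫ q = qF ≫ y₀)
    (hz : HC M j t z = 0) (v : Y) :
    ∃ (V : Y.Etale) (v' : V.left), V.hom v' = v ∧ HC M (pullback.fst q V.hom) t z = 0 := by
  let T : Y.Etale := Scheme.Etale.mk (𝟙 Y)
  have hT : ConnectedSpace T.left := ‹ConnectedSpace Y›
  let y₁ : Spec (CommRingCat.of k) ⟶ T.left := y₀
  have h1 : IsPullback (pullback.fst q T.hom) (pullback.snd q T.hom) q T.hom :=
    IsPullback.of_hasPullback q T.hom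
  have h2 : IsPullback (pullback.fst q T.hom ≫ y) (pullback.snd q T.hom) qF (T.hom ≫ tY) :=
    h1.paste_horiz h
  have hy₁ : y₁ ≫ T.hom ≫ tY = 𝟙 _ := by
    change y₀ ≫ 𝟙 Y ≫ tY = 𝟙 _
    rw [Category.id_comp, hy₀]
  obtain ⟨a, ha⟩ := LocCls.exists_class hm qF q T y₁ hy₁ h2 M hM t
    (HC M (pullback.fst q T.hom) t z)
  have ha0 : a = 0 := by
    obtain ⟨V, f, v', hv', h'⟩ := ha (y₀ default)
    have hfw : f.left ≫ T.hom = V.hom := Over.w f.hom
    have hfw' : f.left = V.hom := by
      rw [← hfw]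
      exact (Category.comp_id _).symm
    obtain ⟨ζ, hζ, -⟩ := Scheme.exists_fac_of_etale_of_isSepClosed V.hom y₀ v'
      ((congrArg (fun g : V.left ⟶ Y => g v') hfw').symm.trans hv')
    let β : F ⟶ pullback q V.hom := pullback.lift j (qF ≫ ζ) (by rw [hjq, Category.assoc, hζ])
    have hb : β ≫ mp q q (𝟙 X) (Category.id_comp q) f ≫ pullback.fst q T.hom = j := by
      rw [mp_fst, Category.comp_id]
      exact pullback.lift_fst _ _ _
    have h3 := congrArg (HC M β t) h'
    rw [← HC_comp, ← HC_comp, ← HC_comp, ← HC_comp, Category.assoc, hb, Category.assoc,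
      reassoc_of% hb, hj, hz, HC_id] at h3
    exact h3.symm
  obtain ⟨V, f, v', hv', h'⟩ := ha v
  have hfw : f.left ≫ T.hom = V.hom := Over.w f.hom
  have hfw' : f.left = V.hom := by
    rw [← hfw]
    exact (Category.comp_id _).symm
  refine ⟨V, v', (congrArg (fun g : V.left ⟶ Y => g v') hfw').symm.trans hv', ?_⟩
  rw [ha0, map_zero, map_zero, ← HC_comp, mp_fst, Category.comp_id] at h'
  exact h'

end K833.EffFib
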