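import Groth.Agent.Sga7.H744.Trace
import Groth.Agent.Sga7.H758.FieldHom
import Groth.Agent.Etcore.Stalks
import Groth.Prelude.Def_SGA7IX
import Mathlib.AlgebraicGeometry.AlgClosed.Basic

/-!
# An isogeny of group schemes over an algebraically closed field as a Galois covering

The group of rational points of the kernel acts by right translations, transitively on the geometric fibres.
-/

set_option autoImplicit false
universe u

open CategoryTheory Limits MonoidalCategory CartesianMonoidalCategory MonObj GrpObj AlgebraicGeometry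

namespace K833.IsogGal

open Groth.Agent.EtpbcB Groth.Agent.Sga7.H744.RhoLC Groth.Agent.Sga7.H744.Trace

section point

variable {K : Type u} [Field K] [IsAlgClosed K]

/-- A field-valued point with closed image of a scheme over an algebraically closed field comes from a rational
point. -/
theorem eq_comp_pointOfClosedPoint {F : Scheme.{u}} (q : F ⟶ Spec (.of K)) [LocallyOfFiniteType q]
    {Ω : Type u} [Field Ω] (y : Spec (.of Ω) ⟶ F) (hx : IsClosed {y (IsLocalRing.closedPoint Ω)}) :
    y = (y ≫ q) ≫ pointOfClosedPoint q (y (IsLocalRing.closedPoint Ω)) hx := by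
  have h1 := Scheme.descResidueField_stalkClosedPointTo_fromSpecResidueField Ω F y
  have h2 : (F.fromSpecResidueField (y (IsLocalRing.closedPoint Ω)) ≫ q) ≫
      pointOfClosedPoint q (y (IsLocalRing.closedPoint Ω)) hx = F.fromSpecResidueField _ := by
    rw [pointOfClosedPoint, ← SpecMap_residueFieldIsoBase_inv q _ hx, ← Category.assoc, ← Spec.map_comp,
      Iso.hom_inv_id, Spec.map_id, Category.id_comp]
  conv_lhs => rw [← h1, ← h2]
  rw [← Category.assoc, ← Category.assoc, h1]

end point

variable {K : Type u} [Field K] [IsAlgClosed K] {G H : Over (Spec (CommRingCat.of K))} [GrpObj G]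
  [GrpObj H]

/-- Right translation by a rational point. -/
noncomputable def rt (g : 𝟙_ (Over (Spec (CommRingCat.of K))) ⟶ G) : G ⟶ G := 𝟙 G * (toUnit G ≫ g)

theorem comp_rt (g : 𝟙_ (Over (Spec (CommRingCat.of K))) ⟶ G) {T : Over (Spec (CommRingCat.of K))}
    (x : T ⟶ G) : x ≫ rt g = x * (toUnit T ≫ g) := by
  rw [rt, MonObj.comp_mul, Category.comp_id, ← Category.assoc, comp_toUnit]

variable (φ : G ⟶ H) [IsMonHom φ]

/-- The group of rational points of the kernel. -/
def kerPts : Subgroup (𝟙_ (Over (Spec (CommRingCat.of K))) ⟶ G) where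
  carrier := {g | g ≫ φ = 1}
  mul_mem' {a b} ha hb := by
    change (a * b) ≫ φ = 1
    rw [MonObj.mul_comp, show a ≫ φ = 1 from ha, show b ≫ φ = 1 from hb, _root_.mul_one]
  one_mem' := by
    change (1 : 𝟙_ (Over (Spec (CommRingCat.of K))) ⟶ G) ≫ φ = 1
    rw [MonObj.one_comp]
  inv_mem' {a} ha := by
    change a⁻¹ ≫ φ = 1
    rw [GrpObj.inv_comp, show a ≫ φ = 1 from ha, inv_one]

theorem rt_comp (g : kerPts φ) : rt g.1 ≫ φ = φ := by
  rw [rt, MonObj.mul_comp, Category.id_comp, Category.assoc, show g.1 ≫ φ = 1 from g.2,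
    MonObj.comp_one, _root_.mul_one]

theorem rt_mul (g h : 𝟙_ (Over (Spec (CommRingCat.of K))) ⟶ G) : rt (g * h) = rt g ≫ rt h := by
  rw [comp_rt, rt, rt, MonObj.comp_mul, _root_.mul_assoc]

section fin

variable {N : Over (Spec (CommRingCat.of K))} (i : N ⟶ G) (hi : AlgGrp.IsKernel i φ) [IsFinite N.hom]

theorem discreteTopology : DiscreteTopology N.left := by
  let s : Spec (CommRingCat.of K) := IsLocalRing.closedPoint K
  have h1 := N.hom.isDiscrete_preimage_singleton s
  have h2 : N.hom ⁻¹' {s} = Set.univ :=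
    Set.eq_univ_of_forall fun a => Subsingleton.elim (α := PrimeSpectrum K) _ _
  rw [h2] at h1
  have h3 : DiscreteTopology (Set.univ : Set N.left) := h1.to_subtype
  exact (Homeomorph.Set.univ N.left).symm.isEmbedding.discreteTopology

theorem finite_left : Finite N.left := by
  let s : Spec (CommRingCat.of K) := IsLocalRing.closedPoint K
  have h1 := N.hom.finite_preimage_singleton s
  have h2 : N.hom ⁻¹' {s} = Set.univ :=
    Set.eq_univ_of_forall fun a => Subsingleton.elim (α := PrimeSpectrum K) _ _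
  rw [h2] at h1
  exact Set.finite_univ_iff.1 h1

include hi in
/-- Points of the kernel with values in a field are rational points. -/
theorem exists_kerPts {Ω : Type u} [Field Ω] {T : Over (Spec (CommRingCat.of K))}
    (e : T.left = Spec (CommRingCat.of Ω)) (n : T ⟶ G) (hn : n ≫ φ = 1) :
    ∃ g : kerPts φ, n = toUnit T ≫ g.1 := by
  have h0 : n ≫ φ = toUnit T ≫ η[H] := hn
  let n' : T ⟶ N := hi.lift n (toUnit T) h0
  have hn' : n' ≫ i = n := hi.lift_fst _ _ _
  have hd : DiscreteTopology N.left := discreteTopology (N := N)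
  let y : Spec (CommRingCat.of Ω) ⟶ N.left := eqToHom e.symm ≫ n'.left
  have hx : IsClosed {y (IsLocalRing.closedPoint Ω)} := isClosed_discrete _
  let s := pointOfClosedPoint N.hom (y (IsLocalRing.closedPoint Ω)) hx
  have hs : s ≫ N.hom = 𝟙 _ := pointOfClosedPoint_comp _ _ _
  let g' : 𝟙_ (Over (Spec (CommRingCat.of K))) ⟶ N := Over.homMk s hs
  have h1 : n' = toUnit T ≫ g' := by
    ext1
    have h2 := eq_comp_pointOfClosedPoint N.hom y hx
    have h3 : n'.left = eqToHom e ≫ y := by simp [y]
    have h4 : (toUnit T).left = T.hom := by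
      have := Over.w (toUnit T)
      exact (Category.comp_id _).symm.trans this
    have h5 : (toUnit T ≫ g').left = T.hom ≫ s := by
      rw [Over.comp_left, h4]
      rfl
    rw [h5, h3, h2]
    have h6 : eqToHom e ≫ y ≫ N.hom = T.hom := by
      rw [← Category.assoc, ← h3]
      exact Over.w n'
    rw [← Category.assoc, h6]
  refine ⟨⟨g' ≫ i, ?_⟩, ?_⟩
  · change (g' ≫ i) ≫ φ = 1
    rw [Category.assoc, hi.w, ← Category.assoc, comp_toUnit]
    rfl
  · change n = toUnit T ≫ g' ≫ i
    rw [← hn', h1, Category.assoc]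

include hi in
theorem finite_kerPts : Finite (kerPts φ) := by
  have hf : Finite N.left := finite_left (N := N)
  have h0 : ∀ g : kerPts φ, g.1 ≫ φ = toUnit _ ≫ η[H] := fun g => g.2
  let l : kerPts φ → (𝟙_ (Over (Spec (CommRingCat.of K))) ⟶ N) := fun g => hi.lift g.1 (toUnit _) (h0 g)
  have hl : ∀ g, l g ≫ i = g.1 := fun g => hi.lift_fst _ _ _
  refine Finite.of_injective (fun g : kerPts φ => (l g).left (IsLocalRing.closedPoint K)) ?_
  intro a b hab
  apply Subtype.ext
  rw [← hl a, ← hl b]
  congr 1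
  ext1
  exact ext_of_apply_closedPoint_eq N.hom (Over.w (l a)) (Over.w (l b)) hab

include hi in
/-- Two geometric points of `G` with the same image in `H` differ by a rational point of the kernel. -/
theorem exists_rt {Ω : Type u} [Field Ω] (ξ₁ ξ₂ : Spec (CommRingCat.of Ω) ⟶ G.left)
    (h : ξ₁ ≫ φ.left = ξ₂ ≫ φ.left) : ∃ g : kerPts φ, ξ₂ = ξ₁ ≫ (rt g.1).left := by
  have hw : ξ₂ ≫ G.hom = ξ₁ ≫ G.hom := by
    rw [← Over.w φ, ← Category.assoc, ← h, Category.assoc]
  let T : Over (Spec (CommRingCat.of K)) := Over.mk (ξ₁ ≫ G.hom)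
  let a : T ⟶ G := Over.homMk ξ₁ rfl
  let b : T ⟶ G := Over.homMk ξ₂ hw
  have hab : a ≫ φ = b ≫ φ := by
    ext1
    exact h
  have hn : (a⁻¹ * b) ≫ φ = 1 := by
    rw [MonObj.mul_comp, GrpObj.inv_comp, hab, inv_mul_cancel]
  obtain ⟨g, hg⟩ := exists_kerPts φ i hi (T := T) (Ω := Ω) rfl (a⁻¹ * b) hn
  refine ⟨g, ?_⟩
  have h1 : b = a ≫ rt g.1 := by
    rw [comp_rt, ← hg, mul_inv_cancel_left]
  exact congrArg (fun f => f.left) h1

/-- The Galois data of an isogeny. -/
noncomputable def galData (hi : AlgGrp.IsKernel i φ) : GalData φ.left (kerPts φ) where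
  ρ g := (rt g.1).left
  hρ g := congrArg (fun f => f.left) (rt_comp φ g)
  mul g h := congrArg (fun f => f.left) (rt_mul g.1 h.1)
  trans U y₁ y₂ h := by
    obtain ⟨z, hz1, hz2⟩ := Scheme.Pullback.exists_preimage_pullback y₁ y₂ h
    obtain ⟨Ω, _, _, ζ, hζ⟩ := Groth.Agent.Etcore.Stalks.exists_geom z
    have h1 : (ζ ≫ pullback.fst _ _ ≫ ((EtCoh.bc φ.left).obj U).hom) ≫ φ.left =
        (ζ ≫ pullback.snd _ _ ≫ ((EtCoh.bc φ.left).obj U).hom) ≫ φ.left := by
      have h2 := Big.bc_condition φ.left U
      rw [Category.assoc, Category.assoc, Category.assoc, Category.assoc, ← h2,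
        pullback.condition_assoc]
    obtain ⟨g, hg⟩ := exists_rt φ i hi _ _ h1
    refine ⟨g, ?_⟩
    have h3 : (ζ ≫ pullback.fst _ _) ≫ tU (rt g.1).left φ.left
        (congrArg (fun f => f.left) (rt_comp φ g)) U = ζ ≫ pullback.snd _ _ := by
      apply Big.hom_ext_bc φ.left
      · rw [Category.assoc, tU_fst, Category.assoc, Category.assoc, pullback.condition]
      · rw [Category.assoc, tU_hom, Category.assoc, Category.assoc, hg, Category.assoc,
          Category.assoc]
    rw [← hz1, ← hz2, ← hζ]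
    exact congrArg (fun k => k (default : Spec (CommRingCat.of Ω))) h3

end fin

end K833.IsogGal
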