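import Groth.Agent.EtAdic.K833.Homotopy
import Groth.Agent.EtAdic.K833.IsogGal

/-!
# Translations act trivially on the cohomology of a connected group scheme
-/

set_option autoImplicit false
universe u

open CategoryTheory Limits MonoidalCategory CartesianMonoidalCategory MonObj GrpObj AlgebraicGeometry
open scoped Groth.Agent.Etcore.EtInst

namespace K833.TransTriv

open Groth.Agent.Etcore.EtInst Groth.Agent.Etcore.HpullCalc Groth.Agent.Etcore.HC IsogGal

variable {K : Type u} [Field K]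

theorem isPullback_left (X T : Over (Spec (CommRingCat.of K))) :
    IsPullback (fst X T).left (snd X T).left X.hom T.hom :=
  IsPullback.of_hasPullback X.hom T.hom

theorem toUnit_left (T : Over (Spec (CommRingCat.of K))) : (toUnit T).left = T.hom := by
  have := Over.w (toUnit T)
  exact (Category.comp_id _).symm.trans this

/-- **Homotopy invariance** for a morphism `X × T ⟶ Y`. -/
theorem HC_eq [IsSepClosed K] {m : ℕ} (hm : (m : K) ≠ 0) {X T Y : Over (Spec (CommRingCat.of K))}
    [LocallyOfFiniteType X.hom] [QuasiCompact X.hom] [ConnectedSpace T.left] (F : X ⊗ T ⟶ Y)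
    (t₀ t₁ : 𝟙_ (Over (Spec (CommRingCat.of K))) ⟶ T) (M : Type) [AddCommGroup M] [Finite M]
    (hM : ∀ x : M, m • x = 0) (n : ℕ) (c : HH Y.left (EtCoh.const Y.left M) n) :
    HC M (lift (𝟙 X) (toUnit X ≫ t₀) ≫ F).left n c =
      HC M (lift (𝟙 X) (toUnit X ≫ t₁) ≫ F).left n c := by
  obtain ⟨a, ha⟩ := Homotopy.exists_HC_eq n hm X.hom (isPullback_left X T) t₀.left
    (by exact Over.w t₀) M hM (HC M F.left n c)
  have key : ∀ t : 𝟙_ (Over (Spec (CommRingCat.of K))) ⟶ T,
      HC M (lift (𝟙 X) (toUnit X ≫ t) ≫ F).left n c = a := by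
    intro t
    rw [← ha t.left (lift (𝟙 X) (toUnit X ≫ t)).left
      (by rw [← Over.comp_left, lift_fst]; rfl)
      (by rw [← Over.comp_left, lift_snd, Over.comp_left, toUnit_left]), Over.comp_left, HC_comp]
  rw [key, key]

theorem HC_rt [IsSepClosed K] {m : ℕ} (hm : (m : K) ≠ 0) (G : Over (Spec (CommRingCat.of K)))
    [GrpObj G] [LocallyOfFiniteType G.hom] [QuasiCompact G.hom] [ConnectedSpace G.left]
    (g : 𝟙_ (Over (Spec (CommRingCat.of K))) ⟶ G) (M : Type) [AddCommGroup M] [Finite M]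
    (hM : ∀ x : M, m • x = 0) (n : ℕ) (c : HH G.left (EtCoh.const G.left M) n) :
    HC M (rt g).left n c = c := by
  have h : ∀ g : 𝟙_ (Over (Spec (CommRingCat.of K))) ⟶ G,
      lift (𝟙 G) (toUnit G ≫ g) ≫ μ[G] = rt g := fun g => rfl
  have h1 := HC_eq hm μ[G] g 1 M hM n c
  rw [h, h] at h1
  rw [h1]
  have h2 : rt (1 : 𝟙_ (Over (Spec (CommRingCat.of K))) ⟶ G) = 𝟙 G := by
    rw [rt, MonObj.comp_one, _root_.mul_one]
  rw [h2]
  exact HC_id M n c

end K833.TransTriv
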