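import Groth.Agent.Sga7.H744.Trace
import Groth.Agent.Etcore.ExtAdj
import Groth.Agent.Sga4A.IntegralSection
import Groth.Agent.Etcore.HC
import Groth.Agent.Lefpen.H712.HredH

/-!
# The transfer on cohomology for a finite group acting transitively on the fibres of an integral morphism

For `π : Y ⟶ X` integral, surjective, universally open and a finite group `H` acting on `Y` over `X`, transitively on
the fibres (`GalData`), the transfer `tm : H^n(Y, M) → H^n(X, M)` satisfies `π^* tm = ∑ g^*` and `tm π^* = |H|`.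
-/

set_option autoImplicit false
universe u w

open CategoryTheory CategoryTheory.Limits AlgebraicGeometry Opposite CategoryTheory.Abelian
open scoped Groth.Agent.Etcore.EtInst

namespace K833.Transfer

open Groth.Agent.Etcore.EtInst Groth.Agent.Etcore.HpullCalc Groth.Agent.Sga4B.ConstLC
open Groth.Agent.Sga7.H744.HcFun Groth.Agent.Sga7.H744.Rho Groth.Agent.Sga7.H744.LCConst
open Groth.Agent.Sga7.H744.RhoLC Groth.Agent.Sga7.H744.Trace
open Groth.Agent.EtpbcB.StrictLoc Groth.Agent.EtpbcB Groth.Agent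

variable {X Y : Scheme.{u}}

theorem precomp_bijective {A B : EtCoh.Ab X} (e : A ≅ B) (F : EtCoh.Ab X) (n : ℕ) :
    Function.Bijective (fun z : Ext.{u + 1} B F n => (Ext.mk₀ e.hom).comp z (zero_add n)) := by
  have h : ∀ (A B : EtCoh.Ab X) (e : A ≅ B) (z : Ext.{u + 1} B F n),
      (Ext.mk₀ e.inv).comp ((Ext.mk₀ e.hom).comp z (zero_add n)) (zero_add n) = z := by
    intro A B e z
    rw [← Ext.comp_assoc_of_second_deg_zero, Ext.mk₀_comp_mk₀, Iso.inv_hom_id, Ext.mk₀_id_comp]
  refine ⟨fun x y hxy => ?_, fun y => ⟨_, h _ _ e.symm y⟩⟩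
  have h1 := congrArg (fun z => (Ext.mk₀ e.inv).comp z (zero_add n)) hxy
  simp only [h] at h1
  exact h1

/-- The edge map of an integral morphism is bijective. -/
theorem eG_bijective (π : Y ⟶ X) [IsIntegralHom π] (F : EtCoh.Ab Y) (n : ℕ) :
    Function.Bijective (eG π F n) := by
  have : PreservesFiniteColimits (EtCoh.push π) :=
    Groth.Agent.Sga4A.EtSplit.preservesFiniteColimits_push π
  have h : ∀ z, eG π F n z = (Ext.mk₀ (EtCore.pullConst π ℤ).inv).comp
      ((Etcore.ExtAdj.extAdj (EtCoh.pullPushAdj π) (EtCoh.const X ℤ) F n).symm z) (zero_add n) := by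
    intro z
    rw [Etcore.ExtAdj.extAdj_symm_apply, eG_apply, HHmap_apply, hp_apply,
      Ext.comp_assoc_of_third_deg_zero]
  have h2 : ⇑(eG π F n) = (fun z : Ext ((EtCoh.pull π).obj (EtCoh.const X ℤ)) F n =>
      (Ext.mk₀ (EtCore.pullConst π ℤ).inv).comp z (zero_add n)) ∘
      (Etcore.ExtAdj.extAdj (EtCoh.pullPushAdj π) (EtCoh.const X ℤ) F n).symm := funext h
  rw [h2]
  exact (precomp_bijective (EtCore.pullConst π ℤ).symm F n).comp (AddEquiv.bijective _)

section

variable {π : Y ⟶ X} {H : Type w} [Group H] [Fintype H] (D : GalData π H) [Surjective π]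
  [UniversallyOpen π]

theorem LCres_tr (A : Type (u + 1)) [AddCommGroup A] :
    LCres π A ≫ tr D A = Fintype.card H • 𝟙 (LC X A) := by
  have h0 : Fintype.card H • 𝟙 (LC X A) = ∑ _g : H, 𝟙 (LC X A) := by
    rw [Finset.sum_const, Finset.card_univ]
  rw [h0]
  apply Sheaf.hom_ext
  apply NatTrans.ext
  funext U
  apply ConcreteCategory.hom_ext
  intro s
  refine Eq.trans ?_ (sect_sum Finset.univ _ U.unop s).symm
  apply comap_inj A (π := π) U.unop
  refine (trApp_spec D A U.unop _).trans ?_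
  apply LocallyConstant.ext
  intro y
  rw [nrm_apply]
  let s' : LocallyConstant U.unop.left A := s
  let ev : LocallyConstant U.unop.left A →+ A :=
    { toFun := fun f => f (Big.bcFst π U.unop y)
      map_zero' := rfl
      map_add' := fun _ _ => rfl }
  have h1 : ∀ (T : Finset H), ev (∑ _g ∈ T, s') = ∑ _g ∈ T, s' (Big.bcFst π U.unop y) := fun T =>
    map_sum ev _ _
  refine Eq.trans ?_ (h1 Finset.univ).symm
  refine Finset.sum_congr rfl fun g _ => ?_
  have h2 := congrArg (fun k => s' (k y)) (tU_fst (D.ρ g) π (D.hρ g) U.unop)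
  exact h2

/-- The transfer. -/
noncomputable def tm [IsIntegralHom π] (M : Type) [AddCommGroup M] (n : ℕ) :
    HH Y (EtCoh.const Y M) n →+ HH X (EtCoh.const X M) n :=
  (HHmap (constIso X M).inv n).comp ((HHmap (tr D (ULift.{u + 1} M)) n).comp
    ((AddEquiv.ofBijective _ (eG_bijective π (LC Y (ULift.{u + 1} M)) n)).symm.toAddMonoidHom.comp
      (HHmap (constIso Y M).hom n)))

theorem tm_apply [IsIntegralHom π] (M : Type) [AddCommGroup M] (n : ℕ)
    (z : HH X ((EtCoh.push π).obj (LC Y (ULift.{u + 1} M))) n) (c : HH Y (EtCoh.const Y M) n)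
    (h : eG π (LC Y (ULift.{u + 1} M)) n z = HHmap (constIso Y M).hom n c) :
    tm D M n c = HHmap (constIso X M).inv n (HHmap (tr D (ULift.{u + 1} M)) n z) := by
  have h1 : (AddEquiv.ofBijective _ (eG_bijective π (LC Y (ULift.{u + 1} M)) n)).symm
      (HHmap (constIso Y M).hom n c) = z := by
    rw [AddEquiv.symm_apply_eq]
    exact h.symm
  exact congrArg (fun z => HHmap (constIso X M).inv n (HHmap (tr D (ULift.{u + 1} M)) n z)) h1

/-- `π^* tm = ∑ g^*` -/
theorem HC_tm [IsIntegralHom π] (M : Type) [AddCommGroup M] (n : ℕ)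
    (c : HH Y (EtCoh.const Y M) n) :
    Etcore.HC.HC M π n (tm D M n c) = ∑ g, Etcore.HC.HC M (D.ρ g) n c := by
  obtain ⟨z, hz⟩ := (eG_bijective π (LC Y (ULift.{u + 1} M)) n).2 (HHmap (constIso Y M).hom n c)
  rw [tm_apply D M n z c hz]
  apply (HHmap_bijective (constIso Y M).hom n).1
  refine (lcm_constIso π M n _).symm.trans ?_
  rw [← HHmap_comp, Iso.inv_hom_id, HHmap_id, lcm_tr, map_sum, hz]
  refine Finset.sum_congr rfl fun g _ => ?_
  exact lcm_constIso (D.ρ g) M n c

/-- `tm π^* = |H|` -/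
theorem tm_HC [IsIntegralHom π] (M : Type) [AddCommGroup M] (n : ℕ)
    (a : HH X (EtCoh.const X M) n) :
    tm D M n (Etcore.HC.HC M π n a) = Fintype.card H • a := by
  have h1 : eG π (LC Y (ULift.{u + 1} M)) n (HHmap (LCres π (ULift.{u + 1} M)) n
      (HHmap (constIso X M).hom n a)) = HHmap (constIso Y M).hom n (Etcore.HC.HC M π n a) := by
    rw [← lcm_eq_eG]
    exact lcm_constIso π M n a
  have h4 : HHmap (constIso X M).inv n (HHmap (tr D (ULift.{u + 1} M)) n
      (HHmap (LCres π (ULift.{u + 1} M)) n (HHmap (constIso X M).hom n a))) =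
      HHmap ((constIso X M).hom ≫ (LCres π (ULift.{u + 1} M) ≫ tr D (ULift.{u + 1} M)) ≫
        (constIso X M).inv) n a := by
    rw [HHmap_comp, HHmap_comp, HHmap_comp]
  rw [tm_apply D M n _ _ h1, h4, LCres_tr]
  have h2 : (constIso X M).hom ≫ (Fintype.card H • 𝟙 (LC X (ULift.{u + 1} M))) ≫
      (constIso X M).inv = Fintype.card H • 𝟙 (EtCoh.const X M) := by
    rw [Preadditive.nsmul_comp, Category.id_comp, Preadditive.comp_nsmul, Iso.hom_inv_id]
  rw [h2]
  let m : (EtCoh.const X M ⟶ EtCoh.const X M) →+ HH X (EtCoh.const X M) n :=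
    AddMonoidHom.mk' (fun φ => HHmap φ n a) (fun φ ψ => by
      simp only [HHmap_apply, Ext.mk₀_add, Ext.comp_add])
  have h3 : m (Fintype.card H • 𝟙 (EtCoh.const X M)) =
      Fintype.card H • m (𝟙 (EtCoh.const X M)) := map_nsmul m _ _
  refine h3.trans ?_
  change _ • HHmap (𝟙 (EtCoh.const X M)) n a = _
  rw [HHmap_id]

end

end K833.Transfer
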