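import Mathlib.AlgebraicGeometry.Morphisms.FlatDescent
import Mathlib.CategoryTheory.Monoidal.Cartesian.Over
import Mathlib.CategoryTheory.Monoidal.Cartesian.Grp
import Mathlib.CategoryTheory.Limits.Constructions.Over.Connected

/-!
# The morphism `G / T ⟶ G / B` becomes a product with `U` over `G`, if `B = U T`
-/

set_option autoImplicit false
universe u v

open CategoryTheory MonoidalCategory CartesianMonoidalCategory MonObj GrpObj AlgebraicGeometry

namespace K833.HomSp

section Cat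

variable {C : Type u} [Category.{v} C] [CartesianMonoidalCategory C]

/-- product squares -/
theorem isPullback_whiskerRight {A B : C} (f : A ⟶ B) (T : C) :
    IsPullback (f ▷ T) (fst A T) (fst B T) f := by
  refine ⟨⟨by simp⟩, ⟨Limits.PullbackCone.IsLimit.mk _
    (fun s => lift s.snd (s.fst ≫ snd B T)) ?_ ?_ ?_⟩⟩
  · intro s
    apply CartesianMonoidalCategory.hom_ext
    · simp [s.condition]
    · simp
  · intro s
    simp
  · intro s m h1 h2
    apply CartesianMonoidalCategory.hom_ext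
    · simp [h2]
    · simp [← h1]

variable {G B T U XT XB : C} [GrpObj G] [GrpObj B] (iB : B ⟶ G) [IsMonHom iB] (j : T ⟶ B)
  (u : U ⟶ B) (qT : G ⟶ XT)

/-- `(g, y) ↦ g u(y)` -/
noncomputable def rho : G ⊗ U ⟶ G := (G ◁ (u ≫ iB)) ≫ μ[G]

/-- `(g, y, t) ↦ (g, u(y) j(t))` -/
noncomputable def theta : (G ⊗ U) ⊗ T ⟶ G ⊗ B := (α_ G U T).hom ≫ (G ◁ ((u ⊗ₘ j) ≫ μ[B]))

omit [GrpObj G] in
theorem theta_fst : theta (G := G) j u ≫ fst G B = fst _ _ ≫ fst _ _ := by
  simp [theta]

theorem theta_mul : theta (G := G) j u ≫ (G ◁ iB) ≫ μ[G] =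
    (rho iB u ▷ T) ≫ (G ◁ (j ≫ iB)) ≫ μ[G] := by
  have h1 : (G ◁ iB) ≫ μ[G] = fst G B * (snd G B ≫ iB) := by
    rw [Hom.mul_def]
    congr 1
    apply CartesianMonoidalCategory.hom_ext <;> simp
  have h2 : (G ◁ (j ≫ iB)) ≫ μ[G] = fst G T * (snd G T ≫ j ≫ iB) := by
    rw [Hom.mul_def]
    congr 1
    apply CartesianMonoidalCategory.hom_ext <;> simp
  have h3 : rho (G := G) iB u = fst G U * (snd G U ≫ u ≫ iB) := by
    rw [Hom.mul_def, rho]
    congr 1
    apply CartesianMonoidalCategory.hom_ext <;> simp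
  have h4 : theta (G := G) j u ≫ snd G B = (fst _ _ ≫ snd _ _ ≫ u) * (snd _ _ ≫ j) := by
    rw [Hom.mul_def, theta, Category.assoc, whiskerLeft_snd, ← Category.assoc, ← Category.assoc]
    congr 1
    apply CartesianMonoidalCategory.hom_ext <;> simp
  rw [h1, h2, comp_mul, comp_mul, theta_fst, ← Category.assoc, h4, MonObj.mul_comp, whiskerRight_fst,
    h3, comp_mul, whiskerRight_snd_assoc]
  simp only [Category.assoc, _root_.mul_assoc]

instance [IsIso ((u ⊗ₘ j) ≫ μ[B])] : IsIso (theta (G := G) j u) := by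
  unfold theta
  infer_instance

theorem isPullback_top [IsIso ((u ⊗ₘ j) ≫ μ[B])]
    (hT : IsPullback (fst G T) ((G ◁ (j ≫ iB)) ≫ μ[G]) qT qT) :
    IsPullback ((G ◁ iB) ≫ μ[G]) (CategoryTheory.inv (theta (G := G) j u) ≫ fst (G ⊗ U) T) qT
      (rho iB u ≫ qT) := by
  have h1 := (isPullback_whiskerRight (rho iB u) T).paste_horiz hT.flip
  refine IsPullback.of_iso h1 (asIso (theta (G := G) j u)) (Iso.refl _) (Iso.refl _) (Iso.refl _)
    ?_ ?_ ?_ ?_
  · simp [theta_mul]
  · simp
  · simp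
  · simp

end Cat

section Sch

variable {S : Scheme.{u}} {G B T U XT XB : Over S} [GrpObj G] [GrpObj B] (iB : B ⟶ G)
  [IsMonHom iB] (j : T ⟶ B) (u : U ⟶ B) (qT : G ⟶ XT) (qB : G ⟶ XB) (p : XT ⟶ XB)

/-- `G × U` is the pullback of `X_T ⟶ X_B` along `G ⟶ X_B`. -/
theorem isPullback_main [IsIso ((u ⊗ₘ j) ≫ μ[B])] (hp : qT ≫ p = qB)
    (hT : IsPullback (fst G T) ((G ◁ (j ≫ iB)) ≫ μ[G]) qT qT)
    (hB : IsPullback (fst G B) ((G ◁ iB) ≫ μ[G]) qB qB)
    [Flat qT.left] [Surjective qT.left] [QuasiCompact qT.left] :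
    IsPullback (rho iB u ≫ qT) (fst G U) p qB := by
  have hw : (rho iB u ≫ qT) ≫ p = fst G U ≫ qB := by
    have h1 : rho (G := G) iB u = (G ◁ u) ≫ (G ◁ iB) ≫ μ[G] := by
      rw [rho, MonoidalCategory.whiskerLeft_comp, Category.assoc]
    rw [Category.assoc, hp, h1, Category.assoc, ← hB.w, whiskerLeft_fst_assoc]
  let Y : Over S := Limits.pullback p qB
  let α : G ⊗ U ⟶ Y := Limits.pullback.lift (rho iB u ≫ qT) (fst G U) hw
  have hY : IsPullback (Limits.pullback.fst p qB) (Limits.pullback.snd p qB) p qB :=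
    IsPullback.of_hasPullback p qB
  have hY' : IsPullback (Limits.pullback.fst qT (Limits.pullback.fst p qB))
      (Limits.pullback.snd qT (Limits.pullback.fst p qB)) qT (Limits.pullback.fst p qB) :=
    IsPullback.of_hasPullback _ _
  have h2 := hY'.flip.paste_horiz hY.flip
  rw [hp] at h2
  let ε : G ⊗ B ≅ Limits.pullback qT (Limits.pullback.fst p qB) := hB.isoIsPullback _ _ h2
  have hε1 : ε.hom ≫ Limits.pullback.snd qT (Limits.pullback.fst p qB) ≫
      Limits.pullback.snd p qB = fst G B := hB.isoIsPullback_hom_fst _ _ h2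
  have hε2 : ε.hom ≫ Limits.pullback.fst qT (Limits.pullback.fst p qB) = (G ◁ iB) ≫ μ[G] :=
    hB.isoIsPullback_hom_snd _ _ h2
  let a : G ⊗ B ⟶ G ⊗ U := CategoryTheory.inv (theta (G := G) j u) ≫ fst (G ⊗ U) T
  have ha : a ≫ fst G U = fst G B := by
    rw [Category.assoc, IsIso.inv_comp_eq, theta_fst]
  have htop : IsPullback ((G ◁ iB) ≫ μ[G]) a qT (rho iB u ≫ qT) := isPullback_top iB j u qT hT
  have hα1 : α ≫ Limits.pullback.fst p qB = rho iB u ≫ qT := Limits.pullback.lift_fst _ _ _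
  have hα2 : α ≫ Limits.pullback.snd p qB = fst G U := Limits.pullback.lift_snd _ _ _
  have h3 : IsPullback ε.hom a (Limits.pullback.snd qT (Limits.pullback.fst p qB)) α := by
    refine IsPullback.of_right (h₁₂ := Limits.pullback.fst qT (Limits.pullback.fst p qB))
      (v₁₃ := qT) (h₂₂ := Limits.pullback.fst p qB) ?_ ?_ hY'
    · rw [hε2, hα1]
      exact htop
    · apply Limits.pullback.hom_ext
      · rw [Category.assoc, ← Limits.pullback.condition, ← Category.assoc, hε2, htop.w,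
          Category.assoc a α, hα1]
      · rw [Category.assoc, Category.assoc, hα2, ha]
        exact hε1
  have h4 := h3.map (Over.forget S)
  have h5 : (@Surjective ⊓ @Flat ⊓ @QuasiCompact : MorphismProperty Scheme.{u})
      (Limits.pullback.snd qT (Limits.pullback.fst p qB)).left :=
    MorphismProperty.of_isPullback (hY'.map (Over.forget S)) 
      ⟨⟨inferInstanceAs (Surjective qT.left), inferInstanceAs (Flat qT.left)⟩,
        inferInstanceAs (QuasiCompact qT.left)⟩
  have h6 : IsIso α.left := MorphismProperty.DescendsAlong.of_isPullback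
    (P := MorphismProperty.isomorphisms Scheme.{u}) h4 h5
      (inferInstanceAs (IsIso ((Over.forget S).map ε.hom)))
  have h6' : IsIso ((Over.forget S).map α) := h6
  have h7 : IsIso α := isIso_of_reflects_iso α (Over.forget S)
  exact IsPullback.of_iso hY (asIso α).symm (Iso.refl _) (Iso.refl _) (Iso.refl _)
    (by simp [← hα1]) (by simp [← hα2]) (by simp) (by simp)

end Sch

end K833.HomSp
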