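import Groth.Agent.EtAdic.K833.Triv
import Groth.Agent.EtAdic.K833.HomSp
import Groth.Agent.EtAdic.K833.AcycSm
import Groth.Agent.EtAdic.K833.FibSeq
import Groth.Prelude.Def_AGF
import Mathlib.AlgebraicGeometry.Morphisms.LocalFlatDescent

/-!
# The morphism `G / T ⟶ G / B` is acyclic if `B = U T` with `U` acyclic
-/

set_option autoImplicit false
universe u

open CategoryTheory CategoryTheory.Limits MonoidalCategory CartesianMonoidalCategory MonObj GrpObj AlgebraicGeometry
attribute [local instance] HasDerivedCategory.standard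

namespace K833.BorFib

open Groth.Agent.Sga4h Groth.Agent.Sga4h.Acyc

/-- orbit maps and equivariant morphisms -/
theorem orbitMap_comp {S : Scheme.{u}} {G XT XB : Over S} [GrpObj G] (aT : AlgGrp.Action G XT)
    (oT : 𝟙_ (Over S) ⟶ XT) (aB : AlgGrp.Action G XB) (oB : 𝟙_ (Over S) ⟶ XB) (p : XT ⟶ XB)
    (hpo : oT ≫ p = oB) (hpa : aT.act ≫ p = (G ◁ p) ≫ aB.act) :
    aT.orbitMap oT ≫ p = aB.orbitMap oB := by
  rw [AlgGrp.Action.orbitMap, AlgGrp.Action.orbitMap, Category.assoc, hpa, ← hpo,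
    lift_whiskerLeft_assoc, Category.assoc]

theorem smooth_of_isQuotient {S : Scheme.{u}} {G H X : Over S} [GrpObj G] [GrpObj H] (i : H ⟶ G)
    (q : G ⟶ X) [Smooth H.hom] [Flat q.left] [Surjective q.left] [QuasiCompact q.left]
    (h : IsPullback (fst G H) ((G ◁ i) ≫ μ[G]) q q) : Smooth q.left := by
  have h1 : IsPullback (fst G H).left (snd G H).left G.hom H.hom :=
    IsPullback.of_hasPullback G.hom H.hom
  have h2 : Smooth (fst G H).left :=
    MorphismProperty.of_isPullback h1.flip (inferInstance : Smooth H.hom)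
  exact MorphismProperty.DescendsAlong.of_isPullback (P := @Smooth) (Q := @Surjective ⊓ @Flat ⊓ @QuasiCompact)
    (h.map (Over.forget S)) ⟨⟨inferInstanceAs (Surjective q.left), inferInstanceAs (Flat q.left)⟩,
      inferInstanceAs (QuasiCompact q.left)⟩ h2

variable {k : Type u} [Field k] {m : ℕ} (hm : (m : k) ≠ 0)

include hm in
theorem acyc_main {G B T U XT XB : Over (Spec (CommRingCat.of k))} [GrpObj G] [GrpObj B] [GrpObj T]
    [LocallyOfFiniteType G.hom] [QuasiCompact G.hom] [Smooth B.hom] [LocallyOfFiniteType U.hom]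
    [QuasiCompact U.hom] (iB : B ⟶ G) [IsMonHom iB] (j : T ⟶ B) (u : U ⟶ B)
    [IsIso ((u ⊗ₘ j) ≫ μ[B])]
    (aT : AlgGrp.Action G XT) (oT : 𝟙_ (Over (Spec (CommRingCat.of k))) ⟶ XT)
    (hXT : AGF.IsQuotient (j ≫ iB) XT aT oT)
    (aB : AlgGrp.Action G XB) (oB : 𝟙_ (Over (Spec (CommRingCat.of k))) ⟶ XB)
    (hXB : AGF.IsQuotient iB XB aB oB)
    (p : XT ⟶ XB) (hpo : oT ≫ p = oB) (hpa : aT.act ≫ p = (G ◁ p) ≫ aB.act)
    (M : Type) [AddCommGroup M] [Finite M] (hM : ∀ x : M, m • x = 0)
    (hU : Acyc U.hom (EtCoh.const (Spec (CommRingCat.of k)) M)) :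
    Acyc p.left (EtCoh.const XB.left M) := by
  obtain ⟨hXT1, hXT2, hXT3, hXT4⟩ := hXT
  obtain ⟨hXB1, hXB2, hXB3, hXB4⟩ := hXB
  have hpq := orbitMap_comp aT oT aB oB p hpo hpa
  have hGn : IsLocallyNoetherian G.left := LocallyOfFiniteType.isLocallyNoetherian G.hom
  have hTn : IsLocallyNoetherian XT.left := LocallyOfFiniteType.isLocallyNoetherian XT.hom
  have hGc : CompactSpace G.left := HasAffineProperty.iff_of_isAffine (P := @QuasiCompact).1
    (inferInstance : QuasiCompact G.hom)
  have hTc : CompactSpace XT.left :=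
    (aT.orbitMap oT).left.surjective.compactSpace (aT.orbitMap oT).left.continuous
  have hGN : IsNoetherian G.left := ⟨⟩
  have hTN : IsNoetherian XT.left := ⟨⟩
  have hq1 : QuasiCompact (aT.orbitMap oT).left := inferInstance
  have hq2 : QuasiCompact (aB.orbitMap oB).left := inferInstance
  have hq3 : QuasiCompact p.left := inferInstance
  have hq4 : QuasiSeparated p.left := inferInstance
  have hsm : Smooth (aB.orbitMap oB).left := smooth_of_isQuotient iB _ hXB4
  have hmain := HomSp.isPullback_main iB j u (aT.orbitMap oT) (aB.orbitMap oB) p hpq hXT4 hXB4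
  have h1 : IsPullback (fst G U).left (snd G U).left G.hom U.hom :=
    IsPullback.of_hasPullback G.hom U.hom
  have h2 := Triv.acyc_baseChange hm U.hom h1.flip M hM hU
  have hu : IsUnit (m : Γ(XB.left, ⊤)) := FibSeq.isUnit_cast hm XB.hom
  have h3 : IsPullback (HomSp.rho iB u ≫ aT.orbitMap oT).left (fst G U).left p.left
      (aB.orbitMap oB).left := hmain.map (Over.forget _)
  exact AcycSm.acyc_of_smooth_cover h3 m hu _
    (Groth.Agent.Etrest.ConstBasic.killedBy_const _ M m hM)
    (h2.of_iso (EtCore.pullConst _ M).symm)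

end K833.BorFib
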