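import Groth.Agent.EtAdic.K833.FibSeq
import Groth.Agent.EtAdic.K833.AcycDesc
import Groth.Agent.EtpbcA.CdEtLeray

/-!
# Cohomological vanishing for extensions of group schemes
-/

set_option autoImplicit false
universe u

open CategoryTheory CategoryTheory.Limits MonoidalCategory CartesianMonoidalCategory MonObj GrpObj AlgebraicGeometry
attribute [local instance] HasDerivedCategory.standard

namespace K833.CdSeq

open Groth.Agent.Sga4h

variable {k : Type u} [Field k] [IsSepClosed k] {m : ℕ} (hm : (m : k) ≠ 0)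

include hm in
theorem isZero_Rpush {K G Q : Over (Spec (CommRingCat.of k))} [GrpObj G] [GrpObj Q]
    (i : K ⟶ G) (π : G ⟶ Q) [IsMonHom π] (hker : AlgGrp.IsKernel i π) [Smooth π.left]
    [QuasiCompact π.left] [QuasiSeparated π.left] [Surjective π.left]
    [LocallyOfFiniteType K.hom] [QuasiCompact K.hom]
    (M : Type) [AddCommGroup M] [Finite M] (hM : ∀ x : M, m • x = 0) (q : ℕ)
    (h : IsZero ((EtCoh.Rpush K.hom q).obj (EtCoh.const K.left M))) :
    IsZero ((EtCoh.Rpush π.left q).obj (EtCoh.const G.left M)) := by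
  obtain ⟨e⟩ := FibSeq.exists_iso hm i π hker M hM q
  exact AcycDesc.isZero_of_pull π.left _ (((EtCoh.pull G.hom).map_isZero h).of_iso e)

include hm in
theorem subsingleton_H {K G Q : Over (Spec (CommRingCat.of k))} [GrpObj G] [GrpObj Q]
    (i : K ⟶ G) (π : G ⟶ Q) [IsMonHom π] (hker : AlgGrp.IsKernel i π) [Smooth π.left]
    [QuasiCompact π.left] [QuasiSeparated π.left] [Surjective π.left]
    [LocallyOfFiniteType K.hom] [QuasiCompact K.hom]
    (M : Type) [AddCommGroup M] [Finite M] (hM : ∀ x : M, m • x = 0) (a b : ℕ)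
    (h : ∀ q, a < q → IsZero ((EtCoh.Rpush K.hom q).obj (EtCoh.const K.left M)))
    (hQ : EtCoh.CohDimLE Q.left b) (r : ℕ) (hr : b + a < r) :
    Subsingleton (EtCoh.H G.left (EtCoh.const G.left M) r) := by
  have hm0 : 0 < m := by
    rcases Nat.eq_zero_or_pos m with h | h
    · subst h; simp at hm
    · exact h
  have hk : EtCoh.KilledBy m (EtCoh.const G.left M) :=
    Groth.Agent.Etrest.ConstBasic.killedBy_const _ M m hM
  refine Groth.Agent.EtpbcA.CdEtLeray.H_subsingleton_of_leray π.left _ r ?_ fun p q hpq => ?_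
  · refine hQ _ ?_ r (by omega)
    exact Groth.Agent.EtpbcB.TorsionBasic.isTorsion_of_killedBy hm0
      (Groth.Agent.EtpbcB.TorsionBasic.killedBy_map (EtCoh.push π.left) m _ hk)
  · by_cases hq : a < q + 1
    · exact Groth.Agent.EtpbcA.CdEtLeray.H_subsingleton_of_isZero
        (isZero_Rpush hm i π hker M hM _ (h _ hq)) p
    · exact hQ _ (Groth.Agent.EtpbcB.TorsionBasic.isTorsion_of_killedBy hm0
        (Groth.Agent.EtpbcB.TorsionBasic.killedBy_map (EtCoh.Rpush π.left (q + 1)) m _ hk)) p
        (by omega)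

end K833.CdSeq
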