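import Groth.Agent.EtAdic.K833.Curve
import Groth.Agent.Books.AlgPts

/-!
# Points with a given limit lie in an invariant open chart around the limit
-/

set_option autoImplicit false
universe u

open CategoryTheory MonoidalCategory CartesianMonoidalCategory MonObj GrpObj AlgebraicGeometry
open Groth.Agent.Sga3B.Parab Groth.Agent.Books.BorelOrb Groth.Agent.Books.AlgPts
open scoped LaurentPolynomial Polynomial

namespace K833.Chart

open Curve

variable {K : Type u} [Field K] {G X V : Over (Spec (CommRingCat.of K))} [GrpObj G] [GrpObj V]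
  (a : AlgGrp.Action G X) (ρ : Red.Gm (Spec (CommRingCat.of K)) ⟶ G) [IsMonHom ρ]
  (v : V ⟶ G) [IsMonHom v] (x : 𝟙_ (Over (Spec (CommRingCat.of K))) ⟶ X)

/-- `ρ` normalizes `V` -/
def Normalizes : Prop :=
  ∀ (Y : Over (Spec (CommRingCat.of K))) (t : Y ⟶ Red.Gm (Spec (CommRingCat.of K))) (w : Y ⟶ V),
    ∃ w' : Y ⟶ V, (t ≫ ρ) * (w ≫ v) * (t ≫ ρ)⁻¹ = w' ≫ v

omit [IsMonHom ρ] in
theorem sm_fixed {x} (hx : Fixed a ρ x) {Y : Over (Spec (CommRingCat.of K))}
    (t : Y ⟶ Red.Gm (Spec (CommRingCat.of K))) : sm a (t ≫ ρ) (toUnit Y ≫ x) = toUnit Y ≫ x := by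
  have h1 := congrArg (fun z => t ≫ z) hx
  simp only [comp_sm] at h1
  rw [← Category.assoc, toUnit_unique (t ≫ toUnit _) (toUnit _)] at h1
  exact h1

theorem sm_fixed_inv {x} (hx : Fixed a ρ x) {Y : Over (Spec (CommRingCat.of K))}
    (t : Y ⟶ Red.Gm (Spec (CommRingCat.of K))) :
    sm a (t ≫ ρ)⁻¹ (toUnit Y ≫ x) = toUnit Y ≫ x := by
  have h := sm_fixed a ρ hx t⁻¹
  rwa [GrpObj.inv_comp] at h

theorem one_comp_orbit : (1 : 𝟙_ (Over (Spec (CommRingCat.of K))) ⟶ V) ≫ v ≫ a.orbitMap x = x := by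
  rw [← Category.assoc, MonObj.one_comp, comp_orbitMap, one_sm, toUnit_unique (toUnit _) (𝟙 _),
    Category.id_comp]

omit [GrpObj V] [IsMonHom v] in
/-- the translate of a point of the chart by the curve stays in the chart -/
theorem exists_crv (hx : Fixed a ρ x) (hn : Normalizes ρ v)
    (w : 𝟙_ (Over (Spec (CommRingCat.of K))) ⟶ V) :
    ∃ w' : A1' K ⟶ V, (tp K ≫ ρ) * (toUnit _ ≫ w ≫ v) * (tp K ≫ ρ)⁻¹ = w' ≫ v ∧
      w' ≫ v ≫ a.orbitMap x = crv a ρ (w ≫ v ≫ a.orbitMap x) := by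
  obtain ⟨w', hw'⟩ := hn (A1' K) (tp K) (toUnit _ ≫ w)
  rw [Category.assoc] at hw'
  refine ⟨w', hw', ?_⟩
  rw [← Category.assoc, ← hw', comp_orbitMap, crv]
  have h1 : toUnit (A1' K) ≫ w ≫ v ≫ a.orbitMap x = sm a (toUnit _ ≫ w ≫ v) (toUnit _ ≫ x) := by
    rw [← comp_orbitMap]
    simp only [Category.assoc]
  rw [h1, mul_sm, mul_sm, sm_fixed_inv a ρ hx]

variable [IsAlgClosed K] [LocallyOfFiniteType X.hom] [LocallyOfFiniteType V.hom]

omit [IsAlgClosed K] in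
theorem lft_A1' : LocallyOfFiniteType (A1' K).hom := by
  have h1 : (algebraMap K K[T;T⁻¹]).FiniteType := by
    rw [RingHom.finiteType_algebraMap]
    infer_instance
  have h2 : LocallyOfFiniteType (Spec.map (CommRingCat.ofHom (algebraMap K K[T;T⁻¹]))) :=
    HasRingHomProperty.Spec_iff.2 h1
  change LocallyOfFiniteType (Spec.map (CommRingCat.ofHom (algebraMap K K[T;T⁻¹])) ≫ 𝟙 _)
  rwa [Category.comp_id]

variable {ρ v x}

/-- Step 1: a point with limit `x` lies in the chart. -/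
theorem exists_point [IsOpenImmersion (v ≫ a.orbitMap x).left] (hx : Fixed a ρ x)
    (hn : Normalizes ρ v) {y : 𝟙_ (Over (Spec (CommRingCat.of K))) ⟶ X} (h : LimPt a ρ y x) :
    ∃ w : 𝟙_ (Over (Spec (CommRingCat.of K))) ⟶ V, w ≫ v ≫ a.orbitMap x = y := by
  obtain ⟨f, hf, hf0⟩ := h
  set α := v ≫ a.orbitMap x with hα
  have hW : IsOpen (f.left ⁻¹' Set.range α.left) :=
    α.left.isOpenEmbedding.isOpen_range.preimage f.left.continuous
  have h0 : pt (zr K) ∈ f.left ⁻¹' Set.range α.left := by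
    rw [Set.mem_preimage, ← pt_comp, hf0, ← one_comp_orbit a v x, pt_comp]
    exact ⟨_, rfl⟩
  have hd := isDominant_inc (K := K)
  obtain ⟨_, hz, z, rfl⟩ := hd.denseRange.inter_open_nonempty _ hW ⟨_, h0⟩
  have := lft_A1' (K := K)
  obtain ⟨s, hs⟩ := exists_pt_mem (X := A1' K)
    (U := (inc K).left ⁻¹' (f.left ⁻¹' Set.range α.left)) ⟨z, hz⟩
    (hW.preimage (inc K).left.continuous).isLocallyClosed
  rw [Set.mem_preimage, ← pt_comp, Set.mem_preimage, ← pt_comp, Category.assoc, hf, crv,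
    comp_sm] at hs
  obtain ⟨w₁, hw₁⟩ := exists_comp_eq_of_pt_mem_range α _ hs
  have h1 : s ≫ toUnit _ ≫ y = y := by
    rw [← Category.assoc, toUnit_unique (s ≫ toUnit _) (𝟙 _), Category.id_comp]
  rw [h1] at hw₁
  obtain ⟨w, hw⟩ := hn _ (s ≫ tp K)⁻¹ w₁
  refine ⟨w, ?_⟩
  rw [← Category.assoc, ← hw, GrpObj.inv_comp, _root_.inv_inv, comp_orbitMap, mul_sm, mul_sm,
    sm_fixed a ρ hx, ← comp_orbitMap, Category.assoc w₁ v, ← hα, hw₁, ← mul_sm, Category.assoc,
    inv_mul_cancel, one_sm]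

/-- **Points with limit `x`**: they are of the form `w x` with `w ∈ V ∩ U_G(ρ)`. -/
theorem exists_limit [IsOpenImmersion (v ≫ a.orbitMap x).left] (hx : Fixed a ρ x)
    (hn : Normalizes ρ v) {y : 𝟙_ (Over (Spec (CommRingCat.of K))) ⟶ X} (h : LimPt a ρ y x) :
    ∃ w : 𝟙_ (Over (Spec (CommRingCat.of K))) ⟶ V, w ≫ v ≫ a.orbitMap x = y ∧
      ∃ h : A1 K ⟶ V, inc K ≫ h ≫ v = (tp K ≫ ρ) * (toUnit _ ≫ w ≫ v) * (tp K ≫ ρ)⁻¹ ∧
        zr K ≫ h = 1 := by
  obtain ⟨w, hw⟩ := exists_point a hx hn h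
  obtain ⟨f, hf, hf0⟩ := h
  obtain ⟨w', hw', hw''⟩ := exists_crv a ρ v x hx hn w
  refine ⟨w, hw, ?_⟩
  rw [hw] at hw''
  set α := v ≫ a.orbitMap x with hα
  have hr : Set.range f.left ⊆ Set.range α.left := by
    rintro _ ⟨z, rfl⟩
    rcases range_union z with ⟨z', rfl⟩ | rfl
    · rw [← Scheme.Hom.comp_apply, ← Over.comp_left, hf, ← hw'']
      exact ⟨w'.left z', by rw [← Scheme.Hom.comp_apply, ← Over.comp_left]⟩
    · have h2 : f.left ((zr K).left (IsLocalRing.closedPoint K)) = pt (zr K ≫ f) := (pt_comp _ _).symm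
      rw [h2, hf0, ← one_comp_orbit a v x, pt_comp]
      exact ⟨_, rfl⟩
  let l : A1 K ⟶ V := Over.homMk (IsOpenImmersion.lift α.left f.left hr) (by
    rw [← Over.w α, ← Category.assoc, IsOpenImmersion.lift_fac, Over.w])
  have hl : l ≫ α = f := by
    ext1
    exact IsOpenImmersion.lift_fac _ _ _
  have hmono : Mono α := by
    have : Mono ((Over.forget _).map α) := inferInstanceAs (Mono α.left)
    exact (Over.forget _).mono_of_mono_map this
  refine ⟨l, ?_, ?_⟩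
  · have h3 : inc K ≫ l = w' := by
      rw [← cancel_mono α, Category.assoc, hl, hf, hw'']
    rw [← Category.assoc, h3, hw']
  · rw [← cancel_mono α, Category.assoc, hl, hf0]
    exact (one_comp_orbit a v x).symm

end K833.Chart
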