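import Groth.Agent.Sga3B.Parab.DynLevi998
import Groth.Agent.Sga3B.Parab.OppPts172
import Groth.Agent.RedSub.H659.UVec
import Groth.Agent.EtAdic.K833.Chart
import Mathlib.LinearAlgebra.SymmetricAlgebra.Basis

/-!
# The cell of a torus-fixed point

`P = P_G(ν) = T U`, `T = Z_G(ν)` commutative, `μ : 𝔾_m ⟶ T`: the subgroup `U_P(μ)` is contained in `U = U_G(ν)`.
-/

set_option autoImplicit false
universe u

open CategoryTheory MonoidalCategory CartesianMonoidalCategory MonObj GrpObj AlgebraicGeometry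
open Groth.Agent.Sga3B.Parab Groth.Agent.Sga3B.Parab.Dyn998 Groth.Agent.Sga3B.Parab.DynLevi998
open Groth.Agent.Sga3B.Parab.DynExist998 Groth.Agent.Sga3B.Parab.DynSmooth998
open Groth.Agent.Books.BorelOrb
open scoped LaurentPolynomial Polynomial

namespace K833.Cell

section Proj

variable {S : Scheme.{u}} {G T P V H : Over S} [GrpObj G] [GrpObj T] [GrpObj P] [GrpObj V]
  [GrpObj H] {nu : Red.Gm S ⟶ G} [IsMonHom nu] [IsAffineHom G.hom]
  {p : P ⟶ G} (v : V ⟶ P) (z : T ⟶ P) {mu : Red.Gm S ⟶ T} {h : H ⟶ P}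

/-- the projection `P = T U ⟶ T` -/
noncomputable def pj [IsIso ((z ⊗ₘ v) ≫ μ[P])] : P ⟶ T := inv ((z ⊗ₘ v) ≫ μ[P]) ≫ fst T V

omit [GrpObj T] [GrpObj V] in
theorem mul_pj [IsIso ((z ⊗ₘ v) ≫ μ[P])] {Y : Over S} (t : Y ⟶ T) (w : Y ⟶ V) :
    ((t ≫ z) * (w ≫ v)) ≫ pj v z = t := by
  have h1 : (t ≫ z) * (w ≫ v) = lift t w ≫ (z ⊗ₘ v) ≫ μ[P] := by
    rw [comp_mul_tensor, lift_fst_assoc, lift_snd_assoc]
  rw [h1, pj, Category.assoc, IsIso.hom_inv_id_assoc, lift_fst]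

omit [GrpObj T] [GrpObj V] in
theorem exists_eq [IsIso ((z ⊗ₘ v) ≫ μ[P])] {Y : Over S} (q : Y ⟶ P) :
    ∃ (t : Y ⟶ T) (w : Y ⟶ V), (t ≫ z) * (w ≫ v) = q := by
  refine ⟨(q ≫ inv ((z ⊗ₘ v) ≫ μ[P])) ≫ fst _ _, (q ≫ inv ((z ⊗ₘ v) ≫ μ[P])) ≫ snd _ _, ?_⟩
  have h1 := comp_mul_tensor z v (q ≫ inv ((z ⊗ₘ v) ≫ μ[P]))
  rw [Category.assoc q, IsIso.inv_hom_id, Category.comp_id] at h1
  rw [Category.assoc, Category.assoc]
  exact h1.symm

variable {v z}

omit [IsMonHom nu] [IsAffineHom G.hom] in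
theorem conj_pj (hp : IsDynP nu p) [IsMonHom z] (hv : IsDynU nu (v ≫ p))
    (hT : ∀ {Y : Over S} (a b : Y ⟶ T), a * b = b * a)
    [IsIso ((z ⊗ₘ v) ≫ μ[P])] {Y : Over S} (s : Y ⟶ T) (q : Y ⟶ P) :
    ((s ≫ z) * q * (s ≫ z)⁻¹) ≫ pj v z = q ≫ pj v z := by
  obtain ⟨t, w, rfl⟩ := exists_eq v z q
  obtain ⟨w', hw'⟩ := isNormalHom_uP hp hv Y (s ≫ z) w
  have h1 : (s ≫ z) * ((t ≫ z) * (w ≫ v)) * (s ≫ z)⁻¹ = (t ≫ z) * (w' ≫ v) := by
    rw [← hw']
    have h2 : (s ≫ z) * (t ≫ z) = (t ≫ z) * (s ≫ z) := by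
      rw [← MonObj.mul_comp, hT, MonObj.mul_comp]
    rw [← _root_.mul_assoc, h2]
    group
  rw [h1, mul_pj, mul_pj]

/-- The subgroup `U_P(μ)` is contained in `U`. -/
theorem exists_factor (hp : IsDynP nu p) (hz : IsDynZ nu (z ≫ p)) (hv : IsDynU nu (v ≫ p))
    (hT : ∀ {Y : Over S} (a b : Y ⟶ T), a * b = b * a) [IsMonHom mu]
    (hh : IsDynU (mu ≫ z) h) : ∃ f : H ⟶ V, f ≫ v = h := by
  have := hp.isMonHom
  have := hp.mono
  have := isMonHom_uP hp hv
  have := isMonHom_zP hp hz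
  have := isIso_levi hp hz hv
  have hc : IsClosedImmersion (z ≫ p).left := hz.isClosedImmersion
  have hTa : IsAffineHom T.hom := by
    rw [← Over.w (z ≫ p)]
    infer_instance
  have key : h ≫ pj v z = 1 := by
    refine Groth.Agent.Sga3B.Parab.AffPts998.hom_ext_aff fun C _ c y => ?_
    obtain ⟨f, hf, hf0⟩ := hh.ptU C c y
    have h1 : f ≫ pj v z = linPr C c ≫ y ≫ h ≫ pj v z := by
      apply eq_of_toLin
      rw [← Category.assoc, hf, orb, ← Category.assoc (tPt C c) mu z, conj_pj hp hv hT]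
      rw [toLin_linPr_assoc, Category.assoc, Category.assoc]
    have h2 := congrArg (fun x => zeroSec C c ≫ x) h1
    simp only [zeroSec_linPr_assoc] at h2
    rw [← Category.assoc, hf0] at h2
    rw [← h2]
    have h3 := mul_pj v z (1 : aff C c ⟶ T) (1 : aff C c ⟶ V)
    rw [MonObj.one_comp, MonObj.one_comp, _root_.mul_one] at h3
    rw [h3, MonObj.comp_one]
  obtain ⟨t, w, htw⟩ := exists_eq v z h
  have h4 : t = 1 := by rw [← key, ← htw, mul_pj]
  refine ⟨w, ?_⟩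
  rw [← htw, h4, MonObj.one_comp, _root_.one_mul]

omit [GrpObj T] [IsAffineHom G.hom] [IsMonHom nu] in
theorem orb_comp_hom [IsMonHom p] (lam : Red.Gm S ⟶ P) {C : Type u} [CommRing C]
    {c : Spec (CommRingCat.of C) ⟶ S} (g : aff C c ⟶ P) : orb (lam ≫ p) (g ≫ p) = orb lam g ≫ p := by
  rw [orb, orb, MonObj.mul_comp, MonObj.mul_comp, GrpObj.inv_comp]
  simp only [Category.assoc]

omit [GrpObj T] [IsAffineHom G.hom] [IsMonHom nu] in
theorem limOne_comp_hom [IsMonHom p] {lam : Red.Gm S ⟶ P} {C : Type u} [CommRing C]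
    {c : Spec (CommRingCat.of C) ⟶ S} {g : aff C c ⟶ P} (h : LimOne lam g) :
    LimOne (lam ≫ p) (g ≫ p) := by
  obtain ⟨f, hf, hf0⟩ := h
  refine ⟨f ≫ p, ?_, ?_⟩
  · rw [← Category.assoc, hf, orb_comp_hom]
  · rw [← Category.assoc, hf0, MonObj.one_comp]

end Proj

section Field

variable {K : Type u} [Field K]

/-- `U_P(λ)` over a field is an affine space. -/
theorem exists_mvPolynomial {P H : Over (Spec (CommRingCat.of K))} [GrpObj P] [GrpObj H]
    [IsAffineHom P.hom] [Smooth P.hom] {lam : Red.Gm (Spec (CommRingCat.of K)) ⟶ P} [IsMonHom lam]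
    {h : H ⟶ P} (hh : IsDynU lam h) :
    ∃ (d : ℕ) (e : H.left ≅ Spec (CommRingCat.of (MvPolynomial (Fin d) K))),
      e.hom ≫ Spec.map (CommRingCat.ofHom (algebraMap K (MvPolynomial (Fin d) K))) = H.hom := by
  obtain ⟨E, _, _, _, -, ⟨e⟩⟩ := Groth.Agent.RedSub.H659.UVec.exists_vec hh
  let b : Module.Basis (Fin (Module.finrank K E)) K E := Module.finBasis K E
  let φ : SymmetricAlgebra K E ≃ₐ[K] MvPolynomial (Fin (Module.finrank K E)) K :=
    SymmetricAlgebra.equivMvPolynomial b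
  let s : Spec (CommRingCat.of (MvPolynomial (Fin (Module.finrank K E)) K)) ≅
      Spec (CommRingCat.of (SymmetricAlgebra K E)) :=
    Scheme.Spec.mapIso φ.toRingEquiv.toCommRingCatIso.op
  have hs : s.hom ≫ Spec.map (CommRingCat.ofHom (algebraMap K (SymmetricAlgebra K E))) =
      Spec.map (CommRingCat.ofHom
        (algebraMap K (MvPolynomial (Fin (Module.finrank K E)) K))) := by
    change Spec.map _ ≫ Spec.map _ = Spec.map _
    rw [← Spec.map_comp]
    congr 1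
    apply CommRingCat.hom_ext
    apply RingHom.ext
    intro x
    exact φ.commutes x
  let eU : H.left ≅ Spec (CommRingCat.of (SymmetricAlgebra K E)) := (Over.forget _).mapIso e
  have heU : eU.hom ≫ Spec.map (CommRingCat.ofHom (algebraMap K (SymmetricAlgebra K E))) = H.hom :=
    Over.w e.hom
  refine ⟨_, eU ≪≫ s.symm, ?_⟩
  rw [Iso.trans_hom, Category.assoc, ← hs, Iso.symm_hom, Iso.inv_hom_id_assoc, heU]

variable {G X T V : Over (Spec (CommRingCat.of K))} [GrpObj G] [GrpObj T] [GrpObj V]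
  {a : AlgGrp.Action G X} {x : 𝟙_ (Over (Spec (CommRingCat.of K))) ⟶ X} {bT : T ⟶ G}
  {v : V ⟶ G} {nu : Red.Gm (Spec (CommRingCat.of K)) ⟶ G}
  {mu : Red.Gm (Spec (CommRingCat.of K)) ⟶ T}

variable (a x) in
/-- `x` is fixed by `T` -/
def TFix (bT : T ⟶ G) : Prop := sm a bT (toUnit T ≫ x) = toUnit T ≫ x

omit [GrpObj T] in
theorem TFix.fixed (h : TFix a x bT) (mu : Red.Gm (Spec (CommRingCat.of K)) ⟶ T) :
    Curve.Fixed a (mu ≫ bT) x := by
  have h1 := congrArg (fun y => mu ≫ y) h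
  simp only [comp_sm] at h1
  rw [← Category.assoc mu (toUnit T) x, toUnit_unique (mu ≫ toUnit T) (toUnit _)] at h1
  exact h1

/-- `T = Z_G(ν)` normalizes `U_G(ν)` -/
theorem normalizes (hz : IsDynZ nu bT) (hv : IsDynU nu v)
    (mu : Red.Gm (Spec (CommRingCat.of K)) ⟶ T) : Chart.Normalizes (mu ≫ bT) v := by
  intro Y t w
  have := hz.isMonHom
  obtain ⟨w', hw'⟩ := (hv.iff_ptU Y ((t ≫ mu ≫ bT) * (w ≫ v) * (t ≫ mu ≫ bT)⁻¹)).2 (by
    intro C _ c y
    have h1 := (hz.ptZ C c (y ≫ t ≫ mu)).limEx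
    have h2 := (hv.ptU C c (y ≫ w)).conj h1
    rw [MonObj.comp_mul, MonObj.comp_mul, GrpObj.comp_inv]
    simpa only [Category.assoc] using h2)
  exact ⟨w', hw'.symm⟩

variable [IsAlgClosed K] [LocallyOfFiniteType X.hom] [IsAffineHom G.hom] [Smooth G.hom]
  [IsMonHom nu] [IsMonHom mu]

/-- **The cell of a `T`-fixed point `x`**: an immersed affine space whose rational points are the points with limit
`x`. -/
theorem exists_cell (hT : ∀ {Y : Over (Spec (CommRingCat.of K))} (a b : Y ⟶ T), a * b = b * a)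
    (hz : IsDynZ nu bT) (hv : IsDynU nu v) [IsOpenImmersion (v ≫ a.orbitMap x).left]
    (hx : TFix a x bT) :
    ∃ (H : Over (Spec (CommRingCat.of K))) (c : H ⟶ X) (d : ℕ)
      (e : H.left ≅ Spec (CommRingCat.of (MvPolynomial (Fin d) K))), IsImmersion c.left ∧
      e.hom ≫ Spec.map (CommRingCat.ofHom (algebraMap K (MvPolynomial (Fin d) K))) = H.hom ∧
      (∀ w : 𝟙_ _ ⟶ H, ∃ b : 𝟙_ _ ⟶ G, Curve.LimG (mu ≫ bT) b ∧ w ≫ c = sm a b x) ∧
      ∀ y : 𝟙_ _ ⟶ X, Curve.LimPt a (mu ≫ bT) y x → ∃ w : 𝟙_ _ ⟶ H, w ≫ c = y := by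
  obtain ⟨P, _, p, hp, hpc⟩ := exists_isDynP nu
  obtain ⟨z, rfl⟩ := exists_zP hp hz
  obtain ⟨v, rfl⟩ := exists_uP hp hv
  have := hp.isMonHom
  have := hp.mono
  have := isMonHom_uP hp hv
  have := isMonHom_zP hp hz
  have := hv.isMonHom
  have := hv.mono
  have hPa : IsAffineHom P.hom := by
    rw [← Over.w p]
    infer_instance
  have hPs : Smooth P.hom := isDynP_smooth hp
  obtain ⟨H, _, h, hh, hhc⟩ := exists_isDynU (G := P) (mu ≫ z)
  obtain ⟨f, hf⟩ := exists_factor hp hz hv hT hh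
  obtain ⟨d, e, he⟩ := exists_mvPolynomial hh
  have hvc : IsClosedImmersion (v ≫ p).left := hv.isClosedImmersion
  have hfc : IsClosedImmersion f.left := by
    have h1 : IsClosedImmersion (f.left ≫ v.left ≫ p.left) := by
      have h2 : f.left ≫ v.left ≫ p.left = h.left ≫ p.left := by
        rw [← Category.assoc, ← Over.comp_left, hf]
      rw [h2]
      infer_instance
    have h3 : IsSeparated (v.left ≫ p.left) := by
      have : IsClosedImmersion (v.left ≫ p.left) := hvc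
      infer_instance
    exact IsClosedImmersion.of_comp f.left (v.left ≫ p.left)
  refine ⟨H, f ≫ (v ≫ p) ≫ a.orbitMap x, d, e, ?_, he, ?_, ?_⟩
  · rw [Over.comp_left]
    infer_instance
  · intro w
    refine ⟨w ≫ h ≫ p, ?_, ?_⟩
    · rw [Curve.limG_iff]
      have h1 := limOne_comp_hom (p := p) (hh.ptU K (𝟙 _) w)
      rwa [Category.assoc, Category.assoc] at h1
    · have h1 : w ≫ f ≫ (v ≫ p) ≫ a.orbitMap x = (w ≫ h ≫ p) ≫ a.orbitMap x := by
        rw [← hf]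
        simp only [Category.assoc]
      rw [h1, comp_orbitMap, toUnit_unique (toUnit _) (𝟙 _), Category.id_comp]
  · intro y hy
    have hVl : LocallyOfFiniteType V.hom := by
      have := isDynU_smooth hv
      infer_instance
    obtain ⟨w, hw, g, hg, hg0⟩ := Chart.exists_limit a (hx.fixed mu)
      (normalizes hz hv mu) hy
    have h1 : LimOne (mu ≫ z) (C := K) (c := 𝟙 (Spec (CommRingCat.of K))) (w ≫ v) := by
      refine ⟨g ≫ v, ?_, ?_⟩
      · rw [← cancel_mono p, ← orb_comp_hom]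
        have h2 : (gmPr K (𝟙 (Spec (CommRingCat.of K))) : Curve.A1' K ⟶ 𝟙_ _) = toUnit _ :=
          toUnit_unique _ _
        have h3 : orb ((mu ≫ z) ≫ p) (C := K) (c := 𝟙 (Spec (CommRingCat.of K))) ((w ≫ v) ≫ p) =
            (Curve.tp K ≫ mu ≫ z ≫ p) * (toUnit _ ≫ w ≫ v ≫ p) * (Curve.tp K ≫ mu ≫ z ≫ p)⁻¹ := by
          rw [← h2, Category.assoc, Category.assoc]
          rfl
        rw [h3, ← hg, Category.assoc, Category.assoc]
      · have h2 := congrArg (fun q => q ≫ v) hg0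
        simp only [Category.assoc] at h2
        rw [MonObj.one_comp] at h2
        exact h2
    obtain ⟨w', hw'⟩ := (hh.iff_ptU _ (w ≫ v)).2 (ptU_iff.2 h1)
    refine ⟨w', ?_⟩
    have h4 : w' ≫ f ≫ (v ≫ p) ≫ a.orbitMap x = (w' ≫ h) ≫ p ≫ a.orbitMap x := by
      rw [← hf]
      simp only [Category.assoc]
    rw [h4, hw', ← hw]
    simp only [Category.assoc]

end Field

end K833.Cell
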