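import Groth.Agent.Lefpen.H527.Inputs
import Groth.Agent.Lefpen.H527.ClosedOpen
import Groth.Agent.S3110
import Groth.Agent.FlatB.AffSpaceSmooth
import Groth.Agent.EtpbcB.GammaRpush

/-!
# Odd cohomology and affine cells

`P` proper over an algebraically closed field, `j : U ⟶ P` an open subscheme isomorphic to `A^d`, `i : Z ⟶ P` the
closed complement: `H^q(P, j_! ℤ/N) = 0` for `q ≠ 2 d`, so if `H^q(Z, ℤ/N) = 0` for an odd `q`, then
`H^q(P, ℤ/N) = 0`.
-/

set_option autoImplicit false
universe u
open CategoryTheory CategoryTheory.Limits AlgebraicGeometry Opposite Abelian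
open scoped Groth.Agent.Etcore.EtInst Groth.Agent.Etcore.HC
open Groth.Agent.Etcore Groth.Agent.Etcore.EtInst Groth.Agent.Etcore.HpullCalc
  Groth.Agent.Etcore.HC Groth.Agent.Etcore.PullCoh Groth.Agent.Sga4B

namespace K833.CellCoh

theorem subsingleton_of_iso {X : Scheme.{u}} {F G : EtCoh.Ab X} (e : F ≅ G) (q : ℕ)
    (h : Subsingleton (HH X G q)) : Subsingleton (HH X F q) :=
  (HHcongr e q).toEquiv.subsingleton

/-- `j_! j^* M_X ≅ j_! M_U` -/
noncomputable def shriekIso {U X : Scheme.{u}} (j : U ⟶ X) [IsOpenImmersion j] (M : Type)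
    [AddCommGroup M] :
    (EtShriek.extZero j).obj ((EtShriek.restrAlong j).obj (EtCoh.const X M)) ≅
      (EtShriek.extZero j).obj (EtCoh.const U M) :=
  (EtShriek.extZero j).mapIso ((ShriekBasic.pullIsoRestr j).symm.app _ ≪≫ EtCore.pullConst j M)

theorem dim_mvPolynomial (k : Type u) [Field k] (d : ℕ) :
    topologicalKrullDim (Spec (CommRingCat.of (MvPolynomial (Fin d) k))) ≤ d := by
  have h := PrimeSpectrum.topologicalKrullDim_eq_ringKrullDim (MvPolynomial (Fin d) k)
  have h2 : ringKrullDim (MvPolynomial (Fin d) k) = d := by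
    rw [MvPolynomial.ringKrullDim_of_isNoetherianRing, ringKrullDim_eq_zero_of_field, zero_add,
      Nat.card_eq_fintype_card, Fintype.card_fin]
  exact (h.trans h2).le

variable (k : Type u) [Field k] [IsAlgClosed k] (N : ℕ) (hN : (N : k) ≠ 0)
  {U P Z : Scheme.{u}} (a : P ⟶ Spec (CommRingCat.of k)) [IsProper a] (j : U ⟶ P) [IsOpenImmersion j]
  (d : ℕ) (e : U ≅ Spec (CommRingCat.of (MvPolynomial (Fin d) k)))
  (he : e.hom ≫ Spec.map (CommRingCat.ofHom (algebraMap k (MvPolynomial (Fin d) k))) = j ≫ a)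

include he in
omit [IsAlgClosed k] [IsProper a] [IsOpenImmersion j] in
theorem smooth_cell : SmoothOfRelativeDimension d (j ≫ a) := by
  have h := Groth.Agent.FlatB.AffSpaceSmooth.smoothOfRelativeDimension_SpecMap k d
  rw [← he]
  have h1 : SmoothOfRelativeDimension 0 e.hom := inferInstance
  have h2 : SmoothOfRelativeDimension (0 + d) (e.hom ≫
    (Spec.map (CommRingCat.ofHom (algebraMap k (MvPolynomial (Fin d) k))))) := inferInstance
  rwa [zero_add] at h2

include hN he in
theorem subsingleton_Hc (q : ℕ) (hq : q ≠ 2 * d) :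
    Subsingleton (EtCoh.H P ((EtShriek.extZero j).obj (EtCoh.const U (ZMod N))) q) := by
  have hN0 : 0 < N := by
    rcases Nat.eq_zero_or_pos N with rfl | h
    · simp at hN
    · exact h
  rcases lt_or_gt_of_ne hq with hq | hq
  · have := smooth_cell k a j d e he
    exact Groth.Agent.Lefpen.H527.Inputs.subsingleton_Hc k N hN a j d e q hq
  · have h1 : IsZero ((EtCoh.Rpush a q).obj ((EtShriek.extZero j).obj (EtCoh.const U (ZMod N)))) := by
      refine Groth.Agent.S3110.result j a d (fun s => ?_) _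
        (Groth.Agent.EtpbcB.TorsionBasic.isTorsion_of_killedBy hN0
          (Groth.Agent.Etrest.ConstBasic.killedBy_const _ _ N fun x => by
            rw [nsmul_eq_mul, ZMod.natCast_self, zero_mul])) q hq
      rw [IsHomeomorph.topologicalKrullDim_eq _ ((j ≫ a).fiberHomeo s).isHomeomorph]
      refine (topologicalKrullDim_subspace_le _ _).trans ?_
      exact (e.hom.isOpenEmbedding.isInducing.topologicalKrullDim_le).trans (dim_mvPolynomial k d)
    obtain ⟨E⟩ := Groth.Agent.EtpbcB.GammaRpush.stalk_id_Rpush a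
      ((EtShriek.extZero j).obj (EtCoh.const U (ZMod N))) q
    have h2 := AddCommGrpCat.subsingleton_of_isZero
      ((EtCoh.stalk (Groth.Agent.EtpbcB.SepClosedPoint.pt k)).map_isZero h1)
    exact E.symm.toEquiv.subsingleton

include hN he in
theorem step (i : Z ⟶ P) [IsClosedImmersion i] (hd : IsCompl (Set.range i) (Set.range j)) (q : ℕ)
    (hq : Odd q) (h : Subsingleton (EtCoh.H Z (EtCoh.const Z (ZMod N)) q)) :
    Subsingleton (EtCoh.H P (EtCoh.const P (ZMod N)) q) := by
  have h1 : q ≠ 2 * d := by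
    rintro rfl
    exact (Nat.not_odd_iff_even.2 (even_two_mul d)) hq
  have h2 := (subsingleton_H_iff _ _).1 (subsingleton_Hc k N hN a j d e he q h1)
  have h3 := Groth.Agent.Lefpen.H527.ClosedOpen.hp_injective_of i j hd (EtCoh.const P (ZMod N)) q
    (subsingleton_of_iso (shriekIso j (ZMod N)) q h2)
  rw [subsingleton_H_iff]
  have h4 : Subsingleton (HH Z ((EtCoh.pull i).obj (EtCoh.const P (ZMod N))) q) :=
    subsingleton_of_iso (EtCore.pullConst i (ZMod N)) q ((subsingleton_H_iff _ _).1 h)
  exact h3.subsingleton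

end K833.CellCoh
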