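import Groth.Agent.Etcore.ExtMap
import Mathlib.CategoryTheory.Limits.Shapes.Products

/-!
# Ext out of coproducts, effaceability in the first variable
-/

set_option autoImplicit false
universe w v u

open CategoryTheory CategoryTheory.Limits CategoryTheory.Abelian

namespace K833.ExtCop

variable {C : Type u} [Category.{v} C] [Abelian C]

open Groth.Agent.Etcore.ExtMap

section
variable [EnoughInjectives C]

/-- The short exact sequence `B ⟶ I ⟶ I / B`. -/
noncomputable def injSeq (B : C) : ShortComplex C :=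
  ShortComplex.mk (Injective.ι B) (cokernel.π (Injective.ι B)) (cokernel.condition _)

theorem injSeq_shortExact (B : C) : (injSeq B).ShortExact :=
  { exact := ShortComplex.exact_cokernel (Injective.ι B)
    mono_f := inferInstanceAs (Mono (Injective.ι B))
    epi_g := inferInstanceAs (Epi (cokernel.π (Injective.ι B))) }

instance (B : C) : Injective (injSeq B).X₂ := inferInstanceAs (Injective (Injective.under B))

end

variable [HasExt.{w} C]

theorem mk₀_comp_comp {A' A B D : C} (a : A' ⟶ A) {n m k : ℕ} (x : Ext.{w} A B n)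
    (y : Ext.{w} B D m) (h : n + m = k) :
    (Ext.mk₀ a).comp (x.comp y h) (zero_add k) = ((Ext.mk₀ a).comp x (zero_add n)).comp y h :=
  (Ext.comp_assoc (Ext.mk₀ a) x y (zero_add n) h (by omega)).symm

section Step

variable {ι : Type*} {A : ι → C} (c : Cofan A) (hc : IsColimit c)

/-- A class on a coproduct is determined by its restrictions, for one coefficient object -/
def Sep (B : C) (t : ℕ) : Prop :=
  ∀ x : Ext.{w} c.pt B t, (∀ i, (Ext.mk₀ (c.inj i)).comp x (zero_add t) = 0) → x = 0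

include hc in
theorem sep_zero (B : C) : Sep.{w} c B 0 := by
  intro x hx
  obtain ⟨f, rfl⟩ := Ext.addEquiv₀.symm.surjective x
  have hf : (Ext.addEquiv₀.symm f : Ext.{w} c.pt B 0) = Ext.mk₀ f := rfl
  rw [hf] at hx ⊢
  have h : f = 0 := by
    refine Cofan.IsColimit.hom_ext hc _ _ fun i => ?_
    have h1 := hx i
    rw [Ext.mk₀_comp_mk₀, ← Ext.mk₀_zero] at h1
    rw [comp_zero]
    exact (Ext.addEquiv₀ (X := A i) (Y := B)).symm.injective h1
  rw [h, Ext.mk₀_zero]

include hc in
theorem sep_succ {S : ShortComplex C} (hS : S.ShortExact) [Injective S.X₂] (t : ℕ)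
    (ih : Sep.{w} c S.X₃ t) : Sep.{w} c S.X₁ (t + 1) := by
  intro x hx
  obtain ⟨y, rfl⟩ := Ext.covariant_sequence_exact₁ c.pt hS x (Ext.eq_zero_of_injective _) rfl
  have h1 : ∀ i, ∃ z : Ext.{w} (A i) S.X₂ t,
      z.comp (Ext.mk₀ S.g) (add_zero t) = (Ext.mk₀ (c.inj i)).comp y (zero_add t) := by
    intro i
    have h2 := hx i
    rw [mk₀_comp_comp] at h2
    exact (exact_gδ hS (A i) rfl _).1 h2
  choose z hz using h1
  have h3 : ∃ z' : Ext.{w} c.pt S.X₂ t, z'.comp (Ext.mk₀ S.g) (add_zero t) = y := by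
    cases t with
    | zero =>
      let z₀ : ∀ i, A i ⟶ S.X₂ := fun i => Ext.addEquiv₀ (z i)
      have hz₀ : ∀ i, Ext.mk₀ (z₀ i) = z i := fun i => Ext.addEquiv₀.symm_apply_apply _
      refine ⟨Ext.mk₀ (Cofan.IsColimit.desc hc z₀), ?_⟩
      rw [← sub_eq_zero]
      refine ih _ fun i => ?_
      have h4 := ((Ext.mk₀ (c.inj i)).precomp S.X₃ (zero_add 0)).map_sub
        ((Ext.mk₀ (Cofan.IsColimit.desc hc z₀)).comp (Ext.mk₀ S.g) (add_zero 0)) y
      refine h4.trans ?_
      rw [sub_eq_zero]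
      refine Eq.trans ?_ (hz i)
      refine (mk₀_comp_comp _ _ _ _).trans ?_
      rw [Ext.mk₀_comp_mk₀, Cofan.IsColimit.fac, hz₀]
    | succ t =>
      refine ⟨0, ?_⟩
      rw [Ext.zero_comp]
      symm
      refine ih _ fun i => ?_
      rw [← hz i, Ext.eq_zero_of_injective (z i), Ext.zero_comp]
  exact (exact_gδ hS c.pt rfl _).2 h3

end Step

/-- A class on a coproduct is determined by its restrictions. -/
theorem eq_zero_of_cofan [EnoughInjectives C] {ι : Type*} {A : ι → C} (c : Cofan A)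
    (hc : IsColimit c) (t : ℕ) : ∀ B : C, Sep.{w} c B t := by
  induction t with
  | zero => exact fun B => sep_zero c hc B
  | succ t ih => exact fun B => sep_succ c hc (injSeq_shortExact B) t (ih _)

/-- Effaceability in the first variable -/
def Eff (A B : C) (t : ℕ) : Prop :=
  ∀ x : Ext.{w} A B (t + 1), ∃ (P : C) (e : P ⟶ A), Epi e ∧
    (Ext.mk₀ e).comp x (zero_add (t + 1)) = 0

theorem eff_zero {S : ShortComplex C} (hS : S.ShortExact) [Injective S.X₂] (A : C) :
    Eff.{w} A S.X₁ 0 := by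
  intro x
  obtain ⟨y, rfl⟩ := Ext.covariant_sequence_exact₁ A hS x (Ext.eq_zero_of_injective _) (zero_add 1)
  let f : A ⟶ S.X₃ := Ext.addEquiv₀ y
  have hf : Ext.mk₀ f = y := Ext.addEquiv₀.symm_apply_apply _
  have := hS.epi_g
  refine ⟨pullback f S.g, pullback.fst _ _, inferInstance, ?_⟩
  refine (mk₀_comp_comp _ _ _ _).trans ?_
  rw [← hf, Ext.mk₀_comp_mk₀, pullback.condition, ← Ext.mk₀_comp_mk₀]
  refine (mk₀_comp_comp _ _ _ (zero_add 1)).symm.trans ?_
  rw [hS.comp_extClass, Ext.comp_zero]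

theorem eff_succ {S : ShortComplex C} (hS : S.ShortExact) [Injective S.X₂] (A : C) (t : ℕ)
    (ih : Eff.{w} A S.X₃ t) : Eff.{w} A S.X₁ (t + 1) := by
  intro x
  obtain ⟨y, rfl⟩ := Ext.covariant_sequence_exact₁ A hS x (Ext.eq_zero_of_injective _) rfl
  obtain ⟨P, e, he, h⟩ := ih y
  refine ⟨P, e, he, (mk₀_comp_comp _ _ _ _).trans ?_⟩
  rw [h, Ext.zero_comp]

/-- Classes of positive degree are killed by an epimorphism. -/
theorem exists_epi [EnoughInjectives C] (t : ℕ) : ∀ (A B : C), Eff.{w} A B t := by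
  induction t with
  | zero => exact fun A B => eff_zero (injSeq_shortExact B) A
  | succ t ih => exact fun A B => eff_succ (injSeq_shortExact B) A t (ih _ _)

end K833.ExtCop
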