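import Groth.Agent.EtAdic.K833.TEv
import Groth.Agent.EtAdic.K833.ExtCop
import Groth.Agent.EtpbcA.Germ

/-!
# Killing classes in `Ext^t(q⁻¹ A, M_X)` by epimorphisms on the base
-/

set_option autoImplicit false
universe u
open CategoryTheory CategoryTheory.Limits AlgebraicGeometry Opposite Abelian
open scoped Groth.Agent.Etcore.EtInst
open Groth.Agent.Etcore.EtInst

namespace K833.Coeff

open Groth.Agent.Etcore.HpullCalc Groth.Agent.Etcore.PullCoh Groth.Agent.Etcore.HQ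
  Groth.Agent.Etcore.HC Groth.Agent.Etcore Groth.Agent.CurvesA Groth.Agent.Lefpen.H510.ZClass TSys TEv
open Groth.Agent.EtpbcA.CdDiesEt (Zf zPullInv zPullHom zPull_inv_hom zPull_hom_inv)
open Groth.Agent.EtpbcB.Big (bcFst bc_condition hom_ext_bc)

attribute [local instance] pfl

variable {X Y Z : Scheme.{u}} (M : Type) [AddCommGroup M]

theorem az_bc (q : X ⟶ Y) (W : Y.Etale) (r : Z ⟶ X)
    (l : Z ⟶ ((EtCoh.bc q).obj W).left) (hl : l ≫ ((EtCoh.bc q).obj W).hom = r)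
    (g : Z ⟶ Y) (hg : r ≫ q = g) (w : Z ⟶ W.left) (hw : w ≫ W.hom = g) (e : l ≫ bcFst q W = w) :
    (az r l hl ≫ (EtCoh.pull r).map (zPullInv q W)) ≫ th r q g hg ((Zf Y).obj W) = az g w hw := by
  apply (Ext.addEquiv₀ (X := EtCoh.const Z ℤ)
    (Y := (EtCoh.pull g).obj ((Zf Y).obj W))).symm.injective
  refine Eq.trans ?_ (mk₀_az g w hw).symm
  rw [← th_sec_eta q ((Zf Y).obj W) W (SiteZU.univ.{u + 1} W) r l hl g hg w hw e]
  have h1 : eta q ((Zf Y).obj W) W (SiteZU.univ.{u + 1} W) =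
      (zPullInv q W).hom.app (op ((EtCoh.bc q).obj W)) (SiteZU.univ.{u + 1} ((EtCoh.bc q).obj W)) :=
    (SiteZU.ev_lift.{u + 1} _).symm
  rw [h1, ← map_sec, ← mk₀_az r l hl, map_apply, HHmap_apply, HHmap_apply, Ext.mk₀_comp_mk₀,
    Ext.mk₀_comp_mk₀]
  rfl

theorem zc_injective_of_isIso (F : EtCoh.Ab X) {W : X.Etale} (r : Z ⟶ X) (l : Z ⟶ W.left) [IsIso l]
    (hl : l ≫ W.hom = r) (n : ℕ) : Function.Injective (zc F r l hl n) := by
  have h : ⇑(zc F r l hl n) = ⇑(res F l hl n) ∘ ⇑(zc F W.hom (𝟙 W.left) (Category.id_comp _) n) :=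
    funext fun x => (res_zc F l hl (𝟙 _) (Category.id_comp _) l hl (Category.comp_id _) n x).symm
  rw [h]
  exact (LimBC1.res_bijective F l hl n).1.comp (zc_injective W n F)

section

variable (q : X ⟶ Y) {W : Y.Etale} (r : Z ⟶ X) (w : Z ⟶ W.left) (g : Z ⟶ Y) (hg : r ≫ q = g)
  (hw : w ≫ W.hom = g)

theorem ez_tau_eq (l : Z ⟶ ((EtCoh.bc q).obj W).left) (hl : l ≫ ((EtCoh.bc q).obj W).hom = r)
    (e : l ≫ bcFst q W = w) (t : ℕ) (x : TT M q ((Zf Y).obj W) t) :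
    ez M g w hw t (tau M r hg _ t x) =
      HHmap (EtCore.pullConst r M).hom t (zc (EtCoh.const X M) r l hl t
        ((Ext.mk₀ (zPullInv q W)).comp x (zero_add t))) := by
  have h1 : az g w hw ≫ inv (th r q g hg ((Zf Y).obj W)) =
      az r l hl ≫ (EtCoh.pull r).map (zPullInv q W) := by
    rw [IsIso.comp_inv_eq]
    exact (az_bc q W r l hl g hg w hw e).symm
  have h3 := ExtMap.extMap_mk₀_comp (EtCoh.pull r) (inv (th r q g hg ((Zf Y).obj W)))
    (az r l hl ≫ (EtCoh.pull r).map (zPullInv q W)) (𝟙 _) (az g w hw)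
    (h1.trans (by rw [CategoryTheory.Functor.map_id, Category.comp_id])) (EtCoh.const X M) t x
  rw [Ext.mk₀_id_comp] at h3
  have h4 := ExtMap.extMap_mk₀_comp (EtCoh.pull r)
    (az r l hl ≫ (EtCoh.pull r).map (zPullInv q W)) (az r l hl) (zPullInv q W) (𝟙 _)
    (Category.id_comp _) (EtCoh.const X M) t x
  rw [Ext.mk₀_id_comp] at h4
  rw [ez_apply, tau_apply, HHmap_apply, zc, h4, h3, Ext.comp_assoc_of_third_deg_zero]

theorem ez_tau_injective (hZ : IsPullback w r W.hom q) (t : ℕ) :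
    Function.Injective (fun x : TT M q ((Zf Y).obj W) t => ez M g w hw t (tau M r hg _ t x)) := by
  have h0 : IsPullback (bcFst q W) ((EtCoh.bc q).obj W).hom W.hom q := IsPullback.of_hasPullback _ _
  let l : Z ⟶ ((EtCoh.bc q).obj W).left := (hZ.isoIsPullback _ _ h0).hom
  have hl : l ≫ ((EtCoh.bc q).obj W).hom = r := hZ.isoIsPullback_hom_snd _ _ h0
  have e : l ≫ bcFst q W = w := hZ.isoIsPullback_hom_fst _ _ h0
  have hi : IsIso l := inferInstanceAs (IsIso (hZ.isoIsPullback _ _ h0).hom)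
  intro x y hxy
  have hxy' : ez M g w hw t (tau M r hg _ t x) = ez M g w hw t (tau M r hg _ t y) := hxy
  rw [ez_tau_eq M q r w g hg hw l hl e, ez_tau_eq M q r w g hg hw l hl e] at hxy'
  have h5 := zc_injective_of_isIso _ r l hl t
    ((HHmap_bijective (EtCore.pullConst r M).hom t).1 hxy')
  have h6 : (Ext.mk₀ (zPullHom q W)).comp ((Ext.mk₀ (zPullInv q W)).comp x (zero_add t))
      (zero_add t) = (Ext.mk₀ (zPullHom q W)).comp ((Ext.mk₀ (zPullInv q W)).comp y (zero_add t))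
      (zero_add t) := congrArg (fun z => (Ext.mk₀ (zPullHom q W)).comp z (zero_add t)) h5
  rw [← Ext.comp_assoc_of_second_deg_zero, ← Ext.comp_assoc_of_second_deg_zero,
    Ext.mk₀_comp_mk₀, zPull_hom_inv, Ext.mk₀_id_comp, Ext.mk₀_id_comp] at h6
  exact h6

/-- The class on `Z ⟶ X ×_Y W` of a class at a section over `W`. -/
noncomputable def cls {A : EtCoh.Ab Y} (s : EtCoh.sect A W) (t : ℕ) :
    TT M q A t →+ HH Z (EtCoh.const Z M) t :=
  (ez M g w hw t).comp ((tau M r hg _ t).comp (tmap M q (SiteZU.lift.{u + 1} s) t))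

theorem cls_apply {A : EtCoh.Ab Y} (s : EtCoh.sect A W) (t : ℕ) (x : TT M q A t) :
    cls M q r w g hg hw s t x =
      ez M g w hw t (tau M r hg _ t (tmap M q (SiteZU.lift.{u + 1} s) t x)) := rfl

theorem cls_eq_zero (hZ : IsPullback w r W.hom q) {A : EtCoh.Ab Y} (s : EtCoh.sect A W) (t : ℕ)
    (x : TT M q A t) (h : cls M q r w g hg hw s t x = 0) :
    tmap M q (SiteZU.lift.{u + 1} s) t x = 0 := by
  refine ez_tau_injective M q r w g hg hw hZ t (Eq.trans h ?_)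
  simp only [map_zero]

end

/-- Compatibility of the classes. -/
theorem HC_cls {X' Z' : Scheme.{u}} (q : X ⟶ Y) (q' : X' ⟶ Y) (k : X' ⟶ X) (h : k ≫ q = q')
    {A : EtCoh.Ab Y} {W W' : Y.Etale} (s : EtCoh.sect A W) (f : W' ⟶ W)
    (r : Z ⟶ X) (w : Z ⟶ W.left) (g : Z ⟶ Y) (hg : r ≫ q = g) (hw : w ≫ W.hom = g)
    (r' : Z' ⟶ X') (w' : Z' ⟶ W'.left) (g' : Z' ⟶ Y) (hg' : r' ≫ q' = g') (hw' : w' ≫ W'.hom = g')
    (m : Z' ⟶ Z) (h1 : m ≫ r = r' ≫ k) (h2 : m ≫ w = w' ≫ f.left) (t : ℕ) (x : TT M q A t) :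
    HC M m t (cls M q r w g hg hw s t x) =
      cls M q' r' w' g' hg' hw' (A.obj.map f.op s) t (tau M k h A t x) := by
  have e1 : m ≫ g = g' := by
    rw [← hg, ← Category.assoc, h1, Category.assoc, h, hg']
  have e2 : (w' ≫ f.left) ≫ W.hom = g' := by
    rw [← h2, Category.assoc, hw, e1]
  have e3 : SiteZU.lift.{u + 1} (A.obj.map f.op s) = (Zf Y).map f ≫ SiteZU.lift.{u + 1} s := by
    apply SiteZU.ev_injective.{u + 1}
    rw [SiteZU.ev_lift, SiteZU.ev_map_comp, SiteZU.ev_lift]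
  have e4 : (r' ≫ k) ≫ q = g' := by rw [Category.assoc, h, hg']
  rw [cls_apply, cls_apply, HC_ez M m e1 w hw (w' ≫ f.left) e2 h2,
    tau_tau M r hg m e1 (r' ≫ k) h1 e4, e3, tmap_comp, tau_tmap, tau_tmap, tau_tmap,
    ez_tmap M g' f w' hw' (w' ≫ f.left) e2 rfl, tau_tau M k h r' hg' (r' ≫ k) rfl e4]

section Epi

/-- A family of sections which locally generates gives an epimorphism. -/
theorem epi_desc {A : EtCoh.Ab Y} {I : Type (u + 1)} (W : I → Y.Etale)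
    (s : ∀ i, EtCoh.sect A (W i))
    (h : ∀ (V : Y.Etale) (a : EtCoh.sect A V) (v : V.left), ∃ (i : I) (f : W i ⟶ V) (w : (W i).left),
      f.left w = v ∧ A.obj.map f.op a = s i) :
    Epi (Sigma.desc (fun i => SiteZU.lift.{u + 1} (s i)) : (∐ fun i => (Zf Y).obj (W i)) ⟶ A) := by
  rw [Preadditive.epi_iff_cancel_zero]
  intro Q g hg
  have h1 : ∀ i, g.hom.app (op (W i)) (s i) = 0 := by
    intro i
    have h2 : SiteZU.lift.{u + 1} (s i) ≫ g = 0 := by
      have h3 := Sigma.ι (fun i => (Zf Y).obj (W i)) i ≫= hg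
      rw [comp_zero, ← Category.assoc, Sigma.ι_desc] at h3
      exact h3
    have h4 := congrArg (fun a => SiteZU.ev.{u + 1} a) h2
    simp only [map_zero] at h4
    rw [SiteZU.ev_comp, SiteZU.ev_lift] at h4
    exact h4
  ext V a
  refine Groth.Agent.EtpbcA.Germ.sect_ext Q _ _ fun v => ?_
  obtain ⟨i, f, w, hw, ha⟩ := h (unop V) a v
  refine ⟨W i, f, ⟨w, hw⟩, ?_⟩
  have h5 := map_res g f a
  rw [ha, h1] at h5
  rw [← h5]
  exact (map_zero _).symm

end Epi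

/-- The map `X' ×_Y V ⟶ X ×_Y W`. -/
noncomputable def mp {X' : Scheme.{u}} (q : X ⟶ Y) (q' : X' ⟶ Y) (k : X' ⟶ X) (h : k ≫ q = q')
    {V W : Y.Etale} (f : V ⟶ W) : pullback q' V.hom ⟶ pullback q W.hom :=
  pullback.lift (pullback.fst q' V.hom ≫ k) (pullback.snd q' V.hom ≫ f.left) (by
    have e : f.left ≫ W.hom = V.hom := Over.w f.hom
    rw [Category.assoc, h, Category.assoc, e, pullback.condition])

theorem mp_fst {X' : Scheme.{u}} (q : X ⟶ Y) (q' : X' ⟶ Y) (k : X' ⟶ X) (h : k ≫ q = q')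
    {V W : Y.Etale} (f : V ⟶ W) :
    mp q q' k h f ≫ pullback.fst q W.hom = pullback.fst q' V.hom ≫ k := pullback.lift_fst _ _ _

theorem mp_snd {X' : Scheme.{u}} (q : X ⟶ Y) (q' : X' ⟶ Y) (k : X' ⟶ X) (h : k ≫ q = q')
    {V W : Y.Etale} (f : V ⟶ W) :
    mp q q' k h f ≫ pullback.snd q W.hom = pullback.snd q' V.hom ≫ f.left :=
  pullback.lift_snd _ _ _

/-- The class on `X ×_Y W` -/
noncomputable def cl (q : X ⟶ Y) {W : Y.Etale} {A : EtCoh.Ab Y} (s : EtCoh.sect A W) (t : ℕ) :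
    TT M q A t →+ HH (pullback q W.hom) (EtCoh.const _ M) t :=
  cls M q (pullback.fst q W.hom) (pullback.snd q W.hom) (pullback.fst q W.hom ≫ q) rfl
    pullback.condition.symm s t

theorem HC_cl {X' : Scheme.{u}} (q : X ⟶ Y) (q' : X' ⟶ Y) (k : X' ⟶ X) (h : k ≫ q = q')
    {A : EtCoh.Ab Y} {V W : Y.Etale} (s : EtCoh.sect A W) (f : V ⟶ W) (t : ℕ) (x : TT M q A t) :
    HC M (mp q q' k h f) t (cl M q s t x) = cl M q' (A.obj.map f.op s) t (tau M k h A t x) :=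
  HC_cls M q q' k h s f _ _ _ rfl _ _ _ _ rfl _ _ (mp_fst q q' k h f) (mp_snd q q' k h f) t x

theorem cl_eq_zero (q : X ⟶ Y) {W : Y.Etale} {A : EtCoh.Ab Y} (s : EtCoh.sect A W) (t : ℕ)
    (x : TT M q A t) (h : cl M q s t x = 0) : tmap M q (SiteZU.lift.{u + 1} s) t x = 0 :=
  cls_eq_zero M q _ _ _ rfl _ (IsPullback.of_hasPullback q W.hom).flip s t x h

/-- **Killing a class by an epimorphism on the base.** -/
theorem exists_epi {X' : Scheme.{u}} (q : X ⟶ Y) (q' : X' ⟶ Y) (k : X' ⟶ X) (h : k ≫ q = q')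
    {A : EtCoh.Ab Y} (t : ℕ) (x : TT M q A t)
    (H : ∀ (W : Y.Etale) (s : EtCoh.sect A W) (v : W.left), ∃ (V : Y.Etale) (f : V ⟶ W)
      (v' : V.left), f.left v' = v ∧ HC M (mp q q' k h f) t (cl M q s t x) = 0) :
    ∃ (P : EtCoh.Ab Y) (e : P ⟶ A), Epi e ∧ tmap M q' e t (tau M k h A t x) = 0 := by
  let I : Type (u + 1) := { p : Σ V : Y.Etale, EtCoh.sect A V //
    tmap M q' (SiteZU.lift.{u + 1} p.2) t (tau M k h A t x) = 0 }
  let W : I → Y.Etale := fun i => i.1.1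
  let s : ∀ i : I, EtCoh.sect A (W i) := fun i => i.1.2
  let e : (∐ fun i => (Zf Y).obj (W i)) ⟶ A := Sigma.desc (fun i => SiteZU.lift.{u + 1} (s i))
  refine ⟨_, e, ?_, ?_⟩
  · refine epi_desc W s fun V a v => ?_
    obtain ⟨V', f, v', hv, h0⟩ := H V a v
    rw [HC_cl] at h0
    exact ⟨⟨⟨V', A.obj.map f.op a⟩, cl_eq_zero M q' _ t _ h0⟩, f, v', hv, rfl⟩
  · have hp : PreservesColimitsOfSize.{u + 1, u + 1} (EtCoh.pull q') :=
      (EtCoh.pullPushAdj q').leftAdjoint_preservesColimits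
    have hp2 : PreservesColimitsOfShape (Discrete I) (EtCoh.pull q') := inferInstance
    refine ExtCop.eq_zero_of_cofan _ (isColimitCofanMkObjOfIsColimit (EtCoh.pull q') _ _
      (coproductIsCoproduct (fun i => (Zf Y).obj (W i)))) t _ _ fun i => ?_
    have h1 : tmap M q' (Sigma.ι (fun i => (Zf Y).obj (W i)) i) t
        (tmap M q' e t (tau M k h A t x)) = 0 := by
      rw [← tmap_comp, Sigma.ι_desc]
      exact i.2
    exact h1

end K833.Coeff
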