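import Groth.Agent.Sga3B.Parab.Defs
import Groth.Agent.Books.BorelOrb

/-!
# Limits of rational points under a cocharacter

`G` acts on `X`, `ρ : 𝔾_m ⟶ G`. `LimPt a ρ y x`: the curve `t ↦ ρ(t) y` extends to the affine line, with value `x` at
`0`.
-/

set_option autoImplicit false
universe u

open CategoryTheory MonoidalCategory CartesianMonoidalCategory MonObj GrpObj AlgebraicGeometry
open Groth.Agent.Sga3B.Parab Groth.Agent.Books.BorelOrb
open scoped LaurentPolynomial Polynomial

namespace K833.Curve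

variable {K : Type u} [Field K] {G X : Over (Spec (CommRingCat.of K))} [GrpObj G]
  (a : AlgGrp.Action G X) (ρ : Red.Gm (Spec (CommRingCat.of K)) ⟶ G)

variable (K) in
/-- the affine line -/
noncomputable abbrev A1 : Over (Spec (CommRingCat.of K)) := lin K (𝟙 (Spec (CommRingCat.of K)))

variable (K) in
/-- the punctured line -/
noncomputable abbrev A1' : Over (Spec (CommRingCat.of K)) := gmo K (𝟙 (Spec (CommRingCat.of K)))

variable (K) in
/-- the inclusion of the punctured line -/
noncomputable abbrev inc : A1' K ⟶ A1 K := toLin K (𝟙 (Spec (CommRingCat.of K)))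

variable (K) in
/-- the origin -/
noncomputable abbrev zr : 𝟙_ (Over (Spec (CommRingCat.of K))) ⟶ A1 K :=
  zeroSec K (𝟙 (Spec (CommRingCat.of K)))

variable (K) in
/-- the coordinate -/
noncomputable abbrev tp : A1' K ⟶ Red.Gm (Spec (CommRingCat.of K)) :=
  tPt K (𝟙 (Spec (CommRingCat.of K)))

/-- the curve `t ↦ ρ(t) y` -/
noncomputable def crv (y : 𝟙_ (Over (Spec (CommRingCat.of K))) ⟶ X) : A1' K ⟶ X :=
  sm a (tp K ≫ ρ) (toUnit _ ≫ y)

/-- `x` is the limit of `ρ(t) y` for `t → 0` -/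
def LimPt (y x : 𝟙_ (Over (Spec (CommRingCat.of K))) ⟶ X) : Prop :=
  ∃ f : A1 K ⟶ X, inc K ≫ f = crv a ρ y ∧ zr K ≫ f = x

/-- `b` is in `U_G(ρ)` -/
def LimG (b : 𝟙_ (Over (Spec (CommRingCat.of K))) ⟶ G) : Prop :=
  ∃ h : A1 K ⟶ G, inc K ≫ h = (tp K ≫ ρ) * (toUnit _ ≫ b) * (tp K ≫ ρ)⁻¹ ∧ zr K ≫ h = 1

theorem limG_iff (b : 𝟙_ (Over (Spec (CommRingCat.of K))) ⟶ G) :
    LimG ρ b ↔ LimOne ρ (C := K) (c := 𝟙 (Spec (CommRingCat.of K))) b := by
  have h1 : (gmPr K (𝟙 (Spec (CommRingCat.of K))) : A1' K ⟶ 𝟙_ _) = toUnit _ := toUnit_unique _ _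
  have h2 : orb ρ (C := K) (c := 𝟙 (Spec (CommRingCat.of K))) b =
      (tp K ≫ ρ) * (toUnit _ ≫ b) * (tp K ≫ ρ)⁻¹ := by
    rw [← h1]
    rfl
  unfold LimG LimOne
  rw [h2]

theorem LimPt.smul {y x b} (h : LimPt a ρ y x) (hb : LimG ρ b) : LimPt a ρ (sm a b y) x := by
  obtain ⟨f, hf, hf0⟩ := h
  obtain ⟨g, hg, hg0⟩ := hb
  refine ⟨sm a g f, ?_, ?_⟩
  · rw [comp_sm, hf, hg, crv, crv, ← mul_sm, inv_mul_cancel_right, mul_sm, comp_sm]
  · rw [comp_sm, hf0, hg0, one_sm]

/-- `x` is fixed by `ρ` -/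
def Fixed (x : 𝟙_ (Over (Spec (CommRingCat.of K))) ⟶ X) : Prop :=
  sm a ρ (toUnit _ ≫ x) = toUnit _ ≫ x

theorem LimPt.of_fixed {x} (h : Fixed a ρ x) : LimPt a ρ x x := by
  refine ⟨toUnit _ ≫ x, ?_, ?_⟩
  · have h1 := congrArg (fun z => tp K ≫ z) h
    simp only [comp_sm] at h1
    rw [crv, ← Category.assoc, toUnit_unique (inc K ≫ toUnit _) (toUnit _),
      ← toUnit_unique (tp K ≫ toUnit _) (toUnit _), Category.assoc, h1]
  · rw [← Category.assoc, toUnit_unique (zr K ≫ toUnit _) (𝟙 _), Category.id_comp]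

theorem isDominant_inc : IsDominant (inc K).left := by
  constructor
  have h := (PrimeSpectrum.denseRange_comap_iff_ker_le_nilRadical
    ((Polynomial.toLaurentAlg (R := K)).toRingHom)).2 (by
      have : RingHom.ker (Polynomial.toLaurentAlg (R := K)).toRingHom = ⊥ :=
        (RingHom.injective_iff_ker_eq_bot _).1 Polynomial.toLaurent_injective
      rw [this]
      exact bot_le)
  exact h

/-- limits are unique -/
theorem LimPt.unique [IsSeparated X.hom] {y x x'} (h : LimPt a ρ y x) (h' : LimPt a ρ y x') :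
    x = x' := by
  obtain ⟨f, hf, rfl⟩ := h
  obtain ⟨f', hf', rfl⟩ := h'
  have h1 : f = f' := by
    ext1
    have := isDominant_inc (K := K)
    have : IsReduced (A1 K).left := inferInstanceAs (IsReduced (Spec (CommRingCat.of K[X])))
    refine ext_of_isDominant_of_isSeparated X.hom ?_ (inc K).left ?_
    · rw [Over.w, Over.w]
    · rw [← Over.comp_left, ← Over.comp_left, hf, hf']
  rw [h1]

/-- the affine line is the union of the punctured line and the origin -/
theorem range_union (z : (A1 K).left) :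
    z ∈ Set.range (inc K).left ∨ z = (zr K).left (IsLocalRing.closedPoint K) := by
  by_cases hz : (Polynomial.X : K[X]) ∈ (show PrimeSpectrum K[X] from z).asIdeal
  · right
    let φ : K[X] →+* K := (Polynomial.aeval (R := K) (0 : K)).toRingHom
    let w : PrimeSpectrum K[X] := PrimeSpectrum.comap φ (IsLocalRing.closedPoint K)
    have h1 : w.asIdeal ≤ (show PrimeSpectrum K[X] from z).asIdeal := by
      intro p hp
      have h2 : φ p ∈ IsLocalRing.maximalIdeal K := hp
      rw [IsLocalRing.maximalIdeal_eq_bot, Ideal.mem_bot] at h2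
      have h3 : p.coeff 0 = 0 := by
        rw [Polynomial.coeff_zero_eq_aeval_zero]
        exact h2
      obtain ⟨r, rfl⟩ := Polynomial.X_dvd_iff.2 h3
      exact Ideal.mul_mem_right _ _ hz
    have h4 : w.asIdeal.IsMaximal :=
      Ideal.comap_isMaximal_of_surjective φ (fun x => ⟨Polynomial.C x, by
        change Polynomial.aeval (0 : K) (Polynomial.C x) = x
        rw [Polynomial.aeval_C]; rfl⟩)
    have h5 : w.asIdeal = (show PrimeSpectrum K[X] from z).asIdeal :=
      h4.eq_of_le (show PrimeSpectrum K[X] from z).isPrime.ne_top h1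
    exact (PrimeSpectrum.ext h5).symm
  · left
    have h1 := PrimeSpectrum.localization_away_comap_range (K[T;T⁻¹]) (Polynomial.X : K[X])
    have h2 : (show PrimeSpectrum K[X] from z) ∈ (PrimeSpectrum.basicOpen (Polynomial.X : K[X]) : Set _) := hz
    rw [← h1] at h2
    exact h2

end K833.Curve
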