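import Groth.Agent.EtAdic.K833.TConst
import Groth.Agent.Etcore.LCPull
import Groth.Agent.Sga4h.GSqEt
import Groth.Agent.Sga3C.LocConn
import Mathlib.AlgebraicGeometry.Geometrically.Connected

/-!
# Towers of schemes over `Y` whose fibres become acyclic

See `EffMain.main` and `EffMain.special`.
-/

set_option autoImplicit false
universe u
open CategoryTheory CategoryTheory.Limits AlgebraicGeometry Opposite Abelian
open scoped Groth.Agent.Etcore.EtInst
open Groth.Agent.Etcore.EtInst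

namespace K833.EffMain

open Groth.Agent.Etcore.HpullCalc Groth.Agent.Etcore.PullCoh Groth.Agent.Etcore.HQ
  Groth.Agent.Etcore.HC Groth.Agent.Etcore TSys TConst

attribute [local instance] pfl

/-- Schemes over `Y`. -/
structure Ov (Y : Scheme.{u}) where
  X : Scheme.{u}
  q : X ⟶ Y

instance (Y : Scheme.{u}) : Category (Ov Y) where
  Hom A B := { k : A.X ⟶ B.X // k ≫ B.q = A.q }
  id A := ⟨𝟙 _, Category.id_comp _⟩
  comp f g := ⟨f.1 ≫ g.1, by rw [Category.assoc, g.2, f.2]⟩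
  id_comp f := Subtype.ext (Category.id_comp _)
  comp_id f := Subtype.ext (Category.comp_id _)
  assoc f g h := Subtype.ext (Category.assoc _ _ _)

variable {Y : Scheme.{u}} (M : Type) [AddCommGroup M]

/-- The system of functors `Ext^t(q⁻¹ A, M_X)`. -/
noncomputable def sys (Y : Scheme.{u}) : Tower.Sys.{u + 1} (EtCoh.Ab Y) (Ov Y) where
  T X t A := TT M X.q A t
  grp _ _ _ := inferInstance
  map X t _ _ f := tmap M X.q f t
  δ X t _ hS := tδ M X.q hS t
  exact₃ X t _ hS x h := exact₃ M X.q hS t x h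
  exact₁ X t _ hS x h := exact₁ M X.q hS t x h
  δ_map X t _ hS y := tδ_tmap M X.q hS t y
  τ f t A := tau M f.1 f.2 A t
  τ_map f t _ _ g x := tau_tmap M f.1 f.2 g t x
  τ_δ f t _ hS x := tau_tδ M f.1 f.2 hS t x
  τ_τ f g t A x := tau_tau M f.1 f.2 g.1 g.2 _ rfl _ A t x

/-- classes of degree `t` die locally on the base along `k` -/
def LocDies {X X' : Scheme.{u}} (q : X ⟶ Y) (q' : X' ⟶ Y) (k : X' ⟶ X) (h : k ≫ q = q')
    (t : ℕ) : Prop :=
  ∀ (A : EtCoh.Ab Y) (x : TT M q A t), ∃ (P : EtCoh.Ab Y) (e : P ⟶ A), Epi e ∧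
    tmap M q' e t (tau M k h A t x) = 0

section DegreeZero

variable {X : Scheme.{u}} (q : X ⟶ Y)

/-- Degree zero classes from morphisms on the base. -/
noncomputable def Ψ {A : EtCoh.Ab Y} (φ : A ⟶ EtCoh.const Y M) : TT M q A 0 :=
  Ext.mk₀ ((EtCoh.pull q).map φ ≫ (EtCore.pullConst q M).hom)

theorem Ψ_bijective (h : IsIso ((EtCoh.pullPushAdj q).unit.app (EtCoh.const Y M))) (A : EtCoh.Ab Y) :
    Function.Bijective (Ψ M q (A := A)) := by
  have h1 : ∀ φ : A ⟶ EtCoh.const Y M, (EtCoh.pullPushAdj q).homEquiv _ _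
      ((EtCoh.pull q).map φ ≫ (EtCore.pullConst q M).hom) =
      φ ≫ ((EtCoh.pullPushAdj q).unit.app (EtCoh.const Y M) ≫
        (EtCoh.push q).map (EtCore.pullConst q M).hom) := by
    intro φ
    rw [Adjunction.homEquiv_naturality_left, Adjunction.homEquiv_unit]
  have h2 : Function.Bijective (fun φ : A ⟶ EtCoh.const Y M =>
      (EtCoh.pull q).map φ ≫ (EtCore.pullConst q M).hom) := by
    rw [← ((EtCoh.pullPushAdj q).homEquiv _ _).bijective.of_comp_iff']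
    have h3 : (⇑((EtCoh.pullPushAdj q).homEquiv A (EtCoh.const X M)) ∘
        (fun φ : A ⟶ EtCoh.const Y M => (EtCoh.pull q).map φ ≫ (EtCore.pullConst q M).hom)) =
        fun φ => φ ≫ ((EtCoh.pullPushAdj q).unit.app (EtCoh.const Y M) ≫
          (EtCoh.push q).map (EtCore.pullConst q M).hom) := funext h1
    rw [h3]
    refine Function.bijective_iff_has_inverse.2 ⟨fun ψ => ψ ≫
      inv ((EtCoh.pullPushAdj q).unit.app (EtCoh.const Y M) ≫
        (EtCoh.push q).map (EtCore.pullConst q M).hom), fun φ => ?_, fun ψ => ?_⟩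
    · simp
    · simp
  exact (Ext.mk₀_bijective _ _).comp h2

theorem tau_Ψ {X' : Scheme.{u}} (q' : X' ⟶ Y) (k : X' ⟶ X) (h : k ≫ q = q') {A : EtCoh.Ab Y}
    (φ : A ⟶ EtCoh.const Y M) : tau M k h A 0 (Ψ M q φ) = Ψ M q' φ := by
  rw [tau_apply, Ψ, Ψ, ExtMap.extMap_mk₀, Ext.mk₀_comp_mk₀]
  congr 1
  rw [Functor.map_comp, ← Category.assoc, ← inv_th_nat k h φ, Category.assoc, Category.assoc,
    pullConst_comp k q q' h M, IsIso.inv_hom_id_assoc]

theorem isIso_unit_of_isIso [IsIso q] (A : EtCoh.Ab Y) : IsIso ((EtCoh.pullPushAdj q).unit.app A) := by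
  have := Groth.Agent.Sga4h.GSq.isEquivalence_pull_of_isIso q
  infer_instance

end DegreeZero

/-- Base objects: effaceability. -/
theorem eff_base {X : Scheme.{u}} (q : X ⟶ Y) [IsIso q] (t : ℕ) (A : EtCoh.Ab Y)
    (x : TT M q A (t + 1)) :
    ∃ (P : EtCoh.Ab Y) (e : P ⟶ A), Epi e ∧ tmap M q e (t + 1) x = 0 := by
  have := Groth.Agent.Sga4h.GSq.isEquivalence_pull_of_isIso q
  obtain ⟨P', e', he', h⟩ := ExtCop.exists_epi t ((EtCoh.pull q).obj A) (EtCoh.const X M) x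
  let ε := (EtCoh.pull q).objObjPreimageIso P'
  let e : (EtCoh.pull q).objPreimage P' ⟶ A := (EtCoh.pull q).preimage (ε.hom ≫ e')
  have he : (EtCoh.pull q).map e = ε.hom ≫ e' := Functor.map_preimage _ _
  refine ⟨_, e, ?_, ?_⟩
  · have : Epi ((EtCoh.pull q).map e) := by
      rw [he]
      infer_instance
    exact (EtCoh.pull q).epi_of_epi_map this
  · rw [tmap_apply, he, ← Ext.mk₀_comp_mk₀, Ext.comp_assoc_of_second_deg_zero, h, Ext.comp_zero]

section Main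

variable (X : ℕ → Scheme.{u}) (q : ∀ i, X i ⟶ Y) (tr : ∀ {i j : ℕ}, i ≤ j → (X j ⟶ X i))
  (hq : ∀ {i j : ℕ} (h : i ≤ j), tr h ≫ q i = q j)
  (htr : ∀ {i j l : ℕ} (h : i ≤ j) (h' : j ≤ l), tr h' ≫ tr h = tr (h.trans h'))

/-- The tower. -/
def tow : Tower.Tow (Ov Y) ⟨Y, 𝟙 Y⟩ ℕ where
  X i := ⟨X i, q i⟩
  tr h := ⟨tr h, hq h⟩
  π i := ⟨q i, Category.comp_id _⟩
  tr_tr h h' := Subtype.ext (htr h h')
  tr_π h := Subtype.ext (hq h)

variable (hu : ∀ i, IsIso ((EtCoh.pullPushAdj (q i)).unit.app (EtCoh.const Y M))) (r : ℕ)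
  (hd : ∀ t, 1 ≤ t → t ≤ r → ∀ i, ∃ (j : ℕ) (h : i ≤ j), LocDies M (q i) (q j) (tr h) (hq h) t)

include hu hd in
theorem abs : ∀ t ≤ r, Tower.Surj (sys M Y) (tow X q tr hq htr) t ∧
    Tower.Inj (sys M Y) (tow X q tr hq htr) t := by
  refine Tower.main r ?_ ?_ ?_
  · intro i A
    have h1 : ⇑((sys M Y).τ ((tow X q tr hq htr).π i) 0 A) ∘ Ψ M (𝟙 Y) (A := A) = Ψ M (q i) :=
      funext fun φ => tau_Ψ M (𝟙 Y) (q i) (q i) (Category.comp_id _) φ
    have h2 := Ψ_bijective M (q i) (hu i) A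
    rw [← h1] at h2
    exact (Function.Bijective.of_comp_iff _
      (Ψ_bijective M (𝟙 Y) (isIso_unit_of_isIso (𝟙 Y) _) A)).1 h2
  · intro t A x
    exact eff_base M (𝟙 Y) t A x
  · intro t ht i A x
    obtain ⟨j, h, H⟩ := hd (t + 1) (by omega) ht i
    obtain ⟨P, e, he, h0⟩ := H A x
    exact ⟨j, h, P, e, he, h0⟩

include hu hd htr in
/-- **Injectivity.** -/
theorem inj (t : ℕ) (ht : t ≤ r) (i : ℕ) : Function.Injective (HC M (q i) t) := by
  rw [injective_iff_map_eq_zero]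
  intro w hw
  have h1 := (abs M X q tr hq htr hu r hd t ht).2 i (EtCoh.const Y ℤ) (J M (𝟙 Y) t w) (by
    have h2 := tau_J M (q := 𝟙 Y) (q i) (Category.comp_id _) t w
    rw [hw, map_zero] at h2
    exact h2)
  exact (J_bijective M (𝟙 Y) t).1 (h1.trans (map_zero _).symm)

include hu hd htr in
theorem surj_J (t : ℕ) (ht : t ≤ r) (i : ℕ) (z : HH (X i) (EtCoh.const (X i) M) t) :
    ∃ (j : ℕ) (h : i ≤ j) (w : HH Y (EtCoh.const Y M) t), HC M (tr h) t z = HC M (q j) t w := by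
  obtain ⟨j, h, y, hy⟩ := (abs M X q tr hq htr hu r hd t ht).1 i (EtCoh.const Y ℤ) (J M (q i) t z)
  obtain ⟨w, rfl⟩ := (J_bijective M (𝟙 Y) t).2 y
  refine ⟨j, h, w, (J_bijective M (q j) t).1 ?_⟩
  rw [← tau_J M (tr h) (hq h), ← tau_J M (q := 𝟙 Y) (q j) (Category.comp_id _)]
  exact hy

include hu hd htr in
/-- **Special classes.** -/
theorem special (i : ℕ) (z : HH (X i) (EtCoh.const (X i) M) (r + 1))
    (hz : ∀ y : Y, ∃ (V : Y.Etale) (v : V.left), V.hom v = y ∧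
      HC M (pullback.fst (q i) V.hom) (r + 1) z = 0) :
    ∃ (j : ℕ) (h : i ≤ j) (w : HH Y (EtCoh.const Y M) (r + 1)),
      HC M (tr h) (r + 1) z = HC M (q j) (r + 1) w := by
  obtain ⟨P, e, he, h0⟩ := exists_epi_const M (q i) (r + 1) z hz
  obtain ⟨j, h, y, hy⟩ := Tower.surj_step (X := tow X q tr hq htr)
    (abs M X q tr hq htr hu r hd r le_rfl).1 (i := i) e (J M (q i) (r + 1) z) h0
  obtain ⟨w, rfl⟩ := (J_bijective M (𝟙 Y) (r + 1)).2 y
  refine ⟨j, h, w, (J_bijective M (q j) (r + 1)).1 ?_⟩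
  rw [← tau_J M (tr h) (hq h), ← tau_J M (q := 𝟙 Y) (q j) (Category.comp_id _)]
  exact hy

end Main

end K833.EffMain
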