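import Groth.Agent.EtAdic.K833.FieldRpush
import Groth.Agent.Lefpen.H510.TwoPoint

/-!
# Homotopy invariance

Let `k` be separably closed, `q : X ⟶ Spec k` of finite type, `T` a connected `k`-scheme and `P = X ×_k T`. The
restriction of a class on `P` (coefficients killed by an integer invertible in `k`) to the sections of the projection
`P ⟶ X` given by rational points of `T` does not depend on the point.
-/

set_option autoImplicit false
universe u

open CategoryTheory CategoryTheory.Limits AlgebraicGeometry Opposite Abelian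
open scoped Groth.Agent.Etcore.EtInst
open Groth.Agent.Etcore.EtInst
attribute [local instance] HasDerivedCategory.standard

namespace K833.Homotopy

open Groth.Agent.Etcore.HQ Groth.Agent.Etcore.PullCoh Groth.Agent.Etcore.HpullCalc
  Groth.Agent.Etcore Groth.Agent.Etcore.HC Groth.Agent.Lefpen.H510.ZClass Groth.Agent.Lefpen.H510.TwoPoint
  Groth.Agent.Sga4B.RpushSec930
open Groth.Agent.EtpbcA.CdDiesEt (Zf)
open Groth.Agent.Etcore.LimBC0 (mB mB_fst mB_hom mZ mZ_fst mZ_snd mZ_mB mB_map)

attribute [local instance] pfl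

variable {P T : Scheme.{u}} (p : P ⟶ T) (F : EtCoh.Ab P) (n : ℕ)

/-- the class in `Ext^n(Z_{P ×_T T}, F)` attached to a cohomology class -/
theorem exists_class (z : HH P F n) :
    ∃ x : Ext.{u + 1} ((Zf P).obj ((EtCoh.bc p).obj (EtCoh.top T))) F n,
      ∀ {Z : Scheme.{u}} (u : Z ⟶ T),
        hp (pullback.fst p u) F n z =
          zB p F n (V := EtCoh.top T) (z := u) u (Category.comp_id _) x := by
  obtain ⟨x, hx⟩ := zB_surjective p F n (EtCoh.top T) (hp (pullback.fst p (EtCoh.top T).hom) F n z)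
  refine ⟨x, fun {Z} u => ?_⟩
  have hu : u ≫ (EtCoh.top T).hom = u := Category.comp_id _
  have h1 := res_zB p F n u hu (V := EtCoh.top T) (𝟙 (EtCoh.top T).left) (Category.id_comp _)
    u hu (Category.comp_id _) x
  have h2 := (congrArg (res F (mZ p u hu) (mZ_fst p u hu) n) hx).symm.trans h1
  exact (hp_comp_th (mZ p u hu) (pullback.fst p (EtCoh.top T).hom) (pullback.fst p u)
    (mZ_fst p u hu) F n z).symm.trans ((res_apply F (mZ p u hu) (mZ_fst p u hu) n _).symm.trans h2)

/-- `H^0` of a constant sheaf on a connected scheme -/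
theorem card_sect_const (T : Scheme.{u}) [ConnectedSpace T] (M : Type) [AddCommGroup M] :
    Nat.card (EtCoh.sect (EtCoh.const T M) (EtCoh.top T)) = Nat.card M := by
  rw [← Groth.Agent.Sga5.H650.ConstCount.card_H0_const T M]
  exact (Nat.card_congr (Sheaf.H.equiv₀ _ (EtCore.topIsTerminal T)).toEquiv).symm

section main

variable {k : Type u} [Field k] [IsSepClosed k] {m : ℕ} (hm : (m : k) ≠ 0) {X : Scheme.{u}}
  (q : X ⟶ Spec (CommRingCat.of k)) [LocallyOfFiniteType q] [QuasiCompact q]
  (G : EtCoh.Ab X) (hG : EtPBC.IsConstructible G) (hGm : EtCoh.KilledBy m G)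
  {t : T ⟶ Spec (CommRingCat.of k)} {y : P ⟶ X} {p} (h : IsPullback y p q t)

include hm hG hGm h in
/-- **Homotopy invariance.** -/
theorem exists_eq [ConnectedSpace T] (u₀ : Spec (CommRingCat.of k) ⟶ T) (hu₀ : u₀ ≫ t = 𝟙 _)
    (z : HH P ((EtCoh.pull y).obj G) n) :
    ∃ a : HH X G n, ∀ (u : Spec (CommRingCat.of k) ⟶ T),
      hp (pullback.fst p u) _ n z = hp (pullback.fst p u) _ n (hp y G n a) := by
  obtain ⟨M, i1, i2, hM, ⟨e1⟩, h2⟩ := FieldRpush.exists_const hm q G hG hGm n
  obtain ⟨e2⟩ := h2 h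
  let E := (EtCoh.pull y).obj G
  choose cl hcl using exists_class p E n
  let Φ : HH X G n → EtCoh.sect ((EtCoh.Rpush p n).obj E) (EtCoh.top T) :=
    fun a => sec p n E (EtCoh.top T) (cl (hp y G n a))
  have hinj : Function.Injective Φ := by
    intro a b hab
    have h3 := zB_eq_of_sec_eq p E n (V := EtCoh.top T) u₀ (Category.comp_id _) _ _ hab
    rw [← hcl, ← hcl] at h3
    have h4 : Function.Injective (fun a : HH X G n => hp (pullback.fst p u₀) E n (hp y G n a)) := by
      have h5 : IsPullback (pullback.fst p u₀ ≫ y) (pullback.snd p u₀) q (u₀ ≫ t) :=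
        (IsPullback.of_hasPullback p u₀).paste_horiz h
      rw [hu₀] at h5
      have h6 : IsIso (pullback.fst p u₀ ≫ y) := h5.isIso_fst_of_isIso
      intro a b hab'
      have h7 := congrArg (HHmap (th (pullback.fst p u₀) y _ rfl G) n) hab'
      simp only [E] at h7
      rw [hp_comp_th, hp_comp_th] at h7
      exact (bijective_hp_of_isIso (pullback.fst p u₀ ≫ y) G n).1 h7
    exact h4 h3
  have hbij : Function.Bijective Φ := by
    have e3 : EtCoh.sect (EtCoh.const T M) (EtCoh.top T) ≃
        EtCoh.sect ((EtCoh.Rpush p n).obj E) (EtCoh.top T) :=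
      ((sheafToPresheaf _ _ ⋙ (evaluation _ _).obj
        (op (EtCoh.top T))).mapIso e2).addCommGroupIsoToAddEquiv.toEquiv
    have hc1 : Nat.card (EtCoh.sect ((EtCoh.Rpush p n).obj E) (EtCoh.top T)) = Nat.card M := by
      rw [← Nat.card_congr e3, card_sect_const]
    have hc2 : Nat.card (HH X G n) = Nat.card M := (Nat.card_congr e1).symm
    have hf2 : Finite (HH X G n) := Finite.of_equiv _ e1
    have hf1 : Finite (EtCoh.sect ((EtCoh.Rpush p n).obj E) (EtCoh.top T)) :=
      Nat.finite_of_card_ne_zero (by rw [hc1]; exact Nat.card_pos.ne')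
    exact (Nat.bijective_iff_injective_and_card _).2 ⟨hinj, hc2.trans hc1.symm⟩
  obtain ⟨a, ha⟩ := hbij.2 (sec p n E (EtCoh.top T) (cl z))
  refine ⟨a, fun u => ?_⟩
  rw [hcl z u, hcl (hp y G n a) u]
  exact zB_eq_of_sec_eq p E n (V := EtCoh.top T) u (Category.comp_id _) _ _ ha.symm

include hm h in
/-- **Homotopy invariance**, constant coefficients. -/
theorem exists_HC_eq [ConnectedSpace T] (u₀ : Spec (CommRingCat.of k) ⟶ T) (hu₀ : u₀ ≫ t = 𝟙 _)
    (M : Type) [AddCommGroup M] [Finite M] (hM : ∀ x : M, m • x = 0)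
    (z : HH P (EtCoh.const P M) n) :
    ∃ a : HH X (EtCoh.const X M) n, ∀ (u : Spec (CommRingCat.of k) ⟶ T) (s : X ⟶ P),
      s ≫ y = 𝟙 X → s ≫ p = q ≫ u → HC M s n z = a := by
  let z' : HH P ((EtCoh.pull y).obj (EtCoh.const X M)) n := HHmap (EtCore.pullConst y M).inv n z
  have hz : z = HHmap (EtCore.pullConst y M).hom n z' := by
    rw [← HHmap_comp, Iso.inv_hom_id, HHmap_id]
  obtain ⟨a, ha⟩ := exists_eq n hm q (EtCoh.const X M)
    (Groth.Agent.Etrest.ConstBasic.isConstructible_const X M)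
    (Groth.Agent.Etrest.ConstBasic.killedBy_const _ M m hM) h u₀ hu₀ z'
  refine ⟨a, fun u s hs1 hs2 => ?_⟩
  have h1 : hp s _ n z' = hp s _ n (hp y (EtCoh.const X M) n a) := by
    have h2 := congrArg (fun b => HHmap (th (pullback.lift s q hs2) (pullback.fst p u) s
      (pullback.lift_fst _ _ _) _) n (hp (pullback.lift s q hs2) _ n b)) (ha u)
    rw [hp_comp_th, hp_comp_th] at h2
    exact h2
  have h3 : ∀ b : HH P ((EtCoh.pull y).obj (EtCoh.const X M)) n,
      HC M s n (HHmap (EtCore.pullConst y M).hom n b) =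
        HHmap ((EtCoh.pull s).map (EtCore.pullConst y M).hom ≫ (EtCore.pullConst s M).hom) n
          (hp s _ n b) := by
    intro b
    rw [HC_apply, hp_map, HHmap_comp]
  rw [hz, h3, h1, ← h3]
  exact (HC_HC M s y (𝟙 X) hs1 n a).trans (HC_id M n a)

end main

end K833.Homotopy
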