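import Groth.Agent.EtAdic.K833.FieldRpush
import Groth.Agent.EtpbcA.OverSite2

/-!
# Higher direct images of constant sheaves along étale locally trivial fibrations
-/

set_option autoImplicit false
universe u

open CategoryTheory CategoryTheory.Limits AlgebraicGeometry Opposite
attribute [local instance] HasDerivedCategory.standard

namespace K833.TrivRpush

open Groth.Agent.Sga4h

variable {k : Type u} [Field k] [IsSepClosed k] {m : ℕ} (hm : (m : k) ≠ 0)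

/-- the stalk of a constant sheaf -/
noncomputable def stalkConstIso {X : Scheme.{u}} {Ω : Type u} [Field Ω] [IsSepClosed Ω]
    (ξ : Spec (CommRingCat.of Ω) ⟶ X) (M : Type) [AddCommGroup M] :
    (EtCoh.stalk ξ).obj (EtCoh.const X M) ≅ AddCommGrpCat.of (ULift.{u + 1} M) :=
  Groth.Agent.Etbase.OverStalk.sheafFiberConstantSheafIso (Scheme.pointSmallEtale ξ) _

/-- global sections of a constant sheaf over a separably closed point -/
noncomputable def gammaConstIso (Ω : Type u) [Field Ω] [IsSepClosed Ω] (M : Type) [AddCommGroup M] :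
    (Groth.Agent.EtpbcB.SepClosedPoint.Γtop (Spec (CommRingCat.of Ω))).obj
      (EtCoh.const (Spec (CommRingCat.of Ω)) M) ≅ AddCommGrpCat.of (ULift.{u + 1} M) :=
  (asIso ((Groth.Agent.Sga4h.PointConst.adj (K := Ω)).unit.app
    (AddCommGrpCat.of (ULift.{u + 1} M)))).symm

include hm in
/-- The higher direct images along a morphism which becomes a product with a scheme `F` of finite type over `k`
after the étale base change `c`. -/
theorem exists_local {X Y F V P : Scheme.{u}} (π : X ⟶ Y) (c : V ⟶ Y) [Etale c] {p : P ⟶ V}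
    {x : P ⟶ X} (h₁ : IsPullback x p π c) (qF : F ⟶ Spec (CommRingCat.of k))
    [LocallyOfFiniteType qF] [QuasiCompact qF] {t : V ⟶ Spec (CommRingCat.of k)} {y : P ⟶ F}
    (h₂ : IsPullback y p qF t) (Λ : Type) [AddCommGroup Λ] [Finite Λ] (hΛ : ∀ x : Λ, m • x = 0) (r : ℕ) :
    ∃ (M : Type) (_ : AddCommGroup M) (_ : Finite M), Nonempty (M ≃ EtCoh.H F (EtCoh.const F Λ) r) ∧
      Nonempty ((EtCoh.pull c).obj ((EtCoh.Rpush π r).obj (EtCoh.const X Λ)) ≅ EtCoh.const V M) ∧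
      ∀ (Ω : Type u) [Field Ω] [IsSepClosed Ω] (ξ : Spec (CommRingCat.of Ω) ⟶ V) {Z : Scheme.{u}}
        {z : Z ⟶ Spec (CommRingCat.of Ω)} {w : Z ⟶ X} (_ : IsPullback w z π (ξ ≫ c)),
        Nonempty (AddCommGrpCat.of (EtCoh.H Z (EtCoh.const Z Λ) r) ≅
          AddCommGrpCat.of (ULift.{u + 1} M)) := by
  obtain ⟨M, i1, i2, hM, h3, h4⟩ := FieldRpush.exists_const hm qF (EtCoh.const F Λ)
    (Groth.Agent.Etrest.ConstBasic.isConstructible_const F Λ)
    (Groth.Agent.Etrest.ConstBasic.killedBy_const _ Λ m hΛ) r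
  refine ⟨M, i1, i2, h3, ?_, ?_⟩
  · obtain ⟨e1⟩ := h4 h₂
    obtain ⟨e2⟩ := GSq.nonempty_baseChange_iso (EtCoh.const X Λ) (GSq.bc_of_etale h₁ _) r
    exact ⟨e2 ≪≫ (EtCoh.Rpush p r).mapIso (EtCore.pullConst x Λ ≪≫ (EtCore.pullConst y Λ).symm) ≪≫
      e1.symm⟩
  · intro Ω _ _ ξ Z z w hZ
    let a : Z ⟶ P := h₁.lift w (z ≫ ξ) (by rw [hZ.w, Category.assoc])
    have ha1 : a ≫ x = w := h₁.lift_fst _ _ _
    have ha2 : a ≫ p = z ≫ ξ := h₁.lift_snd _ _ _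
    have h5 : IsPullback a z p ξ := by
      refine IsPullback.of_right ?_ ha2 h₁
      rw [ha1]
      exact hZ
    obtain ⟨e1⟩ := h4 (h5.paste_horiz h₂)
    obtain ⟨e2⟩ := Groth.Agent.EtpbcB.GammaRpush.gamma_Rpush z
      ((EtCoh.pull (a ≫ y)).obj (EtCoh.const F Λ)) r
    exact ⟨(EtCoh.HF Z r).mapIso (EtCore.pullConst (a ≫ y) Λ).symm ≪≫ e2.symm.toAddCommGrpIso ≪≫
      (Groth.Agent.EtpbcB.SepClosedPoint.Γtop _).mapIso e1.symm ≪≫ gammaConstIso Ω M⟩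

include hm in
theorem main {X Y F V P : Scheme.{u}} (π : X ⟶ Y) (c : V ⟶ Y) [Etale c] [Surjective c] {p : P ⟶ V}
    {x : P ⟶ X} (h₁ : IsPullback x p π c) (qF : F ⟶ Spec (CommRingCat.of k))
    [LocallyOfFiniteType qF] [QuasiCompact qF] {t : V ⟶ Spec (CommRingCat.of k)} {y : P ⟶ F}
    (h₂ : IsPullback y p qF t) (Λ : Type) [AddCommGroup Λ] [Finite Λ] (hΛ : ∀ x : Λ, m • x = 0) (r : ℕ) :
    EtCoh.IsFiniteLocallyConstant ((EtCoh.Rpush π r).obj (EtCoh.const X Λ)) ∧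
      ∀ (Ω : Type u) [Field Ω] [IsSepClosed Ω] (ξ : Spec (CommRingCat.of Ω) ⟶ Y) {Z : Scheme.{u}}
        {z : Z ⟶ Spec (CommRingCat.of Ω)} {w : Z ⟶ X} (_ : IsPullback w z π ξ),
        Nonempty ((EtCoh.stalk ξ).obj ((EtCoh.Rpush π r).obj (EtCoh.const X Λ)) ≅
          AddCommGrpCat.of (EtCoh.H Z (EtCoh.const Z Λ) r)) := by
  obtain ⟨M, i1, i2, h3, ⟨e1⟩, h5⟩ := exists_local hm π c h₁ qF h₂ Λ hΛ r
  constructor
  · rw [Groth.Agent.EtpbcA.OverSite2.isFLC_iff_pull]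
    exact ⟨PUnit, fun _ => Scheme.Etale.mk c, fun x => ⟨PUnit.unit, c.surjective x⟩, fun _ =>
      ⟨M, i1, i2, ⟨e1⟩⟩⟩
  · intro Ω _ _ ξ Z z w hZ
    obtain ⟨v, hv⟩ := c.surjective (ξ default)
    obtain ⟨ξ', rfl, -⟩ := Scheme.exists_fac_of_etale_of_isSepClosed c ξ v hv
    obtain ⟨e2⟩ := h5 Ω ξ' hZ
    exact ⟨(Groth.Agent.Etbase.StalkPull.stalkPullIso c ξ').app _ ≪≫ (EtCoh.stalk ξ').mapIso e1 ≪≫
      stalkConstIso ξ' M ≪≫ e2.symm⟩

end K833.TrivRpush
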