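import Groth.Agent.EtAdic.K833.Coeff
import Groth.Agent.EtAdic.K833.Homotopy
import Groth.Agent.EtAdic.K833.TrivRpush

/-!
# Local structure of classes on a product

If `X ×_Y W ≅ W ×_k F` with `W` connected, then every class on `X ×_Y W` is, locally on `W`, pulled back from `F`.
-/

set_option autoImplicit false
universe u
open CategoryTheory CategoryTheory.Limits AlgebraicGeometry Opposite Abelian
open scoped Groth.Agent.Etcore.EtInst
open Groth.Agent.Etcore.EtInst
attribute [local instance] HasDerivedCategory.standard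

namespace K833.LocCls

open Groth.Agent.Etcore.HpullCalc Groth.Agent.Etcore.PullCoh Groth.Agent.Etcore.HQ
  Groth.Agent.Etcore.HC Groth.Agent.Etcore Groth.Agent.CurvesA Groth.Agent.Lefpen.H510.TwoPoint
  Groth.Agent.Sga4B.RpushSec930 Coeff
open Groth.Agent.EtpbcA.CdDiesEt (Zf)
open Groth.Agent.Etcore.LimBC0 (mB mB_fst mB_hom mZ mZ_fst mZ_snd mZ_mB mB_map)

attribute [local instance] pfl

/-- constant coefficients version of `res` -/
theorem HHmap_res {X Z Z' : Scheme.{u}} (M : Type) [AddCommGroup M] {q : Z ⟶ X} {q' : Z' ⟶ X}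
    (k : Z' ⟶ Z) (h : k ≫ q = q') (n : ℕ) (x : HQ (EtCoh.const X M) q n) :
    HHmap (EtCore.pullConst q' M).hom n (res (EtCoh.const X M) k h n x) =
      HC M k n (HHmap (EtCore.pullConst q M).hom n x) := by
  rw [HC_apply, hp_map, res_apply, ← HHmap_comp, ← HHmap_comp, pullConst_comp k q q' h M]

/-- sections over a connected étale scheme of a sheaf which is constant there -/
theorem card_sect {Y : Scheme.{u}} (E : EtCoh.Ab Y) (W : Y.Etale) [ConnectedSpace W.left] (M : Type)
    [AddCommGroup M] (e : (EtCoh.pull W.hom).obj E ≅ EtCoh.const W.left M) :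
    Nat.card (EtCoh.sect E W) = Nat.card M := by
  rw [← Groth.Agent.Sga5.H650.ConstCount.card_H0_const W.left M]
  exact Nat.card_congr ((Equiv.ofBijective _ (sec_bijective E W)).trans
    (Equiv.ofBijective _ (HHmap_bijective e.hom 0)))

section main

variable {k : Type u} [Field k] [IsSepClosed k] {m : ℕ} (hm : (m : k) ≠ 0) {F X Y : Scheme.{u}}
  (qF : F ⟶ Spec (CommRingCat.of k)) [LocallyOfFiniteType qF] [QuasiCompact qF] (q : X ⟶ Y)
  (W : Y.Etale) [ConnectedSpace W.left] {t : W.left ⟶ Spec (CommRingCat.of k)}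
  (w₀ : Spec (CommRingCat.of k) ⟶ W.left) (hw₀ : w₀ ≫ t = 𝟙 _) {y : pullback q W.hom ⟶ F}
  (h : IsPullback y (pullback.snd q W.hom) qF t) (M : Type) [AddCommGroup M] [Finite M]
  (hM : ∀ x : M, m • x = 0) (n : ℕ)

include hm hw₀ h hM in
/-- **Local structure of classes.** -/
theorem exists_class (c : HH (pullback q W.hom) (EtCoh.const _ M) n) :
    ∃ a : HH F (EtCoh.const F M) n, ∀ v : W.left, ∃ (V : Y.Etale) (f : V ⟶ W) (v' : V.left),
      f.left v' = v ∧ HC M (mp q q (𝟙 X) (Category.id_comp q) f) n c =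
        HC M (mp q q (𝟙 X) (Category.id_comp q) f) n (HC M y n a) := by
  obtain ⟨M', i1, i2, ⟨e1⟩, ⟨e2⟩, -⟩ := TrivRpush.exists_local hm q W.hom
    (IsPullback.of_hasPullback q W.hom) qF h M hM n
  let E := EtCoh.const X M
  let zb := zB q E n (𝟙 W.left) (Category.id_comp W.hom)
  let ψ := HHmap (EtCore.pullConst (pullback.fst q W.hom) M).hom n
  have hψ : Function.Bijective ψ := HHmap_bijective _ n
  have hsurj : ∀ c : HH (pullback q W.hom) (EtCoh.const _ M) n, ∃ x, ψ (zb x) = c := by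
    intro c
    obtain ⟨c', rfl⟩ := hψ.2 c
    obtain ⟨x, rfl⟩ := zB_surjective q E n W c'
    exact ⟨x, rfl⟩
  choose L hL using hsurj
  let Φ : HH F (EtCoh.const F M) n → EtCoh.sect ((EtCoh.Rpush q n).obj E) W :=
    fun a => sec q n E W (L (HC M y n a))
  have hinj : Function.Injective Φ := by
    intro a b hab
    have h3 := zB_eq_of_sec_eq q E n (V := W) (ξ := w₀ ≫ W.hom) w₀ rfl _ _ hab
    have h4 : ∀ x, HHmap (EtCore.pullConst (pullback.fst q (w₀ ≫ W.hom)) M).hom n
        (zB q E n w₀ rfl x) = HC M (mZ q w₀ rfl) n (ψ (zb x)) := by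
      intro x
      rw [← res_zB q E n w₀ rfl (V := W) (𝟙 W.left) (Category.id_comp _) w₀ rfl
        (Category.comp_id _) x]
      exact HHmap_res M (mZ q w₀ rfl) (mZ_fst q w₀ rfl) n _
    have h5 := congrArg (HHmap (EtCore.pullConst (pullback.fst q (w₀ ≫ W.hom)) M).hom n) h3
    rw [h4, h4, hL, hL, ← HC_comp, ← HC_comp] at h5
    have h6 : IsPullback (mZ q w₀ rfl) (pullback.snd q (w₀ ≫ W.hom)) (pullback.snd q W.hom) w₀ := by
      refine IsPullback.of_right ?_ (mZ_snd q w₀ rfl) (IsPullback.of_hasPullback q W.hom)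
      rw [mZ_fst]
      exact IsPullback.of_hasPullback q (w₀ ≫ W.hom)
    have h7 := h6.paste_horiz h.flip.flip
    rw [hw₀] at h7
    have h8 : IsIso (mZ q w₀ rfl ≫ y) := h7.isIso_fst_of_isIso
    exact ((bijective_HC_iff M _ n).2 (bijective_hp_of_isIso (mZ q w₀ rfl ≫ y) _ n)).1 h5
  have hbij : Function.Bijective Φ := by
    have hc1 : Nat.card (EtCoh.sect ((EtCoh.Rpush q n).obj E) W) = Nat.card M' := card_sect _ W M' e2
    have hc2 : Nat.card (HH F (EtCoh.const F M) n) = Nat.card M' := (Nat.card_congr e1).symm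
    have hf2 : Finite (HH F (EtCoh.const F M) n) := Finite.of_equiv _ e1
    have hf1 : Finite (EtCoh.sect ((EtCoh.Rpush q n).obj E) W) :=
      Nat.finite_of_card_ne_zero (by rw [hc1]; exact Nat.card_pos.ne')
    exact (Nat.bijective_iff_injective_and_card _).2 ⟨hinj, hc2.trans hc1.symm⟩
  obtain ⟨a, ha⟩ := hbij.2 (sec q n E W (L c))
  refine ⟨a, fun v => ?_⟩
  obtain ⟨S, hS, H⟩ := exists_sieve_of_sec_eq_zero q n E (L c - L (HC M y n a))
    (by rw [map_sub, sub_eq_zero]; exact ha.symm)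
  rw [Groth.Agent.Etbase.EtSite.mem_iff] at hS
  obtain ⟨V, f, v', hf, hv⟩ := hS v
  refine ⟨V, f, v', hv, ?_⟩
  have h1 := H V f hf
  have hfw : f.left ≫ W.hom = V.hom := Over.w f.hom
  have h2 := zB_mk₀_comp q E n f (𝟙 V.left) (Category.id_comp _) f.left hfw
    (Category.id_comp _) (L c - L (HC M y n a))
  rw [h1, map_zero, ← res_zB q E n f.left hfw (V := W) (𝟙 W.left) (Category.id_comp _) f.left hfw
    (Category.comp_id _)] at h2
  have h3 : HC M (mZ q f.left hfw) n (ψ (zb (L c))) -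
      HC M (mZ q f.left hfw) n (ψ (zb (L (HC M y n a)))) = 0 := by
    rw [← map_sub, ← map_sub, ← map_sub]
    exact (HHmap_res M (mZ q f.left hfw) (mZ_fst q f.left hfw) n _).symm.trans
      ((congrArg (HHmap (EtCore.pullConst (pullback.fst q V.hom) M).hom n) h2.symm).trans (map_zero _))
  have h4 : mp q q (𝟙 X) (Category.id_comp q) f = mZ q f.left hfw := by
    apply pullback.hom_ext
    · rw [mp_fst, Category.comp_id, mZ_fst]
    · rw [mp_snd, mZ_snd]
  rw [hL, hL, sub_eq_zero] at h3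
  rw [h4]
  exact h3

end main

end K833.LocCls
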