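import Groth.Agent.EtAdic.K833.EffMain
import Groth.Agent.EtAdic.K833.LocCls
import Groth.Agent.EtAdic.K833.ConnNhd

/-!
# Products: classes on a scheme which is étale locally a product over the base
-/

set_option autoImplicit false
universe u
open CategoryTheory CategoryTheory.Limits AlgebraicGeometry Opposite Abelian
open scoped Groth.Agent.Etcore.EtInst
open Groth.Agent.Etcore.EtInst
attribute [local instance] HasDerivedCategory.standard

namespace K833.EffProd

open Groth.Agent.Etcore.HpullCalc Groth.Agent.Etcore.PullCoh Groth.Agent.Etcore.HQ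
  Groth.Agent.Etcore.HC Groth.Agent.Etcore TSys Coeff EffMain

attribute [local instance] pfl

/-- **Classes die locally on the base** if `X ⟶ Y` is, étale locally on `Y`, a product with `F`, and the transition
map `X' ⟶ X` induces zero on the cohomology of `F`. -/
theorem of_prod {k : Type u} [Field k] [IsAlgClosed k] {m : ℕ} (hm : (m : k) ≠ 0)
    (M : Type) [AddCommGroup M] [Finite M] (hM : ∀ x : M, m • x = 0)
    {Y : Scheme.{u}} (tY : Y ⟶ Spec (CommRingCat.of k)) [LocallyOfFiniteType tY]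
    {F F' : Scheme.{u}} (qF : F ⟶ Spec (CommRingCat.of k)) [LocallyOfFiniteType qF] [QuasiCompact qF]
    (φ : F' ⟶ F) {X X' : Scheme.{u}} (q : X ⟶ Y) (q' : X' ⟶ Y) (κ : X' ⟶ X) (hκ : κ ≫ q = q')
    {Y' : Scheme.{u}} (c : Y' ⟶ Y) [Etale c] [Surjective c] {P P' : Scheme.{u}}
    {x : P ⟶ X} {p : P ⟶ Y'} (hp : IsPullback x p q c)
    {x' : P' ⟶ X'} {p' : P' ⟶ Y'} (hp' : IsPullback x' p' q' c)
    {y : P ⟶ F} (hy : IsPullback y p qF (c ≫ tY))
    {y' : P' ⟶ F'}
    (κ' : P' ⟶ P) (e1 : κ' ≫ x = x' ≫ κ) (e2 : κ' ≫ p = p') (e3 : κ' ≫ y = y' ≫ φ)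
    (t : ℕ) (hφ : HC M φ t = 0) : LocDies M q q' κ hκ t := by
  intro A z
  refine exists_epi M q q' κ hκ t z fun W s v => ?_
  -- the étale scheme `W ×_Y Y'`
  obtain ⟨b, hb⟩ := (inferInstance : Surjective c).surj (W.hom v)
  obtain ⟨z₀, hz1, hz2⟩ := Scheme.Pullback.exists_preimage_pullback (f := W.hom) (g := c) v b hb.symm
  have h_et : Etale (pullback.fst W.hom c ≫ W.hom) := inferInstance
  have hlft : LocallyOfFiniteType ((pullback.fst W.hom c ≫ W.hom) ≫ tY) := inferInstance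
  obtain ⟨U, hzU, hcU, s₀, hs₀⟩ := ConnNhd.exists_nhd ((pullback.fst W.hom c ≫ W.hom) ≫ tY) z₀
  let V₁ : Y.Etale := Scheme.Etale.mk (U.ι ≫ pullback.fst W.hom c ≫ W.hom)
  let b₁ : V₁.left ⟶ Y' := U.ι ≫ pullback.snd W.hom c
  have hb₁ : b₁ ≫ c = V₁.hom := by
    change (U.ι ≫ pullback.snd W.hom c) ≫ c = U.ι ≫ pullback.fst W.hom c ≫ W.hom
    rw [Category.assoc, ← pullback.condition]
  let f₁ : V₁ ⟶ W := MorphismProperty.Over.homMk (U.ι ≫ pullback.fst W.hom c)
    (Category.assoc _ _ _) trivial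
  have hcV : ConnectedSpace V₁.left := hcU
  let α : pullback q V₁.hom ⟶ P := hp.lift (pullback.fst q V₁.hom) (pullback.snd q V₁.hom ≫ b₁) (by
    rw [Category.assoc, hb₁, pullback.condition])
  have hα : IsPullback α (pullback.snd q V₁.hom) p b₁ := by
    refine IsPullback.of_right ?_ (hp.lift_snd _ _ _) hp
    rw [hp.lift_fst, hb₁]
    exact IsPullback.of_hasPullback q V₁.hom
  have h := hα.paste_horiz hy
  let s₁ : Spec (CommRingCat.of k) ⟶ V₁.left := s₀
  have hs : s₁ ≫ b₁ ≫ c ≫ tY = 𝟙 _ := by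
    rw [← hs₀, reassoc_of% hb₁]
    change s₀ ≫ (U.ι ≫ pullback.fst W.hom c ≫ W.hom) ≫ tY = _
    simp only [Category.assoc]
  obtain ⟨a, ha⟩ := LocCls.exists_class hm qF q V₁ s₁ hs h M hM t
    (HC M (mp q q (𝟙 X) (Category.id_comp q) f₁) t (cl M q s t z))
  obtain ⟨V, f, v', hv', h'⟩ := ha ⟨z₀, hzU⟩
  refine ⟨V, f ≫ f₁, v', ?_, ?_⟩
  · change f₁.left (f.left v') = v
    rw [hv']
    exact hz1
  · let α' : pullback q' V.hom ⟶ P' := hp'.lift (pullback.fst q' V.hom)
      (pullback.snd q' V.hom ≫ f.left ≫ b₁) (by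
        have hf : f.left ≫ V₁.hom = V.hom := Over.w f.hom
        rw [Category.assoc, Category.assoc, hb₁, hf, pullback.condition])
    have e4 : mp q q' κ hκ (f ≫ f₁) = (mp q q' κ hκ (𝟙 V) ≫ mp q q (𝟙 X) (Category.id_comp q) f) ≫
        mp q q (𝟙 X) (Category.id_comp q) f₁ := by
      apply pullback.hom_ext
      · rw [mp_fst, Category.assoc, Category.assoc, mp_fst, Category.comp_id, mp_fst,
          Category.comp_id, mp_fst]
      · rw [mp_snd, Category.assoc, Category.assoc, mp_snd, reassoc_of% (mp_snd q q (𝟙 X) (Category.id_comp q) f),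
          reassoc_of% (mp_snd q q' κ hκ (𝟙 V))]
        rfl
    have e5 : (mp q q' κ hκ (𝟙 V) ≫ mp q q (𝟙 X) (Category.id_comp q) f) ≫ α ≫ y =
        (α' ≫ y') ≫ φ := by
      have e6 : (mp q q' κ hκ (𝟙 V) ≫ mp q q (𝟙 X) (Category.id_comp q) f) ≫ α = α' ≫ κ' := by
        apply hp.hom_ext
        · rw [Category.assoc, hp.lift_fst, Category.assoc, mp_fst, Category.comp_id, mp_fst,
            Category.assoc, e1, hp'.lift_fst_assoc]
        · rw [Category.assoc, hp.lift_snd, Category.assoc, reassoc_of% (mp_snd q q (𝟙 X) (Category.id_comp q) f),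
            reassoc_of% (mp_snd q q' κ hκ (𝟙 V)),
            Category.assoc, e2, hp'.lift_snd]
          rfl
      rw [← Category.assoc, e6, Category.assoc, e3, Category.assoc]
    rw [e4, HC_comp, HC_comp, h', ← HC_comp, ← HC_comp, e5, HC_comp, hφ]
    exact map_zero _

end K833.EffProd
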