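import Groth.Agent.Sga4h.GenBCAsm202
import Groth.Agent.Sga4h.DivGood917
import Groth.Agent.Etbc.H223.SepFin

/-!
# Base change for higher direct images over a field

Over a field `k` the higher direct images of a constructible sheaf, killed by an integer invertible in `k`, along a
scheme of finite type over `k` are constructible and commute with every base change `T ⟶ Spec k`.
-/

set_option autoImplicit false
universe u

open CategoryTheory CategoryTheory.Limits AlgebraicGeometry Opposite
attribute [local instance] HasDerivedCategory.standard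

namespace K833.FieldBC

open Groth.Agent.Sga4h

variable {k : Type u} [Field k]

theorem bc {m : ℕ} (hm : (m : k) ≠ 0) {F T P : Scheme.{u}} (q : F ⟶ Spec (CommRingCat.of k))
    [LocallyOfFiniteType q] [QuasiCompact q] (t : T ⟶ Spec (CommRingCat.of k)) {p : P ⟶ T}
    {g' : P ⟶ F} (h : IsPullback g' p q t) (G : EtCoh.Ab F) (hG : EtPBC.IsConstructible G)
    (hGm : EtCoh.KilledBy m G) :
    GSq.BC h.w ((DerivedCategory.singleFunctor _ 0).obj G) := by
  have hu : IsUnit (m : Γ(Spec (CommRingCat.of k), ⊤)) := by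
    have := (IsUnit.mk0 (m : k) hm).map (Scheme.ΓSpecIso (CommRingCat.of k)).inv.hom
    rwa [map_natCast] at this
  obtain ⟨U, hU, hg⟩ := FinGen.main (GenBCAsm202.hStmt DivGood917.divGood) m hu
    (𝟙 (Spec (CommRingCat.of k))) q _ (FinGen.adm_single hG hGm)
  refine hg.bc t (𝟙 T) t p g' ?_ IsPullback.of_id_snd h
  rintro _ ⟨x, rfl⟩
  obtain ⟨y, hy⟩ := hU.nonempty
  rwa [Subsingleton.elim (α := Spec (CommRingCat.of k)) (t x) y]

theorem isConstructible_Rpush {m : ℕ} (hm : (m : k) ≠ 0) {F : Scheme.{u}}
    (q : F ⟶ Spec (CommRingCat.of k)) [LocallyOfFiniteType q] [QuasiCompact q] (G : EtCoh.Ab F)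
    (hG : EtPBC.IsConstructible G) (hGm : EtCoh.KilledBy m G) (r : ℕ) :
    EtPBC.IsConstructible ((EtCoh.Rpush q r).obj G) := by
  have hu : IsUnit (m : Γ(Spec (CommRingCat.of k), ⊤)) := by
    have := (IsUnit.mk0 (m : k) hm).map (Scheme.ΓSpecIso (CommRingCat.of k)).inv.hom
    rwa [map_natCast] at this
  exact Groth.Agent.S3122.result (Groth.Agent.Etbc.H223.SepFin.isRegular_spec k)
    (Groth.Agent.Etbc.H223.SepFin.dim_spec_le k) m hu q (𝟙 _) q (Category.comp_id q) G hG hGm r

end K833.FieldBC
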