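import Groth.Agent.Books.BorelOrb
import Groth.Prelude.Def_AGF
import Mathlib.AlgebraicGeometry.Morphisms.FlatDescent
import Mathlib.AlgebraicGeometry.Morphisms.LocalFlatDescent

/-!
# The open cell of `G / P`: if `V × P ⟶ G` is an open immersion, so is the orbit map `V ⟶ G / P`
-/

set_option autoImplicit false
universe u

open CategoryTheory CategoryTheory.Limits MonoidalCategory CartesianMonoidalCategory MonObj GrpObj AlgebraicGeometry
open Groth.Agent.Books.BorelOrb

namespace K833.OpenCell

variable {S : Scheme.{u}} {G B X V : Over S} [GrpObj G] [GrpObj B]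

omit [GrpObj G] [GrpObj B] in
theorem isPullback_whiskerRight (v : V ⟶ G) : IsPullback (v ▷ B) (fst V B) (fst G B) v := by
  refine ⟨⟨whiskerRight_fst _ _⟩, ⟨PullbackCone.IsLimit.mk _
    (fun s => lift s.snd (s.fst ≫ snd G B)) ?_ ?_ ?_⟩⟩
  · intro s
    apply CartesianMonoidalCategory.hom_ext
    · rw [Category.assoc, whiskerRight_fst, lift_fst_assoc, s.condition]
    · rw [Category.assoc, whiskerRight_snd, lift_snd]
  · intro s
    rw [lift_fst]
  · intro s m h1 h2
    apply CartesianMonoidalCategory.hom_ext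
    · rw [lift_fst, h2]
    · rw [lift_snd, ← h1, Category.assoc, whiskerRight_snd]

theorem isPullback_main {i : B ⟶ G} {a : AlgGrp.Action G X} {o : 𝟙_ (Over S) ⟶ X}
    (h : AGF.IsQuotient i X a o) (v : V ⟶ G) :
    IsPullback ((v ⊗ₘ i) ≫ μ[G]) (fst V B) (a.orbitMap o) (v ≫ a.orbitMap o) := by
  have h1 := (isPullback_whiskerRight (B := B) v).paste_horiz h.2.2.2.flip
  rwa [← Category.assoc, ← tensorHom_def] at h1

/-- **The open cell of the quotient.** -/
theorem isOpenImmersion_orbit {i : B ⟶ G} {a : AlgGrp.Action G X} {o : 𝟙_ (Over S) ⟶ X}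
    [QuasiCompact (a.orbitMap o).left]
    (h : AGF.IsQuotient i X a o) (v : V ⟶ G) (hv : IsOpenImmersion ((v ⊗ₘ i) ≫ μ[G]).left) :
    IsOpenImmersion (v ≫ a.orbitMap o).left := by
  have h1 := (isPullback_main h v).map (Over.forget S)
  have h2 := h.2.1
  have h3 := h.2.2.1
  exact MorphismProperty.DescendsAlong.of_isPullback (P := @IsOpenImmersion)
    (Q := @Surjective ⊓ @Flat ⊓ @QuasiCompact) h1
    ⟨⟨inferInstanceAs (Surjective (a.orbitMap o).left), inferInstanceAs (Flat (a.orbitMap o).left)⟩,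
      inferInstanceAs (QuasiCompact (a.orbitMap o).left)⟩ hv

end K833.OpenCell
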