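import Groth.Agent.Books.BorelOrb
import Groth.Prelude.Def_AGF
import Mathlib.AlgebraicGeometry.Morphisms.FlatDescent

/-!
# The quotient `G / H` with another base point is the quotient by a conjugate of `H`
-/

set_option autoImplicit false
universe u

open CategoryTheory MonoidalCategory CartesianMonoidalCategory MonObj GrpObj AlgebraicGeometry
open Groth.Agent.Books.BorelOrb

namespace K833.QuotConj

variable {S : Scheme.{u}} {G B X : Over S} [GrpObj G] [GrpObj B]

/-- right translation by a section -/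
noncomputable def rtr (g : 𝟙_ (Over S) ⟶ G) : G ≅ G where
  hom := 𝟙 G * (toUnit G ≫ g)
  inv := 𝟙 G * (toUnit G ≫ g)⁻¹
  hom_inv_id := by
    rw [comp_mul, Category.comp_id, GrpObj.comp_inv, ← Category.assoc,
      toUnit_unique (_ ≫ toUnit G) (toUnit G), mul_inv_cancel_right]
  inv_hom_id := by
    rw [comp_mul, Category.comp_id, ← Category.assoc,
      toUnit_unique (_ ≫ toUnit G) (toUnit G), inv_mul_cancel_right]

theorem comp_rtr {Y : Over S} (y : Y ⟶ G) (g : 𝟙_ (Over S) ⟶ G) :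
    y ≫ (rtr g).hom = y * (toUnit Y ≫ g) := by
  change y ≫ (𝟙 G * (toUnit G ≫ g)) = _
  rw [comp_mul, Category.comp_id, ← Category.assoc, toUnit_unique (_ ≫ toUnit G) (toUnit Y)]

theorem orbitMap_smul (a : AlgGrp.Action G X) (o : 𝟙_ (Over S) ⟶ X) (g : 𝟙_ (Over S) ⟶ G) :
    a.orbitMap (sm a g o) = (rtr g).hom ≫ a.orbitMap o := by
  rw [orbitMap_eq, comp_orbitMap, comp_sm]
  change _ = sm a (𝟙 G * (toUnit G ≫ g)) _
  rw [mul_sm]

omit [GrpObj B] in
theorem mul_eq (i : B ⟶ G) : (G ◁ i) ≫ μ[G] = fst G B * (snd G B ≫ i) := by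
  rw [Hom.mul_def]
  congr 1

theorem isQuotient_conjBy {i : B ⟶ G} {a : AlgGrp.Action G X} {o : 𝟙_ (Over S) ⟶ X}
    (h : AGF.IsQuotient i X a o) (g : 𝟙_ (Over S) ⟶ G) :
    AGF.IsQuotient (AGF.conjBy g i) X a (sm a g o) := by
  obtain ⟨h1, h2, h3, h4⟩ := h
  have hiso : IsIso (rtr g).hom.left := (Over.forget S).map_isIso (rtr g).hom
  refine ⟨h1, ?_, ?_, ?_⟩
  · rw [orbitMap_smul, Over.comp_left]
    infer_instance
  · rw [orbitMap_smul, Over.comp_left]
    infer_instance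
  · let φ : G ⊗ B ≅ G ⊗ B := MonoidalCategory.whiskerRightIso (rtr g) B
    have hφ : φ.hom = (rtr g).hom ▷ B := rfl
    refine IsPullback.of_iso h4 φ.symm (rtr g).symm (rtr g).symm (Iso.refl X) ?_ ?_ ?_ ?_
    · rw [Iso.symm_hom, Iso.symm_hom, Iso.eq_inv_comp, ← Category.assoc, Iso.comp_inv_eq, hφ,
        whiskerRight_fst]
    · rw [Iso.symm_hom, Iso.symm_hom, Iso.eq_inv_comp, ← Category.assoc, Iso.comp_inv_eq, hφ,
        comp_rtr, mul_eq, mul_eq, comp_mul, whiskerRight_fst, whiskerRight_snd_assoc, comp_rtr]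
      have h5 : snd G B ≫ AGF.conjBy g i =
          (toUnit _ ≫ g) * (snd G B ≫ i) * (toUnit _ ≫ g)⁻¹ := by
        rw [AGF.conjBy, comp_mul, comp_mul, GrpObj.comp_inv, ← Category.assoc,
          toUnit_unique (_ ≫ toUnit B) (toUnit _)]
      rw [h5]
      group
    · rw [orbitMap_smul]
      simp
    · rw [orbitMap_smul]
      simp

end K833.QuotConj
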