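import Groth.Agent.EtAdic.K833.Cell
import Groth.Agent.EtAdic.K833.OpenCell
import Groth.Agent.EtAdic.K833.QuotConj
import Groth.Agent.Sga3B.Parab.PbK2BFin
import Groth.Agent.Sga3B.Parab.DynCell998
import Groth.Agent.Sga3B.AlgBc2
import Groth.Agent.AGF.K492.Basic
import Groth.Agent.Agf.H587.ProperQuot
import Groth.Agent.RedSub.H652.CommonTorus
import Groth.Agent.S3901

/-!
# Torus-fixed points of `G / B`
-/

set_option autoImplicit false
universe u

open CategoryTheory MonoidalCategory CartesianMonoidalCategory MonObj GrpObj AlgebraicGeometry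
open Groth.Agent.Sga3B Groth.Agent.Sga3B.Parab Groth.Agent.Books.BorelOrb Groth.Agent.Books.AlgPts
open Groth.Agent.Agf.H582

namespace K833.FixPt

variable {K : Type u} [Field K] [IsAlgClosed K] {G B X T : Over (Spec (CommRingCat.of K))}
  [GrpObj G] [GrpObj B] [GrpObj T] {iB : B ⟶ G} {a : AlgGrp.Action G X}
  {o : 𝟙_ (Over (Spec (CommRingCat.of K))) ⟶ X} {bT : T ⟶ G}

omit [GrpObj B] in
theorem isMaximalTorus_iff {i : T ⟶ G} : Red.IsMaximalTorus i ↔ AGF.IsMaxTorus i :=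
  AlgBc.isMaximalTorus_iff

/-- every rational point of `G/B` is a translate of the base point -/
theorem exists_sm_eq [LocallyOfFiniteType G.hom] (hX : AGF.IsQuotient iB X a o)
    (x : 𝟙_ (Over (Spec (CommRingCat.of K))) ⟶ X) :
    ∃ g : 𝟙_ (Over (Spec (CommRingCat.of K))) ⟶ G, sm a g o = x := by
  have hft : LocallyOfFiniteType X.hom := hX.1
  have hsurj : Surjective (a.orbitMap o).left := hX.2.2.1
  obtain ⟨g, hg⟩ := exists_comp_eq_of_pt_mem_range (a.orbitMap o) x (hsurj.surj _)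
  refine ⟨g, ?_⟩
  rw [← hg, comp_orbitMap, toUnit_unique (toUnit _) (𝟙 _), Category.id_comp]

omit [IsAlgClosed K] [GrpObj T] in
/-- the stabilizer of `g o` is `g B g⁻¹` -/
theorem exists_lift (hX : AGF.IsQuotient iB X a o)
    (g : 𝟙_ (Over (Spec (CommRingCat.of K))) ⟶ G) (h : Cell.TFix a (sm a g o) bT) :
    ∃ t : T ⟶ B, t ≫ AGF.conjBy g iB = bT := by
  have h1 : toUnit T ≫ sm a g o = sm a (toUnit T ≫ g) (toUnit T ≫ o) := comp_sm _ _ _ _
  have h2 : sm a (bT * (toUnit T ≫ g)) (toUnit T ≫ o) = sm a (toUnit T ≫ g) (toUnit T ≫ o) := by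
    rw [mul_sm, ← h1]
    exact h
  obtain ⟨n, hn⟩ := Groth.Agent.Agf.H587.ProperQuot.exists_eq_mul hX _ _ h2.symm
  refine ⟨n, ?_⟩
  rw [ConjDict.comp_conjBy, ← hn, mul_inv_cancel_right]

omit [IsAlgClosed K] [GrpObj T] in
/-- `B` fixes the base point -/
theorem sm_base (hX : AGF.IsQuotient iB X a o) (t : T ⟶ B) :
    sm a (t ≫ iB) (toUnit T ≫ o) = toUnit T ≫ o := by
  have h1 := congrArg (fun f => lift (1 : T ⟶ G) t ≫ f) hX.2.2.2.w
  simp only [QuotConj.mul_eq] at h1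
  rw [lift_fst_assoc, ← Category.assoc, comp_mul, lift_fst, lift_snd_assoc, comp_orbitMap,
    comp_orbitMap, one_sm, _root_.one_mul] at h1
  exact h1.symm

omit [IsAlgClosed K] [GrpObj T] in
theorem tFix_of_lift (hX : AGF.IsQuotient iB X a o)
    (g : 𝟙_ (Over (Spec (CommRingCat.of K))) ⟶ G) (t : T ⟶ B) (ht : t ≫ AGF.conjBy g iB = bT) :
    Cell.TFix a (sm a g o) bT := by
  have h1 : toUnit T ≫ sm a g o = sm a (toUnit T ≫ g) (toUnit T ≫ o) := comp_sm _ _ _ _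
  rw [Cell.TFix, h1, ← mul_sm, ← ht, ConjDict.comp_conjBy, inv_mul_cancel_right, mul_sm,
    sm_base hX]

/-- **The chart around a torus-fixed point.** -/
theorem exists_chart (hG : Red.IsReductiveOver K G) (hB : Red.IsBorelOver K iB)
    (hX : AGF.IsQuotient iB X a o) (hT : AGF.IsMaxTorus bT)
    {x : 𝟙_ (Over (Spec (CommRingCat.of K))) ⟶ X} (hx : Cell.TFix a x bT) :
    ∃ mu : Red.Gm (Spec (CommRingCat.of K)) ⟶ T, IsMonHom mu ∧ IsDynZ (mu ≫ bT) bT ∧
      ∀ (V : Over (Spec (CommRingCat.of K))) [GrpObj V] (v : V ⟶ G),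
        IsDynU (negLam (mu ≫ bT)) v → IsOpenImmersion (v ≫ a.orbitMap x).left := by
  have hGa : IsAffine G.left := hG.1
  have hGs : Smooth G.hom := hG.2.1
  obtain ⟨g, rfl⟩ := exists_sm_eq hX x
  obtain ⟨t, ht⟩ := exists_lift hX g hx
  have hBg : Red.IsBorelOver K (AGF.conjBy g iB) := K492.Basic.isBorelOver_conjBy hB g
  have h1 : IsMonHom (AGF.conjBy g iB) := hBg.1
  have h2 : IsClosedImmersion (AGF.conjBy g iB).left := hBg.2.1
  have h3 : Mono (AGF.conjBy g iB) := Over.mono_of_mono_left _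
  have htm : AGF.IsMaxTorus t := K492.Basic.isMaxTorus_lift hT _ t ht
  obtain ⟨-, mu, hmu, hP, hZ⟩ := PbK2BFin.dynK2B K G B (AGF.conjBy g iB) hG hBg T t
    (isMaximalTorus_iff.2 htm)
  rw [ht] at hP hZ
  have := hZ.isMonHom
  refine ⟨mu, hmu, hZ, fun V _ v hv => ?_⟩
  have hq := QuotConj.isQuotient_conjBy hX g
  have hGn : IsLocallyNoetherian G.left := LocallyOfFiniteType.isLocallyNoetherian G.hom
  have hGn' : IsNoetherian G.left := {}
  have hqc : QuasiCompact (a.orbitMap (sm a g o)).left := inferInstance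
  have h4 := DynCell998.isOpenImmersion_cell hP hv
  exact OpenCell.isOpenImmersion_orbit hq v h4

omit [GrpObj T] in
theorem isParabolic (hB : Red.IsBorelOver K iB) : Red.IsParabolic iB :=
  AlgBc.isParabolic_iff.2 ⟨hB.1, hB.2.1, hB.2.2.1, B, inferInstance, 𝟙 B, by
    rwa [Category.id_comp]⟩

/-- **Every point of `G/B` is `u x` with `u ∈ U_G(λ)` and `x` torus-fixed.** -/
theorem exists_fix (hG : Red.IsReductiveOver K G) (hB : Red.IsBorelOver K iB)
    (hX : AGF.IsQuotient iB X a o) {t : T ⟶ B} (ht : t ≫ iB = bT) (hT : AGF.IsMaxTorus bT)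
    (hTc : ∀ {Y : Over (Spec (CommRingCat.of K))} (a b : Y ⟶ T), a * b = b * a)
    {lam : Red.Gm (Spec (CommRingCat.of K)) ⟶ G} [IsMonHom lam] (hP : IsDynP lam iB)
    (hZ : IsDynZ lam bT) (y : 𝟙_ (Over (Spec (CommRingCat.of K))) ⟶ X) :
    ∃ x : 𝟙_ (Over (Spec (CommRingCat.of K))) ⟶ X, Cell.TFix a x bT ∧
      ∃ b : 𝟙_ (Over (Spec (CommRingCat.of K))) ⟶ G, Curve.LimG lam b ∧ sm a b x = y := by
  have hGa : IsAffine G.left := hG.1
  have hGs : Smooth G.hom := hG.2.1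
  have hBm : IsMonHom iB := hB.1
  have hBc : IsClosedImmersion iB.left := hB.2.1
  have hBs : Smooth B.hom := hB.2.2.1
  have hBa : IsAffine B.left := isAffine_of_isAffineHom iB.left
  have hBmono : Mono iB := Over.mono_of_mono_left _
  have hTm := hT.1
  obtain ⟨g, rfl⟩ := exists_sm_eq hX y
  have hBg : Red.IsBorelOver K (AGF.conjBy g iB) := K492.Basic.isBorelOver_conjBy hB g
  obtain ⟨T', _, i', hi', ⟨α, hα⟩, ⟨β, hβ⟩⟩ :=
    Groth.Agent.RedSub.H652.CommonTorus.exists_common (AlgBc.isReductive_iff.2 hG) iB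
      (isParabolic hB) (AGF.conjBy g iB) (isParabolic hBg)
  have hα' : AGF.IsMaxTorus α := K492.Basic.isMaxTorus_lift (isMaximalTorus_iff.1 hi') iB α hα
  have ht' : AGF.IsMaxTorus t := K492.Basic.isMaxTorus_lift hT iB t ht
  have hBcon : ConnectedSpace B.left := hB.2.2.2.1
  obtain ⟨b, f, hf⟩ := Groth.Agent.S3901.result K B T T' t α ht' hα'
  obtain ⟨z, u, hz, hu, hzu⟩ := LimEx.exists_levi (lam := lam) (hP.ptP K (𝟙 _) b)
  have hu1 : LimOne lam (z * u * z⁻¹) := hu.conj hz.limEx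
  obtain ⟨ζ, hζ⟩ := (hZ.iff_ptZ _ z).2 (Dyn998.ptZ_iff.2 hz)
  let u₁ : 𝟙_ (Over (Spec (CommRingCat.of K))) ⟶ G := z * u * z⁻¹
  let z₁ : 𝟙_ (Over (Spec (CommRingCat.of K))) ⟶ G := z
  have h1 : b ≫ iB = u₁ * z₁ := by
    rw [← hzu]
    change z * u = z * u * z⁻¹ * z
    group
  have h2 : AGF.conjBy z₁ bT = bT := by
    have h3 : z₁ = ζ ≫ bT := hζ.symm
    rw [h3, AGF.conjBy, ← Category.assoc, ← GrpObj.inv_comp]
    have h4 : (toUnit T ≫ ζ) * 𝟙 T * (toUnit T ≫ ζ)⁻¹ = 𝟙 T := by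
      rw [hTc (toUnit T ≫ ζ), mul_inv_cancel_right]
    have h5 := congrArg (fun q => q ≫ bT) h4
    simp only [MonObj.mul_comp, Category.id_comp] at h5
    exact h5
  have h3 : f.hom ≫ i' = AGF.conjBy u₁ bT := by
    rw [← hα, ← Category.assoc, hf, ConjDict.conjBy_comp, h1, ht, ← ConjDict.conjBy_conjBy, h2]
  have h4 : (f.hom ≫ β) ≫ AGF.conjBy (u₁⁻¹ * g) iB = bT := by
    have h5 : (f.hom ≫ β) ≫ AGF.conjBy (u₁⁻¹ * g) iB = AGF.conjBy u₁⁻¹ (f.hom ≫ i') := by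
      rw [← hβ, ← ConjDict.conjBy_conjBy, ConjDict.comp_conjBy, Category.assoc]
    rw [h5, h3, ConjDict.conjBy_conjBy, inv_mul_cancel, ConjDict.conjBy_one]
  refine ⟨sm a (u₁⁻¹ * g) o, tFix_of_lift hX _ _ h4, u₁, (Curve.limG_iff lam u₁).2 hu1, ?_⟩
  rw [← mul_sm, mul_inv_cancel_left]

end K833.FixPt
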