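import Groth.Agent.Etcore.HC
import Groth.Agent.Lefpen.H712.HredH
import Groth.Agent.Lefpen.H527.HlMem

/-!
# Quasi-inverse maps on the finite levels and the limit `H^n(-, Z_ℓ)`
-/

set_option autoImplicit false
universe u

open CategoryTheory CategoryTheory.Limits AlgebraicGeometry Opposite
open scoped Groth.Agent.Etcore.EtInst

namespace K833.HlTransfer

open Groth.Agent.Etcore.EtInst Groth.Agent.Etcore.HpullCalc Groth.Agent.Etcore.HC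

variable {X Y : Scheme.{u}} (ℓ : ℕ)

theorem red_HC (f : Y ⟶ X) (n ν : ℕ) (x : HH X (EtCoh.const X (ZMod (ℓ ^ (ν + 1)))) n) :
    HHmap (EtAdic.red Y ℓ ν) n (HC (ZMod (ℓ ^ (ν + 1))) f n x) =
      HC (ZMod (ℓ ^ ν)) f n (HHmap (EtAdic.red X ℓ ν) n x) :=
  Groth.Agent.Lefpen.H712.HredH.red_hp ℓ f n ν x

theorem Hred_eq (n ν : ℕ) (x : HH X (EtCoh.const X (ZMod (ℓ ^ (ν + 1)))) n) :
    @Eq (HH X (EtCoh.const X (ZMod (ℓ ^ ν))) n) (EtAdic.Hred X ℓ n ν x)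
      (HHmap (EtAdic.red X ℓ ν) n x) := rfl

theorem mem_Hl_iff (n : ℕ) (x : ∀ ν : ℕ, HH X (EtCoh.const X (ZMod (ℓ ^ ν))) n) :
    x ∈ EtAdic.Hl X ℓ n ↔ ∀ ν, HHmap (EtAdic.red X ℓ ν) n (x (ν + 1)) = x ν :=
  Groth.Agent.Lefpen.H527.HlMem.mem_Hl_iff X ℓ n x

theorem nsmul_eq (n ν N : ℕ) (x : HH X (EtCoh.const X (ZMod (ℓ ^ ν))) n) :
    @Eq (HH X (EtCoh.const X (ZMod (ℓ ^ ν))) n)
      (@HSMul.hSMul ℕ (EtAdic.Hmod X ℓ n ν) (EtAdic.Hmod X ℓ n ν) instHSMul N x) (N • x) := rfl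

theorem Hmap_eq (f : Y ⟶ X) (hf : PreservesFiniteLimits (EtCoh.pull f)) (n ν : ℕ)
    (x : HH X (EtCoh.const X (ZMod (ℓ ^ ν))) n) :
    @Eq (HH Y (EtCoh.const Y (ZMod (ℓ ^ ν))) n) (EtAdic.Hmap ℓ f hf n ν x)
      (HC (ZMod (ℓ ^ ν)) f n x) := rfl

theorem main (f : Y ⟶ X) (hf : PreservesFiniteLimits (EtCoh.pull f)) (n N : ℕ) (hN : 0 < N)
    (t : ∀ ν : ℕ, HH Y (EtCoh.const Y (ZMod (ℓ ^ ν))) n →+ HH X (EtCoh.const X (ZMod (ℓ ^ ν))) n)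
    (h1 : ∀ ν c, HC (ZMod (ℓ ^ ν)) f n (t ν c) = N • c)
    (h2 : ∀ ν a, t ν (HC (ZMod (ℓ ^ ν)) f n a) = N • a) :
    (∀ x ∈ EtAdic.Hl X ℓ n, (∀ ν : ℕ, EtAdic.Hmap ℓ f hf n ν (x ν) = 0) →
        ∃ N : ℕ, 0 < N ∧ N • x = 0) ∧
      (∀ y ∈ EtAdic.Hl Y ℓ n, ∃ N : ℕ, 0 < N ∧ ∃ x ∈ EtAdic.Hl X ℓ n,
        ∀ ν : ℕ, N • y ν = EtAdic.Hmap ℓ f hf n ν (x ν)) := by
  constructor
  · intro x _ hx
    refine ⟨N, hN, ?_⟩
    funext ν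
    have h3 : HC (ZMod (ℓ ^ ν)) f n (x ν) = 0 := hx ν
    have h4 := h2 ν (x ν)
    rw [h3, map_zero] at h4
    exact h4.symm
  · intro y hy
    rw [mem_Hl_iff] at hy
    have h5 : ∀ ν a, HC (ZMod (ℓ ^ ν)) f n a = 0 → N • a = 0 := by
      intro ν a ha
      rw [← h2 ν a, ha, map_zero]
    refine ⟨N * N, Nat.mul_pos hN hN, fun ν => N • t ν (y ν), ?_, fun ν => ?_⟩
    · rw [mem_Hl_iff]
      intro ν
      have h6 : N • (HHmap (EtAdic.red X ℓ ν) n (t (ν + 1) (y (ν + 1))) - t ν (y ν)) = 0 := by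
        apply h5
        rw [map_sub, ← red_HC, h1, h1, map_nsmul, hy ν, sub_self]
      rw [smul_sub, sub_eq_zero] at h6
      rw [map_nsmul]
      exact h6
    · have h7 : HC (ZMod (ℓ ^ ν)) f n (N • t ν (y ν)) = (N * N) • (y ν) := by
        rw [map_nsmul, h1, mul_smul]
      exact h7.symm

end K833.HlTransfer
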