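import Groth.Agent.EtAdic.K833.StratSch
import Groth.Agent.EtAdic.K833.CellCoh
import Groth.Agent.EtpbcA.CdEtLeray
import Groth.Agent.Etcore.Stalks

/-!
# Odd cohomology of proper schemes with a stratification by affine spaces
-/

set_option autoImplicit false
universe u
open CategoryTheory CategoryTheory.Limits AlgebraicGeometry

namespace K833.StratCoh

variable (k : Type u) [Field k] [IsAlgClosed k] (N : ℕ) (hN : (N : k) ≠ 0)

theorem subsingleton_of_isEmpty (X : Scheme.{u}) [IsEmpty X] (F : EtCoh.Ab X) (q : ℕ) :
    Subsingleton (EtCoh.H X F q) :=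
  Groth.Agent.EtpbcA.CdEtLeray.H_subsingleton_of_isZero
    (Groth.Agent.Etcore.Stalks.isZero_of_stalks _ fun x => (IsEmpty.false x).elim) q

include hN in
/-- **Odd cohomology vanishes** for a proper scheme with a stratification by affine spaces. -/
theorem odd_vanish {X : Scheme.{u}} (a : X ⟶ Spec (CommRingCat.of k)) [IsProper a] [IsReduced X]
    {ι : Type*} [Finite ι] (A : ι → Scheme.{u}) (c : ∀ i, A i ⟶ X) (hc : ∀ i, IsImmersion (c i))
    (d : ι → ℕ) (e : ∀ i, A i ≅ Spec (CommRingCat.of (MvPolynomial (Fin (d i)) k)))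
    (he : ∀ i, (e i).hom ≫ Spec.map (CommRingCat.ofHom
      (algebraMap k (MvPolynomial (Fin (d i)) k))) = c i ≫ a)
    (h3 : ∀ i j, i ≠ j → Disjoint (Set.range (c i)) (Set.range (c j)))
    (h4 : ∀ i j, (Set.range (c j) ∩ closure (Set.range (c i))).Nonempty →
      Set.range (c j) ⊆ closure (Set.range (c i)))
    (hcov : ⋃ i, Set.range (c i) = Set.univ) (q : ℕ) (hq : Odd q) :
    Subsingleton (EtCoh.H X (EtCoh.const X (ZMod N)) q) := by
  have hirr : ∀ i, IrreducibleSpace (A i) := fun i => by
    have : IrreducibleSpace (Spec (CommRingCat.of (MvPolynomial (Fin (d i)) k))) := inferInstance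
    have h := (IrreducibleSpace.isIrreducible_univ (Spec (CommRingCat.of
      (MvPolynomial (Fin (d i)) k)))).image _ (e i).inv.continuous.continuousOn
    rw [Set.image_univ, (e i).inv.surjective.range_eq] at h
    exact (irreducibleSpace_def _).2 h
  have hred : ∀ i, IsReduced (A i) := fun i => isReduced_of_isOpenImmersion (e i).hom
  let P : Set X → Prop := fun Z => ∀ (W : Scheme.{u}) (i : W ⟶ X) [IsClosedImmersion i]
    [IsReduced W], Set.range i = Z → Subsingleton (EtCoh.H W (EtCoh.const W (ZMod N)) q)
  have key : P Set.univ := by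
    refine StratTop.induct (fun i => Set.range (c i)) (fun i => ?_)
      (fun i => (c i).isLocallyClosed_range) h3 h4 hcov P ?_ ?_
    · have := IrreducibleSpace.isIrreducible_univ (A i)
      rw [← Set.image_univ]
      exact this.image _ (c i).continuous.continuousOn
    · intro W i _ _ hi
      have : IsEmpty W := by
        rw [← Set.range_eq_empty_iff (f := i)]
        exact hi
      exact subsingleton_of_isEmpty W _ q
    · intro Z Z' s hZ hZ' hd hun ih W w _ _ hw
      obtain ⟨W', w', hw'1, hw'2, hw'3⟩ := StratSch.exists_reduced Z' hZ'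
      obtain ⟨t, ht⟩ := StratSch.exists_lift w w' (by
        rw [hw, hw'3, hun]
        exact Set.subset_union_left)
      have := hred s
      obtain ⟨j, hj⟩ := StratSch.exists_lift w (c s) (by
        rw [hw, hun]
        exact Set.subset_union_right)
      have ht' : IsClosedImmersion (t ≫ w) := by rw [ht]; exact hw'1
      have ht2 : IsClosedImmersion t := IsClosedImmersion.of_comp t w
      have hj' : IsImmersion (j ≫ w) := by rw [hj]; exact hc s
      have hj2 : IsImmersion j := IsImmersion.of_comp j w
      have hrt : Set.range t = w ⁻¹' Z' := by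
        rw [← hw'3, ← ht]
        ext x
        simp only [Set.mem_range, Set.mem_preimage, Scheme.Hom.comp_apply]
        exact ⟨fun ⟨y, hy⟩ => ⟨y, by rw [hy]⟩,
          fun ⟨y, hy⟩ => ⟨y, w.isClosedEmbedding.injective hy⟩⟩
      have hrj : Set.range j = w ⁻¹' (Set.range (c s)) := by
        rw [← hj]
        ext x
        simp only [Set.mem_range, Set.mem_preimage, Scheme.Hom.comp_apply]
        exact ⟨fun ⟨y, hy⟩ => ⟨y, by rw [hy]⟩,
          fun ⟨y, hy⟩ => ⟨y, w.isClosedEmbedding.injective hy⟩⟩
      have hcompl : IsCompl (Set.range t) (Set.range j) := by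
        rw [hrt, hrj]
        refine ⟨hd.preimage w, ?_⟩
        rw [codisjoint_iff, eq_top_iff]
        intro x _
        have hx' : w x ∈ Z := by rw [← hw]; exact ⟨x, rfl⟩
        rw [hun] at hx'
        exact hx'
      have hjo : IsOpenImmersion j := by
        refine StratSch.isOpenImmersion_of_isOpen_range j ?_
        rw [← hcompl.compl_eq]
        exact t.isClosedEmbedding.isClosed_range.isOpen_compl
      refine CellCoh.step k N hN (w ≫ a) j (d s) (e s) ?_ t hcompl q hq (ih W' w' hw'3)
      rw [he, ← hj, Category.assoc]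
  exact key X (𝟙 X) (by simp)

end K833.StratCoh
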