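import Mathlib.Topology.LocallyClosed
import Mathlib.Topology.Irreducible
import Mathlib.Order.Preorder.Finite
import Mathlib.Data.Finset.Max

/-!
# Stratifications by finitely many irreducible locally closed subsets

`C i` finitely many irreducible locally closed disjoint subsets covering the space, such that the closure of each
`C i` is a union of some of the `C j`. Then closed unions of the `C i` can be built by adding one stratum at a time.
-/

set_option autoImplicit false

open Set Topology

namespace K833.StratTop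

variable {X : Type*} [TopologicalSpace X]

theorem eq_inter_closure {s : Set X} (h : IsLocallyClosed s) : ∃ U, IsOpen U ∧ s = U ∩ closure s := by
  obtain ⟨U, V, hU, hV, rfl⟩ := h
  refine ⟨U, hU, subset_antisymm (fun x hx => ⟨hx.1, subset_closure hx⟩) fun x hx => ⟨hx.1, ?_⟩⟩
  exact closure_minimal inter_subset_right hV hx.2

theorem inter_nonempty {s t : Set X} (hs : IsLocallyClosed s) (ht : IsLocallyClosed t)
    (hs' : IsIrreducible s) (ht' : t.Nonempty) (h : closure s = closure t) : (s ∩ t).Nonempty := by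
  obtain ⟨U, hU, hsU⟩ := eq_inter_closure hs
  obtain ⟨V, hV, htV⟩ := eq_inter_closure ht
  have h1 : IsIrreducible (closure s) := hs'.closure
  obtain ⟨x, hx⟩ := h1.2 U V hU hV (by
      obtain ⟨x, hx⟩ := hs'.1
      rw [hsU] at hx
      exact ⟨x, hx.2, hx.1⟩) (by
      obtain ⟨x, hx⟩ := ht'
      rw [htV, ← h] at hx
      exact ⟨x, hx.2, hx.1⟩)
  refine ⟨x, ?_, ?_⟩
  · rw [hsU]
    exact ⟨hx.2.1, hx.1⟩
  · rw [htV, ← h]
    exact ⟨hx.2.2, hx.1⟩

variable {ι : Type*} (C : ι → Set X) (h1 : ∀ i, IsIrreducible (C i)) (h2 : ∀ i, IsLocallyClosed (C i))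
  (h3 : ∀ i j, i ≠ j → Disjoint (C i) (C j))
  (h4 : ∀ i j, (C j ∩ closure (C i)).Nonempty → C j ⊆ closure (C i))

include h1 h2 h3 h4 in
theorem induct_finset [DecidableEq ι] (P : Set X → Prop) (h0 : P ∅)
    (hstep : ∀ (Z Z' : Set X) (i : ι), IsClosed Z → IsClosed Z' → Disjoint Z' (C i) →
      Z = Z' ∪ C i → P Z' → P Z) (n : ℕ) :
    ∀ J : Finset ι, J.card = n → IsClosed (⋃ i ∈ J, C i) → P (⋃ i ∈ J, C i) := by
  induction n with
  | zero =>
    intro J hJ _
    obtain rfl := Finset.card_eq_zero.1 hJ
    simpa using h0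
  | succ n ih =>
    intro J hJ hcl
    have hne : J.Nonempty := Finset.card_pos.1 (by omega)
    obtain ⟨i, hi, hmax⟩ := J.exists_maximalFor (fun i => closure (C i)) hne
    have hun : (⋃ j ∈ J, C j) = (⋃ j ∈ J.erase i, C j) ∪ C i := by
      ext x
      simp only [mem_iUnion, mem_union, Finset.mem_erase]
      constructor
      · rintro ⟨j, hj, hx⟩
        by_cases h : j = i
        · subst h
          exact Or.inr hx
        · exact Or.inl ⟨j, ⟨h, hj⟩, hx⟩
      · rintro (⟨j, hj, hx⟩ | hx)
        · exact ⟨j, hj.2, hx⟩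
        · exact ⟨i, hi, hx⟩
    have hdis : Disjoint (⋃ j ∈ J.erase i, C j) (C i) := by
      simp only [disjoint_iUnion_left, Finset.mem_erase]
      intro j hj
      exact h3 j i hj.1
    have hcl' : IsClosed (⋃ j ∈ J.erase i, C j) := by
      have key : ∀ j ∈ J.erase i, closure (C j) ⊆ ⋃ j ∈ J.erase i, C j := by
        intro j hj x hx
        rw [Finset.mem_erase] at hj
        have hx' : x ∈ ⋃ j ∈ J, C j := closure_minimal (subset_biUnion_of_mem hj.2) hcl hx
        rw [hun] at hx'
        rcases hx' with hx' | hx'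
        · exact hx'
        · exfalso
          have h5 : C i ⊆ closure (C j) := h4 j i ⟨x, hx', hx⟩
          have h6 : closure (C i) ⊆ closure (C j) := closure_minimal h5 isClosed_closure
          have h7 : closure (C j) ⊆ closure (C i) := hmax hj.2 h6
          obtain ⟨y, hy⟩ := inter_nonempty (h2 j) (h2 i) (h1 j) (h1 i).1 (subset_antisymm h7 h6)
          exact (Set.disjoint_left.1 (h3 j i hj.1)) hy.1 hy.2
      have : (⋃ j ∈ J.erase i, C j) = ⋃ j ∈ J.erase i, closure (C j) :=
        subset_antisymm (iUnion₂_mono fun j _ => subset_closure) (iUnion₂_subset key)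
      rw [this]
      exact isClosed_biUnion_finset fun j _ => isClosed_closure
    exact hstep _ _ i hcl hcl' hdis hun (ih (J.erase i) (by rw [Finset.card_erase_of_mem hi, hJ]; rfl) hcl')

include h1 h2 h3 h4 in
/-- Induction along a stratification. -/
theorem induct [Finite ι] (hcov : ⋃ i, C i = Set.univ) (P : Set X → Prop) (h0 : P ∅)
    (hstep : ∀ (Z Z' : Set X) (i : ι), IsClosed Z → IsClosed Z' → Disjoint Z' (C i) →
      Z = Z' ∪ C i → P Z' → P Z) : P Set.univ := by
  classical
  have := Fintype.ofFinite ι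
  have h := induct_finset C h1 h2 h3 h4 P h0 hstep _ (Finset.univ : Finset ι) rfl
  simp only [Finset.mem_univ, iUnion_true, hcov] at h
  exact h isClosed_univ

end K833.StratTop
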