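import Groth.Agent.Books.AlgPts
import Groth.Agent.EtAdic.K833.StratTop

/-!
# Stratifications and rational points over an algebraically closed field
-/

set_option autoImplicit false
universe u
open CategoryTheory MonoidalCategory CartesianMonoidalCategory AlgebraicGeometry Topology
open Groth.Agent.Books.AlgPts

namespace K833.StratPts

variable {k : Type u} [Field k] [IsAlgClosed k] {X : Over (Spec (CommRingCat.of k))}
  [LocallyOfFiniteType X.hom]

theorem disjoint_of_pt {A B : Set X.left} (hA : IsLocallyClosed A) (hB : IsLocallyClosed B)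
    (h : ∀ y : 𝟙_ (Over (Spec (CommRingCat.of k))) ⟶ X, pt y ∈ A → pt y ∉ B) : Disjoint A B := by
  rw [Set.disjoint_iff_inter_eq_empty]
  by_contra hne
  obtain ⟨y, hy⟩ := exists_pt_mem (X := X) (Set.nonempty_iff_ne_empty.2 hne) (hA.inter hB)
  exact h y hy.1 hy.2

/-- A finite union of locally closed subsets containing all rational points is everything. -/
theorem iUnion_eq_univ {ι : Type*} [Finite ι] (C : ι → Set X.left) (hC : ∀ i, IsLocallyClosed (C i))
    (h : ∀ y : 𝟙_ (Over (Spec (CommRingCat.of k))) ⟶ X, ∃ i, pt y ∈ C i) :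
    ⋃ i, C i = Set.univ := by
  refine Set.eq_univ_of_forall fun ξ => ?_
  let Z : Set X.left := closure {ξ}
  have hZ : IsIrreducible Z := isIrreducible_singleton.closure
  have hZc : IsClosed Z := isClosed_closure
  have h1 : Z ⊆ ⋃ i, closure (C i ∩ Z) := by
    refine subset_of_forall_pt hZc.isLocallyClosed (isClosed_iUnion_of_finite fun i => isClosed_closure)
      fun y hy => ?_
    obtain ⟨i, hi⟩ := h y
    exact Set.mem_iUnion.2 ⟨i, subset_closure ⟨hi, hy⟩⟩
  have h2 : ∃ i, Z ⊆ closure (C i ∩ Z) := by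
    have := Fintype.ofFinite ι
    obtain ⟨z, hz, hz2⟩ := (isIrreducible_iff_sUnion_isClosed.1 hZ)
      (Finset.univ.image fun i => closure (C i ∩ Z)) (by
        intro z hz
        simp only [Finset.mem_image, Finset.mem_univ, true_and] at hz
        obtain ⟨i, rfl⟩ := hz
        exact isClosed_closure) (by simpa using h1)
    simp only [Finset.mem_image, Finset.mem_univ, true_and] at hz
    obtain ⟨i, rfl⟩ := hz
    exact ⟨i, hz2⟩
  obtain ⟨i, hi⟩ := h2
  refine Set.mem_iUnion.2 ⟨i, ?_⟩
  obtain ⟨U, D, hU, hD, hUD⟩ := hC i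
  have h3 : Z ⊆ D := hi.trans (closure_minimal (by
    rw [hUD]
    exact fun x hx => hx.1.2) hD)
  have h4 : (Z ∩ U).Nonempty := by
    by_contra hne
    rw [Set.not_nonempty_iff_eq_empty] at hne
    have h5 : C i ∩ Z = ∅ := by
      rw [hUD, Set.eq_empty_iff_forall_notMem]
      intro x hx
      have : x ∈ Z ∩ U := ⟨hx.2, hx.1.1⟩
      rw [hne] at this
      exact this
    rw [h5, closure_empty] at hi
    exact hi (subset_closure rfl : ξ ∈ Z)
  have h5 : ξ ∈ U := by
    obtain ⟨x, hx, hxU⟩ := h4
    have h6 : ξ ⤳ x := by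
      rw [specializes_iff_mem_closure]
      exact hx
    exact h6.mem_open hU hxU
  rw [hUD]
  exact ⟨h5, h3 (subset_closure rfl)⟩

theorem subset_closure_of_pt {A B : Set X.left} (hA : IsLocallyClosed A)
    (h : ∀ y z : 𝟙_ (Over (Spec (CommRingCat.of k))) ⟶ X, pt y ∈ A → pt y ∈ closure B →
      pt z ∈ A → pt z ∈ closure B) (hne : (A ∩ closure B).Nonempty) : A ⊆ closure B := by
  obtain ⟨y, hy⟩ := exists_pt_mem (X := X) hne (hA.inter isClosed_closure.isLocallyClosed)
  exact subset_of_forall_pt hA isClosed_closure fun z hz => h y z hy.1 hy.2 hz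

/-- The closure of a locally closed set is stable under a continuous map which maps its rational points into it. -/
theorem map_closure {B : Set X.left} (hB : IsLocallyClosed B) (f : X ⟶ X)
    (h : ∀ y : 𝟙_ (Over (Spec (CommRingCat.of k))) ⟶ X, pt y ∈ B → pt (y ≫ f) ∈ closure B)
    (y : 𝟙_ (Over (Spec (CommRingCat.of k))) ⟶ X) (hy : pt y ∈ closure B) :
    pt (y ≫ f) ∈ closure B := by
  have h1 : B ⊆ f.left ⁻¹' closure B := by
    refine subset_of_forall_pt hB (isClosed_closure.preimage f.left.continuous) fun z hz => ?_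
    rw [Set.mem_preimage, ← pt_comp]
    exact h z hz
  have h2 : closure B ⊆ f.left ⁻¹' closure B :=
    closure_minimal h1 (isClosed_closure.preimage f.left.continuous)
  rw [pt_comp]
  exact h2 hy

end K833.StratPts
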