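import Groth.Agent.EtAdic.K833.FixPt
import Groth.Agent.EtAdic.K833.StratCoh
import Groth.Agent.EtAdic.K833.StratPts
import Groth.Agent.S3899
import Groth.Agent.Sga3B.MaxTorNear900
import Groth.Agent.FlatB.GeomRed
import Groth.Agent.Etcore.SmoothRed

/-!
# The odd cohomology of `G / B` vanishes
-/

set_option autoImplicit false
universe u

open CategoryTheory MonoidalCategory CartesianMonoidalCategory MonObj GrpObj AlgebraicGeometry
open Groth.Agent.Sga3B Groth.Agent.Sga3B.Parab Groth.Agent.Books.BorelOrb Groth.Agent.Books.AlgPts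

namespace K833.OddVanish

variable {K : Type u} [Field K] {G B X T : Over (Spec (CommRingCat.of K))}
  [GrpObj G] [GrpObj B] [GrpObj T] {iB : B ⟶ G} {a : AlgGrp.Action G X}
  {o : 𝟙_ (Over (Spec (CommRingCat.of K))) ⟶ X} {bT : T ⟶ G}

variable [IsAlgClosed K]

/-- The chart and the cell of a torus-fixed point. -/
theorem exists_data (hG : Red.IsReductiveOver K G) (hB : Red.IsBorelOver K iB)
    (hX : AGF.IsQuotient iB X a o) (hT : AGF.IsMaxTorus bT) [IsSeparated X.hom]
    (mu : Red.Gm (Spec (CommRingCat.of K)) ⟶ T) [IsMonHom mu]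
    {x : 𝟙_ (Over (Spec (CommRingCat.of K))) ⟶ X} (hx : Cell.TFix a x bT) :
    (∃ W : Set X.left, IsOpen W ∧
      (∀ y : 𝟙_ (Over (Spec (CommRingCat.of K))) ⟶ X, Curve.LimPt a (mu ≫ bT) y x → pt y ∈ W) ∧
      ∀ y : 𝟙_ (Over (Spec (CommRingCat.of K))) ⟶ X, Cell.TFix a y bT → pt y ∈ W → y = x) ∧
    ∃ (H : Over (Spec (CommRingCat.of K))) (c : H ⟶ X) (d : ℕ)
      (e : H.left ≅ Spec (CommRingCat.of (MvPolynomial (Fin d) K))), IsImmersion c.left ∧
      e.hom ≫ Spec.map (CommRingCat.ofHom (algebraMap K (MvPolynomial (Fin d) K))) = H.hom ∧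
      (∀ w : 𝟙_ _ ⟶ H, ∃ b : 𝟙_ _ ⟶ G, Curve.LimG (mu ≫ bT) b ∧ w ≫ c = sm a b x) ∧
      ∀ y : 𝟙_ _ ⟶ X, Curve.LimPt a (mu ≫ bT) y x → ∃ w : 𝟙_ _ ⟶ H, w ≫ c = y := by
  have hGa : IsAffine G.left := hG.1
  have hGs : Smooth G.hom := hG.2.1
  have hGah : IsAffineHom G.hom := inferInstance
  have hTm := hT.1
  have hft : LocallyOfFiniteType X.hom := hX.1
  have hTc : ∀ {Y : Over (Spec (CommRingCat.of K))} (a b : Y ⟶ T), a * b = b * a :=
    fun {Y} a b => MaxTorNear900.mul_comm_of_isTorus hT.2.2.1 Y a b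
  obtain ⟨nu, hnu, hZ, hch⟩ := FixPt.exists_chart hG hB hX hT hx
  obtain ⟨V, _, v, hv, -⟩ := DynExist998.exists_isDynU (negLam (nu ≫ bT))
  have hop := hch V v hv
  have hvm := hv.isMonHom
  have hVs : Smooth V.hom := DynSmooth998.isDynU_smooth hv
  have hZ' : IsDynZ (negLam (nu ≫ bT)) bT :=
    ⟨hZ.isMonHom, hZ.mono, fun Y g => (hZ.iff_ptZ Y g).trans OppPts172.ptZ_negLam.symm⟩
  refine ⟨⟨Set.range (v ≫ a.orbitMap x).left, (v ≫ a.orbitMap x).left.isOpenEmbedding.isOpen_range,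
    ?_, ?_⟩, Cell.exists_cell hTc hZ' hv hx⟩
  · intro y hy
    obtain ⟨w, hw⟩ := Chart.exists_point a (hx.fixed mu) (Cell.normalizes hZ' hv mu) hy
    rw [← hw, pt_comp]
    exact ⟨_, rfl⟩
  · intro y hy hyW
    obtain ⟨w, hw⟩ := exists_comp_eq_of_pt_mem_range (v ≫ a.orbitMap x) y hyW
    have h1 : Curve.LimG (negLam (nu ≫ bT)) (w ≫ v) :=
      (Curve.limG_iff _ _).2 (hv.ptU K (𝟙 _) w)
    have h2 : ∀ {z}, Cell.TFix a z bT → Curve.Fixed a (negLam (nu ≫ bT)) z := by
      intro z hz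
      have := hz.fixed (Red.DSmap _ (-(AddMonoidHom.id ℤ)) ≫ nu)
      rwa [Category.assoc] at this
    have h3 := Curve.LimPt.smul a _ (Curve.LimPt.of_fixed a _ (h2 hx)) h1
    have h4 : sm a (w ≫ v) x = y := by
      rw [← hw, ← Category.assoc, comp_orbitMap, toUnit_unique (toUnit _) (𝟙 _), Category.id_comp]
    rw [h4] at h3
    exact Curve.LimPt.unique a _ (Curve.LimPt.of_fixed a _ (h2 hy)) h3

variable (K) in
/-- **The odd cohomology of the flag variety of a reductive group vanishes.** -/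
theorem main (N : ℕ) (hN : (N : K) ≠ 0) (hG : Red.IsReductiveOver K G)
    (hB : Red.IsBorelOver K iB) (hX : AGF.IsQuotient iB X a o) (q : ℕ) (hq : Odd q) :
    Subsingleton (EtCoh.H X.left (EtCoh.const X.left (ZMod N)) q) := by
  have hGa : IsAffine G.left := hG.1
  have hGs : Smooth G.hom := hG.2.1
  have hGc : ConnectedSpace G.left := hG.2.2.1
  have hft : LocallyOfFiniteType X.hom := hX.1
  have hXp : IsProper X.hom := Groth.Agent.S3899.result K G B iB hB X a o hX
  have hXflat : Flat (a.orbitMap o).left := hX.2.1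
  have hXsurj : Surjective (a.orbitMap o).left := hX.2.2.1
  have hGred : IsReduced G.left := Groth.Agent.Etcore.SmoothRed.isReduced_of_smooth G.hom
  have hXred : IsReduced X.left :=
    Groth.Agent.FlatB.GeomRed.isReduced_of_flat_of_surjective (a.orbitMap o).left
  have hXc : CompactSpace X.left := (a.orbitMap o).left.surjective.compactSpace
    (a.orbitMap o).left.continuous
  -- the torus
  obtain ⟨T, _, bT, hT, ⟨t, ht⟩, -⟩ :=
    Groth.Agent.RedSub.H652.CommonTorus.exists_common (AlgBc.isReductive_iff.2 hG) iB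
      (FixPt.isParabolic hB) iB (FixPt.isParabolic hB)
  rw [FixPt.isMaximalTorus_iff] at hT
  have hBm : IsMonHom iB := hB.1
  have hBc : IsClosedImmersion iB.left := hB.2.1
  have hBmono : Mono iB := Over.mono_of_mono_left _
  have hTm := hT.1
  have hTc : ∀ {Y : Over (Spec (CommRingCat.of K))} (a b : Y ⟶ T), a * b = b * a :=
    fun {Y} a b => MaxTorNear900.mul_comm_of_isTorus hT.2.2.1 Y a b
  have htm : AGF.IsMaxTorus t := K492.Basic.isMaxTorus_lift hT iB t ht
  obtain ⟨-, mu, hmu, hP, hZ⟩ := PbK2BFin.dynK2B K G B iB hG hB T t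
    (FixPt.isMaximalTorus_iff.2 htm)
  rw [ht] at hP hZ
  have hcov := FixPt.exists_fix hG hB hX ht hT hTc hP hZ
  let F := {x : 𝟙_ (Over (Spec (CommRingCat.of K))) ⟶ X // Cell.TFix a x bT}
  choose hW H c d e hc he hlim hpt using fun x : F => exists_data hG hB hX hT mu x.2
  choose W hWo hW1 hW2 using hW
  have hlimEx : ∀ y, ∃ x : F, Curve.LimPt a (mu ≫ bT) y x.1 := by
    intro y
    obtain ⟨x, hx, b, hb, rfl⟩ := hcov y
    exact ⟨⟨x, hx⟩, Curve.LimPt.smul a _ (Curve.LimPt.of_fixed a _ (hx.fixed mu)) hb⟩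
  have hmem : ∀ (x : F) y, pt y ∈ Set.range (c x).left ↔ Curve.LimPt a (mu ≫ bT) y x.1 := by
    intro x y
    constructor
    · intro hy
      have hHl : LocallyOfFiniteType (H x).hom := by
        have h1 : LocallyOfFiniteType (Spec.map (CommRingCat.ofHom
            (algebraMap K (MvPolynomial (Fin (d x)) K)))) := by
          refine HasRingHomProperty.Spec_iff.2 ?_
          change (algebraMap K (MvPolynomial (Fin (d x)) K)).FiniteType
          rw [RingHom.finiteType_algebraMap]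
          infer_instance
        rw [← he x]
        infer_instance
      obtain ⟨w, rfl⟩ := exists_comp_eq_of_pt_mem_range (c x) y hy
      obtain ⟨b, hb, hw⟩ := hlim x w
      rw [hw]
      exact Curve.LimPt.smul a _ (Curve.LimPt.of_fixed a _ (x.2.fixed mu)) hb
    · intro hy
      obtain ⟨w, rfl⟩ := hpt x y hy
      rw [pt_comp]
      exact ⟨_, rfl⟩
  have hfin : Finite F := by
    have huniv : (Set.univ : Set X.left) ⊆ ⋃ x : F, W x := by
      intro ξ _
      by_contra hne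
      obtain ⟨y, hy⟩ := exists_pt_mem (X := X) (U := (⋃ x : F, W x)ᶜ) ⟨ξ, hne⟩
        (isOpen_iUnion hWo).isClosed_compl.isLocallyClosed
      obtain ⟨x, hx⟩ := hlimEx y
      exact hy (Set.mem_iUnion.2 ⟨x, hW1 x y hx⟩)
    obtain ⟨s, hs⟩ := isCompact_univ.elim_finite_subcover W hWo huniv
    refine Finite.of_surjective (fun x : s => x.1) fun x => ?_
    obtain ⟨x', hx's, hx'⟩ := Set.mem_iUnion₂.1 (hs (Set.mem_univ (pt x.1)))
    exact ⟨⟨x', hx's⟩, Subtype.ext (hW2 x' x.1 x.2 hx').symm⟩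
  have hlc : ∀ x, IsLocallyClosed (Set.range (c x).left) := fun x => by
    have := hc x
    exact (c x).left.isLocallyClosed_range
  refine StratCoh.odd_vanish K N hN X.hom (fun x : F => (H x).left) (fun x => (c x).left) hc d e
    (fun x => (he x).trans (Over.w (c x)).symm) ?_ ?_ ?_ q hq
  · intro i j hij
    refine StratPts.disjoint_of_pt (hlc i) (hlc j) fun y hy hy' => hij ?_
    rw [hmem] at hy hy'
    exact Subtype.ext (Curve.LimPt.unique a _ hy hy')
  · intro i j
    refine StratPts.subset_closure_of_pt (hlc j) fun y z hy hy' hz => ?_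
    rw [hmem] at hy hz
    obtain ⟨w, hw⟩ := hpt j y hy
    obtain ⟨w', hw'⟩ := hpt j z hz
    obtain ⟨b, hb, hb2⟩ := hlim j w
    obtain ⟨b', hb', hb2'⟩ := hlim j w'
    have h1 : z = y ≫ tr a (b' * b⁻¹) := by
      rw [comp_tr, toUnit_unique (toUnit _) (𝟙 _), Category.id_comp, ← hw, ← hw', hb2, hb2',
        ← mul_sm, inv_mul_cancel_right]
    have h2 : Curve.LimG (mu ≫ bT) (b' * b⁻¹) := by
      rw [Curve.limG_iff] at hb hb' ⊢
      exact hb'.mul hb.inv
    rw [h1]
    refine StratPts.map_closure (hlc i) (tr a (b' * b⁻¹)) (fun x hx => subset_closure ?_) y hy'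
    rw [hmem] at hx ⊢
    rw [comp_tr, toUnit_unique (toUnit _) (𝟙 _), Category.id_comp]
    exact Curve.LimPt.smul a _ hx h2
  · refine StratPts.iUnion_eq_univ _ hlc fun y => ?_
    obtain ⟨x, hx⟩ := hlimEx y
    exact ⟨x, (hmem x y).2 hx⟩

end K833.OddVanish
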