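import Groth.Agent.EtAdic.K833.StratTop
import Groth.Agent.Ega1.ReducedSub
import Mathlib.AlgebraicGeometry.Morphisms.Immersion

/-!
# Reduced closed subschemes and locally closed cells in them
-/

set_option autoImplicit false
universe u
open CategoryTheory CategoryTheory.Limits AlgebraicGeometry

namespace K833.StratSch

theorem exists_reduced {X : Scheme.{u}} (C : Set X) (hC : IsClosed C) :
    ∃ (W : Scheme.{u}) (j : W ⟶ X), IsClosedImmersion j ∧ IsReduced W ∧ Set.range j = C := by
  refine ⟨_, (Scheme.IdealSheafData.vanishingIdeal ⟨C, hC⟩).subschemeι, inferInstance,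
    Groth.Agent.Ega1.ReducedSub.isReduced_subscheme_vanishingIdeal _, ?_⟩
  rw [Scheme.IdealSheafData.range_subschemeι, Scheme.IdealSheafData.coe_support_vanishingIdeal]
  rfl

theorem exists_lift {X Y W : Scheme.{u}} (f : W ⟶ X) [IsClosedImmersion f] (g : Y ⟶ X)
    [IsReduced Y] (h : Set.range g ⊆ Set.range f) : ∃ l : Y ⟶ W, l ≫ f = g := by
  have h1 : Surjective (pullback.fst g f) := by
    constructor
    rw [← Set.range_eq_univ, Scheme.Pullback.range_fst]
    exact Set.preimage_eq_univ_iff.2 h
  have h2 : IsIso (pullback.fst g f) := isIso_of_isClosedImmersion_of_surjective _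
  exact ⟨inv (pullback.fst g f) ≫ pullback.snd g f, by
    rw [Category.assoc, ← pullback.condition, IsIso.inv_hom_id_assoc]⟩

/-- An immersion with open range into a reduced scheme is an open immersion. -/
theorem isOpenImmersion_of_isOpen_range {A W : Scheme.{u}} (j : A ⟶ W) [IsImmersion j]
    [IsReduced W] (h : IsOpen (Set.range j)) : IsOpenImmersion j := by
  let U : W.Opens := ⟨Set.range j, h⟩
  let l : A ⟶ U := IsOpenImmersion.lift U.ι j (by rw [Scheme.Opens.range_ι]; exact subset_rfl)
  have hl : l ≫ U.ι = j := IsOpenImmersion.lift_fac _ _ _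
  have h1 : IsImmersion (l ≫ U.ι) := by rw [hl]; infer_instance
  have h2 : IsImmersion l := IsImmersion.of_comp l U.ι
  have h3 : Function.Surjective l := by
    intro x
    obtain ⟨y, hy⟩ : (U.ι x) ∈ Set.range j := x.2
    refine ⟨y, U.ι.isOpenEmbedding.injective ?_⟩
    rw [← hy, ← Scheme.Hom.comp_apply, hl]
  have h4 : IsClosed (Set.range l) := by
    rw [h3.range_eq]
    exact isClosed_univ
  have h5 : IsClosedImmersion l := .of_isPreimmersion l h4
  have h6 : Surjective l := ⟨h3⟩
  have h7 : IsIso l := isIso_of_isClosedImmersion_of_surjective l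
  rw [← hl]
  infer_instance

end K833.StratSch
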