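import Mathlib.CategoryTheory.Monoidal.Cartesian.Grp

/-!
# Reversing the order of a product decomposition of a group object
-/

set_option autoImplicit false
universe v u

open CategoryTheory MonoidalCategory CartesianMonoidalCategory MonObj GrpObj

namespace K833.SwapMul

variable {C : Type u} [Category.{v} C] [CartesianMonoidalCategory C] [BraidedCategory C]

/-- `(a, b) ↦ (b⁻¹, a⁻¹)` -/
noncomputable def sw (U Z : C) [GrpObj U] [GrpObj Z] : U ⊗ Z ⟶ Z ⊗ U :=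
  lift (snd U Z ≫ ι[Z]) (fst U Z ≫ ι[U])

theorem sw_sw (U Z : C) [GrpObj U] [GrpObj Z] : sw U Z ≫ sw Z U = 𝟙 _ := by
  apply CartesianMonoidalCategory.hom_ext <;> simp [sw]

instance (U Z : C) [GrpObj U] [GrpObj Z] : IsIso (sw U Z) := ⟨sw Z U, sw_sw U Z, sw_sw Z U⟩

/-- `(z, u) ↦ z u` is an isomorphism iff `(u, z) ↦ u z` is. -/
theorem isIso_swap {P Z U : C} [GrpObj P] [GrpObj Z] [GrpObj U] (z : Z ⟶ P) [IsMonHom z]
    (u : U ⟶ P) [IsMonHom u] [IsIso ((z ⊗ₘ u) ≫ μ[P])] : IsIso ((u ⊗ₘ z) ≫ μ[P]) := by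
  have h1 : (u ⊗ₘ z) ≫ μ[P] = sw U Z ≫ ((z ⊗ₘ u) ≫ μ[P]) ≫ ι[P] := by
    have h2 : ∀ {A B : C} (a : A ⟶ P) (b : B ⟶ P),
        (a ⊗ₘ b) ≫ μ[P] = (fst A B ≫ a) * (snd A B ≫ b) := by
      intro A B a b
      rw [Hom.mul_def]
      congr 1
      apply CartesianMonoidalCategory.hom_ext <;> simp
    have h3 : ∀ {A : C} (a : A ⟶ P), a ≫ ι[P] = a⁻¹ := fun a => (Hom.inv_def a).symm
    have h4 : ι[Z] ≫ z = z⁻¹ := by
      rw [← h3]
      exact inv_hom z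
    have h5 : ι[U] ≫ u = u⁻¹ := by
      rw [← h3]
      exact inv_hom u
    rw [h3, h2, h2, GrpObj.comp_inv, comp_mul, sw, lift_fst_assoc, lift_snd_assoc, Category.assoc,
      Category.assoc, h4, h5, GrpObj.comp_inv, GrpObj.comp_inv, _root_.mul_inv_rev, _root_.inv_inv, _root_.inv_inv]
  rw [h1]
  infer_instance

end K833.SwapMul
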