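import Groth.Agent.EtAdic.K833.Coeff

/-!
# The functor `Ext^t(q⁻¹ A, M_X)` at `A = ℤ`
-/

set_option autoImplicit false
universe u
open CategoryTheory CategoryTheory.Limits AlgebraicGeometry Opposite Abelian
open scoped Groth.Agent.Etcore.EtInst
open Groth.Agent.Etcore.EtInst

namespace K833.TConst

open Groth.Agent.Etcore.HpullCalc Groth.Agent.Etcore.PullCoh Groth.Agent.Etcore.HQ
  Groth.Agent.Etcore.HC Groth.Agent.Etcore Groth.Agent.CurvesA Groth.Agent.Lefpen.H510.ZClass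
  TSys TEv Coeff
open Groth.Agent.EtpbcA.CdDiesEt (Zf)

attribute [local instance] pfl

variable {X Y Z : Scheme.{u}} (M : Type) [AddCommGroup M]

/-- `H^t(X, M)` as `Ext^t(q⁻¹ ℤ, M)`. -/
noncomputable def J (q : X ⟶ Y) (t : ℕ) : HH X (EtCoh.const X M) t →+ TT M q (EtCoh.const Y ℤ) t :=
  AddMonoidHom.mk' (fun z => (Ext.mk₀ (EtCore.pullConst q ℤ).hom).comp z (zero_add t))
    (fun _ _ => Ext.comp_add _ _ _ _)

theorem J_apply (q : X ⟶ Y) (t : ℕ) (z : HH X (EtCoh.const X M) t) :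
    J M q t z = (Ext.mk₀ (EtCore.pullConst q ℤ).hom).comp z (zero_add t) := rfl

theorem J_bijective (q : X ⟶ Y) (t : ℕ) : Function.Bijective (J M q t) := by
  refine Function.bijective_iff_has_inverse.2
    ⟨fun z => (Ext.mk₀ (EtCore.pullConst q ℤ).inv).comp z (zero_add t), fun x => ?_, fun x => ?_⟩
  · change (Ext.mk₀ (EtCore.pullConst q ℤ).inv).comp ((Ext.mk₀ (EtCore.pullConst q ℤ).hom).comp x
      (zero_add t)) (zero_add t) = x
    rw [Ext.mk₀_comp_mk₀_assoc, Iso.inv_hom_id, Ext.mk₀_id_comp]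
  · rw [J_apply, Ext.mk₀_comp_mk₀_assoc, Iso.hom_inv_id, Ext.mk₀_id_comp]

theorem tau_J {X' : Scheme.{u}} {q : X ⟶ Y} {q' : X' ⟶ Y} (k : X' ⟶ X) (h : k ≫ q = q') (t : ℕ)
    (z : HH X (EtCoh.const X M) t) :
    tau M k h _ t (J M q t z) = J M q' t (HC M k t z) := by
  have h1 : (EtCore.pullConst q' ℤ).hom ≫ (EtCore.pullConst k ℤ).inv =
      inv (th k q q' h (EtCoh.const Y ℤ)) ≫ (EtCoh.pull k).map (EtCore.pullConst q ℤ).hom := by
    have h2 := pullConst_comp k q q' h ℤ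
    rw [IsIso.eq_inv_comp, ← Category.assoc, ← h2, Category.assoc, Iso.hom_inv_id, Category.comp_id]
  rw [tau_apply, J_apply, J_apply, HC_apply, HHmap_apply, hp_eq_extMap,
    ExtMap.extMap_mk₀_comp (EtCoh.pull k) (EtCore.pullConst k ℤ).inv _ _ _ h1,
    Ext.comp_assoc_of_third_deg_zero]

/-- The constant section `1`. -/
noncomputable def one (W : Y.Etale) : EtCoh.sect (EtCoh.const Y ℤ) W :=
  (EtCoh.const Y ℤ).obj.map (toTop W).op (cst Y ℤ ⟨1⟩)

theorem H0_id : H0 Z (EtCoh.const Z ℤ) (Ext.mk₀ (𝟙 _)) = cst Z ℤ ⟨1⟩ := by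
  rw [H0_mk₀, Adjunction.homEquiv_id]
  rfl

theorem az_one {W : Y.Etale} (w : Z ⟶ W.left) (g : Z ⟶ Y) (hw : w ≫ W.hom = g) :
    (az g w hw ≫ (EtCoh.pull g).map (SiteZU.lift.{u + 1} (one W))) ≫ (EtCore.pullConst g ℤ).hom =
      𝟙 _ := by
  have h1 : Ext.mk₀ (az g w hw ≫ (EtCoh.pull g).map (SiteZU.lift.{u + 1} (one W))) =
      sec (EtCoh.const Y ℤ) g w hw (one W) := by
    rw [← Ext.mk₀_comp_mk₀, mk₀_az]
    have h2 := map_sec (SiteZU.lift.{u + 1} (one W)) g w hw (SiteZU.univ.{u + 1} W)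
    have h3 := SiteZU.ev_lift.{u + 1} (one W)
    rw [SiteZU.ev_apply] at h3
    rw [h3] at h2
    exact h2
  have h4 : w ≫ (toTop W).left = g := by
    have h5 : (toTop W).left ≫ 𝟙 Y = W.hom := Over.w (toTop W).hom
    have h6 : (toTop W).left = W.hom := (Category.comp_id _).symm.trans h5
    exact (congrArg (fun a => w ≫ a) h6).trans hw
  apply (Ext.addEquiv₀ (X := EtCoh.const Z ℤ) (Y := EtCoh.const Z ℤ)).symm.injective
  change Ext.mk₀ _ = Ext.mk₀ _
  apply (H0 Z _).injective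
  rw [H0_id, ← Ext.mk₀_comp_mk₀, h1]
  have h6 := sec_res (EtCoh.const Y ℤ) g w hw (toTop W) g (Category.comp_id _) h4 (cst Y ℤ ⟨1⟩)
  have h7 : sec (EtCoh.const Y ℤ) g w hw (one W) =
    sec (EtCoh.const Y ℤ) g (W := EtCoh.top Y) g (Category.comp_id _) (cst Y ℤ ⟨1⟩) := h6
  rw [h7]
  refine (H0_map (EtCore.pullConst g ℤ).hom _).trans ?_
  rw [H0_sec]
  have hc := sq_cond g (W := EtCoh.top Y) g (Category.comp_id _)
  have h8 : SecPull.sq g (EtCoh.const Y ℤ) (V := EtCoh.top Y) (W := EtCoh.top Z) g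
      hc (cst Y ℤ ⟨1⟩) =
      ((EtCoh.pull g).obj (EtCoh.const Y ℤ)).obj.map
        (SecPull.liftBC g (V := EtCoh.top Y) (W := EtCoh.top Z) g hc).op
        (eta g _ _ (cst Y ℤ ⟨1⟩)) := rfl
  rw [h8, map_res, pullConst_unit, ← res_comp]
  have h9 : SecPull.liftBC g (V := EtCoh.top Y) (W := EtCoh.top Z) g hc ≫ toTop _ = 𝟙 _ :=
    toTop_ext _ _
  rw [h9, res_id]

theorem cls_J (q : X ⟶ Y) {W : Y.Etale} (r : Z ⟶ X) (w : Z ⟶ W.left) (g : Z ⟶ Y) (hg : r ≫ q = g)
    (hw : w ≫ W.hom = g) (t : ℕ) (z : HH X (EtCoh.const X M) t) :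
    cls M q r w g hg hw (one W) t (J M q t z) = HC M r t z := by
  have h1 : (az g w hw ≫ (EtCoh.pull g).map (SiteZU.lift.{u + 1} (one W))) ≫
      (EtCore.pullConst g ℤ).hom = 𝟙 _ := az_one w g hw
  rw [cls_apply, tau_tmap, tau_J, ez_apply, tmap_apply, J_apply, Ext.mk₀_comp_mk₀_assoc,
    Ext.mk₀_comp_mk₀_assoc]
  rw [h1, Ext.mk₀_id_comp]

/-- A class on `X` which is zero locally on `Y` is killed by an epimorphism. -/
theorem exists_epi_const (q : X ⟶ Y) (t : ℕ) (z : HH X (EtCoh.const X M) t)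
    (H : ∀ y : Y, ∃ (V : Y.Etale) (v : V.left), V.hom v = y ∧ HC M (pullback.fst q V.hom) t z = 0) :
    ∃ (P : EtCoh.Ab Y) (e : P ⟶ EtCoh.const Y ℤ), Epi e ∧ tmap M q e t (J M q t z) = 0 := by
  let I : Type (u + 1) := { V : Y.Etale //
    tmap M q (SiteZU.lift.{u + 1} (one V)) t (J M q t z) = 0 }
  let e : (∐ fun i : I => (Zf Y).obj i.1) ⟶ EtCoh.const Y ℤ :=
    Sigma.desc (fun i => SiteZU.lift.{u + 1} (one i.1))
  refine ⟨_, e, ?_, ?_⟩
  · rw [Preadditive.epi_iff_cancel_zero]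
    intro Q g hg
    have h1 : ∀ i : I, g.hom.app (op i.1) (one i.1) = 0 := by
      intro i
      have h2 : SiteZU.lift.{u + 1} (one i.1) ≫ g = 0 := by
        have h3 := Sigma.ι (fun i : I => (Zf Y).obj i.1) i ≫= hg
        rw [comp_zero, ← Category.assoc, Sigma.ι_desc] at h3
        exact h3
      have h4 := congrArg (fun a => SiteZU.ev.{u + 1} a) h2
      simp only [map_zero] at h4
      rw [SiteZU.ev_comp, SiteZU.ev_lift] at h4
      exact h4
    have h5 : g.hom.app (op (EtCoh.top Y)) (cst Y ℤ ⟨1⟩) = 0 := by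
      refine Groth.Agent.EtpbcA.Germ.sect_ext Q _ _ fun v => ?_
      obtain ⟨V, v', hv, h6⟩ := H v
      have h7 : tmap M q (SiteZU.lift.{u + 1} (one V)) t (J M q t z) = 0 := by
        refine cls_eq_zero M q (pullback.fst q V.hom) (pullback.snd q V.hom)
          (pullback.fst q V.hom ≫ q) rfl pullback.condition.symm
          (IsPullback.of_hasPullback q V.hom).flip (one V) t _ ?_
        rw [cls_J]
        exact h6
      have h8 := h1 ⟨V, h7⟩
      refine ⟨V, toTop V, ⟨v', ?_⟩, ?_⟩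
      · have h9 : (toTop V).left = V.hom := by
          have h5 := Over.w (toTop V).hom
          exact (Category.comp_id _).symm.trans h5
        rw [h9]
        exact hv
      · rw [← map_res]
        exact h8.trans (map_zero _).symm
    apply const_hom_ext
    intro m
    have h10 : m = m.down • (⟨1⟩ : ULift.{u + 1} ℤ) := by
      apply ULift.ext
      rw [ULift.smul_down]
      simp
    have h11 : cst Y ℤ m = m.down • cst Y ℤ ⟨1⟩ := by
      conv_lhs => rw [h10]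
      exact map_zsmul ((EtCore.constAdj Y).unit.app (AddCommGrpCat.of (ULift.{u + 1} ℤ))).hom _ _
    rw [h11, map_zsmul, map_zsmul, h5]
    simp
  · have hp : PreservesColimitsOfSize.{u + 1, u + 1} (EtCoh.pull q) :=
      (EtCoh.pullPushAdj q).leftAdjoint_preservesColimits
    have hp2 : PreservesColimitsOfShape (Discrete I) (EtCoh.pull q) := inferInstance
    refine ExtCop.eq_zero_of_cofan _ (isColimitCofanMkObjOfIsColimit (EtCoh.pull q) _ _
      (coproductIsCoproduct (fun i : I => (Zf Y).obj i.1))) t _ _ fun i => ?_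
    have h1 : tmap M q (Sigma.ι (fun i : I => (Zf Y).obj i.1) i) t
        (tmap M q e t (J M q t z)) = 0 := by
      rw [← tmap_comp, Sigma.ι_desc]
      exact i.2
    exact h1

end K833.TConst
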