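import Groth.Agent.EtAdic.K833.TSys
import Groth.Agent.Lefpen.H510.ZClass
import Groth.Agent.Etcore.LimBC1L

/-!
# Evaluation of classes in `Ext^t(q⁻¹ A, M_X)` at sections of `A`
-/

set_option autoImplicit false
universe u
open CategoryTheory CategoryTheory.Limits AlgebraicGeometry Opposite Abelian
open scoped Groth.Agent.Etcore.EtInst
open Groth.Agent.Etcore.EtInst

namespace K833.TEv

open Groth.Agent.Etcore.HpullCalc Groth.Agent.Etcore.PullCoh Groth.Agent.Etcore.HQ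
  Groth.Agent.Etcore.HC Groth.Agent.Etcore Groth.Agent.CurvesA Groth.Agent.Lefpen.H510.ZClass TSys
open Groth.Agent.EtpbcA.CdDiesEt (Zf zPullInv zPullHom zPull_inv_hom zPull_hom_inv)
open Groth.Agent.EtpbcB.Big (bcFst bc_condition hom_ext_bc)

attribute [local instance] pfl

variable {X Y : Scheme.{u}} (M : Type) [AddCommGroup M]

/-- Evaluation at the universal section. -/
noncomputable def ez {Z : Scheme.{u}} (g : Z ⟶ Y) {W : Y.Etale} (w : Z ⟶ W.left)
    (hw : w ≫ W.hom = g) (t : ℕ) : TT M g ((Zf Y).obj W) t →+ HH Z (EtCoh.const Z M) t :=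
  AddMonoidHom.mk' (fun x => (Ext.mk₀ (az g w hw)).comp x (zero_add t))
    (fun _ _ => Ext.comp_add _ _ _ _)

theorem ez_apply {Z : Scheme.{u}} (g : Z ⟶ Y) {W : Y.Etale} (w : Z ⟶ W.left)
    (hw : w ≫ W.hom = g) (t : ℕ) (x : TT M g ((Zf Y).obj W) t) :
    ez M g w hw t x = (Ext.mk₀ (az g w hw)).comp x (zero_add t) := rfl

theorem HC_ez {Z Z' : Scheme.{u}} {g : Z ⟶ Y} {g' : Z' ⟶ Y} {W : Y.Etale} (k : Z' ⟶ Z)
    (h : k ≫ g = g') (w : Z ⟶ W.left) (hw : w ≫ W.hom = g) (w' : Z' ⟶ W.left)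
    (hw' : w' ≫ W.hom = g') (e : k ≫ w = w') (t : ℕ) (x : TT M g ((Zf Y).obj W) t) :
    HC M k t (ez M g w hw t x) = ez M g' w' hw' t (tau M k h _ t x) := by
  have h1 : az g' w' hw' ≫ inv (th k g g' h ((Zf Y).obj W)) =
      (EtCore.pullConst k ℤ).inv ≫ (EtCoh.pull k).map (az g w hw) := by
    rw [IsIso.comp_inv_eq]
    exact (az_comp k h w hw w' hw' e).symm
  rw [HC_apply, HHmap_apply, hp_eq_extMap, ez_apply, ez_apply, tau_apply,
    ExtMap.extMap_mk₀_comp (EtCoh.pull k) _ _ _ _ h1, Ext.comp_assoc_of_third_deg_zero]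

theorem ez_tmap {Z : Scheme.{u}} (g : Z ⟶ Y) {W W' : Y.Etale} (c : W' ⟶ W) (w' : Z ⟶ W'.left)
    (hw' : w' ≫ W'.hom = g) (w : Z ⟶ W.left) (hw : w ≫ W.hom = g) (e : w' ≫ c.left = w) (t : ℕ)
    (x : TT M g ((Zf Y).obj W) t) :
    ez M g w' hw' t (tmap M g ((Zf Y).map c) t x) = ez M g w hw t x := by
  rw [ez_apply, ez_apply, tmap_apply, ← Ext.comp_assoc_of_second_deg_zero, Ext.mk₀_comp_mk₀,
    az_map g c w' hw' w hw e]

/-- Classes in `Ext^n(Z_W, F)` are determined by their restriction to `W`. -/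
theorem zc_injective (W : X.Etale) (n : ℕ) : ∀ (F : EtCoh.Ab X),
    Function.Injective (zc F W.hom (𝟙 W.left) (Category.id_comp _) n) := by
  induction n with
  | zero =>
    intro F
    rw [injective_iff_map_eq_zero]
    intro y hy
    obtain ⟨f, rfl⟩ := Ext.addEquiv₀.symm.surjective y
    have hf : (Ext.addEquiv₀.symm f : Ext.{u + 1} ((Zf X).obj W) F 0) = Ext.mk₀ f := rfl
    rw [hf] at hy ⊢
    rw [zc, ExtMap.extMap_mk₀, ← Ext.mk₀_comp_mk₀, mk₀_az] at hy
    have h := map_sec f W.hom (𝟙 W.left) (Category.id_comp _) (SiteZU.univ.{u + 1} W)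
    have h2 : sec F W.hom (𝟙 W.left) (Category.id_comp _)
        (f.hom.app (op W) (SiteZU.univ.{u + 1} W)) = 0 := h.symm.trans hy
    have h3 : f.hom.app (op W) (SiteZU.univ.{u + 1} W) = 0 :=
      (sec_bijective F W).1 (h2.trans (sec_zero F W.hom (𝟙 W.left) (Category.id_comp _)).symm)
    have h4 : f = 0 := SiteZU.ev_injective.{u + 1} (h3.trans (map_zero _).symm)
    rw [h4, Ext.mk₀_zero]
  | succ n ih =>
    intro F
    rw [injective_iff_map_eq_zero]
    intro y hy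
    have hS := RpushLoc.injSeq_shortExact F
    have hI : Injective (RpushLoc.injSeq F).X₂ := inferInstanceAs (Injective (Injective.under F))
    obtain ⟨z, rfl⟩ := Ext.covariant_sequence_exact₁ ((Zf X).obj W) hS y
      (Ext.eq_zero_of_injective _) rfl
    have h1 : δ hS W.hom n (zc _ W.hom (𝟙 W.left) (Category.id_comp _) n z) = 0 :=
      (ExtMap.extMap_extClass (EtCoh.pull W.hom) (az W.hom (𝟙 W.left) (Category.id_comp _)) hS rfl
        z).symm.trans hy
    obtain ⟨v, hv⟩ := exists_map_eq hS W.hom n _ h1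
    obtain ⟨v', rfl⟩ := zc_surjective W n _ v
    have h2 : zc _ W.hom (𝟙 W.left) (Category.id_comp _) n
        (v'.comp (Ext.mk₀ (RpushLoc.injSeq F).g) (add_zero n)) =
        map (RpushLoc.injSeq F).g W.hom n (zc _ W.hom (𝟙 W.left) (Category.id_comp _) n v') :=
      ExtMap.extMap_comp_mk₀ (EtCoh.pull W.hom) (az W.hom (𝟙 W.left) (Category.id_comp _))
        (RpushLoc.injSeq F).g n v'
    have h3 := ih _ (h2.trans hv)
    rw [← h3]
    exact (ExtMap.exact_gδ hS ((Zf X).obj W) rfl _).2 ⟨v', rfl⟩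

/-- Pulling back sections in two steps. -/
theorem th_sec_eta (q : X ⟶ Y) (G : EtCoh.Ab Y) (W : Y.Etale) (s : EtCoh.sect G W) {Z : Scheme.{u}}
    (r : Z ⟶ X) (l : Z ⟶ ((EtCoh.bc q).obj W).left) (hl : l ≫ ((EtCoh.bc q).obj W).hom = r)
    (g : Z ⟶ Y) (hg : r ≫ q = g) (w : Z ⟶ W.left) (hw : w ≫ W.hom = g) (e : l ≫ bcFst q W = w) :
    HHmap (th r q g hg G) 0 (sec ((EtCoh.pull q).obj G) r l hl (eta q G W s)) = sec G g w hw s := by
  subst hg e
  apply (H0 Z ((EtCoh.pull (r ≫ q)).obj G)).injective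
  rw [H0_map, H0_sec, H0_sec]
  have h1 := SecPull.sq_comp r q G (V := W) (W := (EtCoh.bc q).obj W) (W' := EtCoh.top Z) (bcFst q W)
    (bc_condition q W) l (sq_cond r l hl) (sq_cond (r ≫ q) (l ≫ bcFst q W) hw)
  have h2 := ConcreteCategory.congr_hom h1 s
  have h3 : eta q G W s = SecPull.sq q G (bcFst q W) (bc_condition q W) s := by
    have h4 : SecPull.liftBC q (V := W) (W := (EtCoh.bc q).obj W) (bcFst q W) (bc_condition q W) =
        𝟙 _ := by
      apply SecPull.ext_toFst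
      rw [SecPull.toFst_liftBC]
      exact (Category.id_comp _).symm
    rw [SecPull.sq, h4, SecPull.secPull_id]
    rfl
  rw [h3]
  have h5 := congrArg (fun y => (th r q (r ≫ q) rfl G).hom.app (op (EtCoh.top Z)) y) h2
  refine Eq.trans h5 ?_
  exact th_pullComp q r G _ _

end K833.TEv
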