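import Groth.Agent.EtAdic.K833.Tower
import Groth.Agent.Etcore.HQ
import Groth.Agent.Etcore.HC
import Groth.Agent.Etcore.HpVia

/-!
# The cohomological functors `A ↦ Ext^t(q⁻¹ A, M_X)` for `q : X ⟶ Y`
-/

set_option autoImplicit false
universe u
open CategoryTheory CategoryTheory.Limits AlgebraicGeometry Opposite Abelian
open scoped Groth.Agent.Etcore.EtInst
open Groth.Agent.Etcore.EtInst

namespace K833.TSys

open Groth.Agent.Etcore.HpullCalc Groth.Agent.Etcore.PullCoh Groth.Agent.Etcore.HQ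
  Groth.Agent.Etcore.HC Groth.Agent.Etcore

attribute [local instance] pfl

section Abstract

universe w v' u'

variable {C : Type u'} [Category.{v'} C] [Abelian C] [HasExt.{w} C]

theorem comp_zero_aux {A₁ A₂ A₃ B : C} {e : Ext.{w} A₃ A₁ 1} {f : A₁ ⟶ A₂}
    (h : e.comp (Ext.mk₀ f) (add_zero 1) = 0) {t m : ℕ} (hm : 1 + t = m) (y : Ext.{w} A₂ B t) :
    e.comp ((Ext.mk₀ f).comp y (zero_add t)) hm = 0 := by
  rw [← Ext.comp_assoc_of_second_deg_zero, h, Ext.zero_comp]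

universe w₂ v₂ u₂

variable {D : Type u₂} [Category.{v₂} D] [Abelian D] [HasExt.{w₂} D] (F : C ⥤ D) [F.Additive]
  [PreservesFiniteLimits F] [PreservesFiniteColimits F]

theorem extMap_aux {B₃ B₁ N : C} {D₃ D₁ N' : D} {e : Ext.{w} B₃ B₁ 1} {e' : Ext.{w₂} D₃ D₁ 1}
    {a₃ : D₃ ⟶ F.obj B₃} {a₁ : D₁ ⟶ F.obj B₁}
    (h : (Ext.mk₀ a₃).comp (e.mapExactFunctor F) (zero_add 1) = e'.comp (Ext.mk₀ a₁) (add_zero 1))
    {t m : ℕ} (hm : 1 + t = m) (x : Ext.{w} B₁ N t) (c : F.obj N ⟶ N') :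
    (ExtMap.extMap F a₃ N m (e.comp x hm)).comp (Ext.mk₀ c) (add_zero m) =
      e'.comp ((ExtMap.extMap F a₁ N t x).comp (Ext.mk₀ c) (add_zero t)) hm := by
  rw [ExtMap.extMap_apply, ExtMap.extMap_apply, Ext.mapExactFunctor_comp,
    ← Ext.comp_assoc (Ext.mk₀ a₃) (e.mapExactFunctor F) (x.mapExactFunctor F) (zero_add 1) hm
      (by omega), h, Ext.comp_assoc_of_third_deg_zero, Ext.comp_assoc_of_third_deg_zero,
    Ext.comp_assoc_of_second_deg_zero]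

theorem inv_aux {B₃ B₁ D₃ D₁ : C} {e : Ext.{w} B₃ B₁ 1} {e' : Ext.{w} D₃ D₁ 1} (t₁ : B₁ ≅ D₁)
    (t₃ : B₃ ≅ D₃) (h : e.comp (Ext.mk₀ t₁.hom) (add_zero 1) = (Ext.mk₀ t₃.hom).comp e' (zero_add 1)) :
    (Ext.mk₀ t₃.inv).comp e (zero_add 1) = e'.comp (Ext.mk₀ t₁.inv) (add_zero 1) := by
  have h2 : e = ((Ext.mk₀ t₃.hom).comp e' (zero_add 1)).comp (Ext.mk₀ t₁.inv) (add_zero 1) := by
    rw [← h, Ext.comp_assoc_of_third_deg_zero, Ext.mk₀_comp_mk₀, Iso.hom_inv_id, Ext.comp_mk₀_id]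
  rw [h2, Ext.comp_assoc_of_third_deg_zero, ← Ext.comp_assoc_of_second_deg_zero, Ext.mk₀_comp_mk₀,
    Iso.inv_hom_id, Ext.mk₀_id_comp]

end Abstract

variable {Y : Scheme.{u}} (M : Type) [AddCommGroup M]

/-- `Ext^t(q⁻¹ A, M_X)` -/
noncomputable abbrev TT {X : Scheme.{u}} (q : X ⟶ Y) (A : EtCoh.Ab Y) (t : ℕ) : Type (u + 1) :=
  Ext.{u + 1} ((EtCoh.pull q).obj A) (EtCoh.const X M) t

/-- functoriality in the sheaf -/
noncomputable def tmap {X : Scheme.{u}} (q : X ⟶ Y) {A B : EtCoh.Ab Y} (f : A ⟶ B) (t : ℕ) :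
    TT M q B t →+ TT M q A t :=
  AddMonoidHom.mk' (fun x => (Ext.mk₀ ((EtCoh.pull q).map f)).comp x (zero_add t))
    (fun _ _ => Ext.comp_add _ _ _ _)

theorem tmap_apply {X : Scheme.{u}} (q : X ⟶ Y) {A B : EtCoh.Ab Y} (f : A ⟶ B) (t : ℕ)
    (x : TT M q B t) :
    tmap M q f t x = (Ext.mk₀ ((EtCoh.pull q).map f)).comp x (zero_add t) := rfl

theorem tmap_comp {X : Scheme.{u}} (q : X ⟶ Y) {A B C : EtCoh.Ab Y} (f : A ⟶ B) (g : B ⟶ C)
    (t : ℕ) (x : TT M q C t) : tmap M q (f ≫ g) t x = tmap M q f t (tmap M q g t x) := by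
  rw [tmap_apply, tmap_apply, tmap_apply, Functor.map_comp, ← Ext.mk₀_comp_mk₀,
    Ext.comp_assoc_of_second_deg_zero]

/-- the connecting map -/
noncomputable def tδ {X : Scheme.{u}} (q : X ⟶ Y) {S : ShortComplex (EtCoh.Ab Y)}
    (hS : S.ShortExact) (t : ℕ) : TT M q S.X₁ t →+ TT M q S.X₃ (t + 1) :=
  AddMonoidHom.mk' (fun x => (hS.map_of_exact (EtCoh.pull q)).extClass.comp x (add_comm 1 t))
    (fun _ _ => Ext.comp_add _ _ _ _)

theorem tδ_apply {X : Scheme.{u}} (q : X ⟶ Y) {S : ShortComplex (EtCoh.Ab Y)}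
    (hS : S.ShortExact) (t : ℕ) (x : TT M q S.X₁ t) :
    tδ M q hS t x = (hS.map_of_exact (EtCoh.pull q)).extClass.comp x (add_comm 1 t) := rfl

theorem exact₃ {X : Scheme.{u}} (q : X ⟶ Y) {S : ShortComplex (EtCoh.Ab Y)}
    (hS : S.ShortExact) (t : ℕ) (x : TT M q S.X₃ (t + 1)) (h : tmap M q S.g (t + 1) x = 0) :
    ∃ y, tδ M q hS t y = x :=
  Ext.contravariant_sequence_exact₃ (hS.map_of_exact (EtCoh.pull q)) (EtCoh.const X M) x h
    (add_comm 1 t)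

theorem exact₁ {X : Scheme.{u}} (q : X ⟶ Y) {S : ShortComplex (EtCoh.Ab Y)}
    (hS : S.ShortExact) (t : ℕ) (x : TT M q S.X₁ t) (h : tδ M q hS t x = 0) :
    ∃ y, tmap M q S.f t y = x :=
  Ext.contravariant_sequence_exact₁ (hS.map_of_exact (EtCoh.pull q)) (EtCoh.const X M) x
    (add_comm 1 t) h

theorem tδ_tmap {X : Scheme.{u}} (q : X ⟶ Y) {S : ShortComplex (EtCoh.Ab Y)}
    (hS : S.ShortExact) (t : ℕ) (y : TT M q S.X₂ t) : tδ M q hS t (tmap M q S.f t y) = 0 :=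
  comp_zero_aux (hS.map_of_exact (EtCoh.pull q)).extClass_comp (add_comm 1 t) y

/-- Pullback along `k : X' ⟶ X`. -/
noncomputable def tau {X X' : Scheme.{u}} {q : X ⟶ Y} {q' : X' ⟶ Y} (k : X' ⟶ X) (h : k ≫ q = q')
    (A : EtCoh.Ab Y) (t : ℕ) : TT M q A t →+ TT M q' A t :=
  (AddMonoidHom.mk' (fun x : Ext.{u + 1} ((EtCoh.pull q').obj A)
      ((EtCoh.pull k).obj (EtCoh.const X M)) t =>
      x.comp (Ext.mk₀ (EtCore.pullConst k M).hom) (add_zero t)) (fun _ _ => Ext.add_comp _ _ _ _)).comp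
    (ExtMap.extMap (EtCoh.pull k) (inv (th k q q' h A)) (EtCoh.const X M) t)

theorem tau_apply {X X' : Scheme.{u}} {q : X ⟶ Y} {q' : X' ⟶ Y} (k : X' ⟶ X) (h : k ≫ q = q')
    (A : EtCoh.Ab Y) (t : ℕ) (x : TT M q A t) :
    tau M k h A t x = (ExtMap.extMap (EtCoh.pull k) (inv (th k q q' h A)) (EtCoh.const X M) t x).comp
      (Ext.mk₀ (EtCore.pullConst k M).hom) (add_zero t) := rfl

theorem inv_th_nat {X X' : Scheme.{u}} {q : X ⟶ Y} {q' : X' ⟶ Y} (k : X' ⟶ X) (h : k ≫ q = q')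
    {A B : EtCoh.Ab Y} (f : A ⟶ B) :
    (EtCoh.pull q').map f ≫ inv (th k q q' h B) =
      inv (th k q q' h A) ≫ (EtCoh.pull k).map ((EtCoh.pull q).map f) := by
  rw [IsIso.comp_inv_eq, Category.assoc, IsIso.eq_inv_comp, th_nat]

theorem tau_tmap {X X' : Scheme.{u}} {q : X ⟶ Y} {q' : X' ⟶ Y} (k : X' ⟶ X) (h : k ≫ q = q')
    {A B : EtCoh.Ab Y} (f : A ⟶ B) (t : ℕ) (x : TT M q B t) :
    tau M k h A t (tmap M q f t x) = tmap M q' f t (tau M k h B t x) := by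
  rw [tau_apply, tau_apply, tmap_apply, tmap_apply,
    ExtMap.extMap_mk₀_comp (EtCoh.pull k) (inv (th k q q' h B)) (inv (th k q q' h A))
      ((EtCoh.pull q).map f) ((EtCoh.pull q').map f) (inv_th_nat k h f),
    Ext.comp_assoc_of_third_deg_zero]

theorem tau_tδ {X X' : Scheme.{u}} {q : X ⟶ Y} {q' : X' ⟶ Y} (k : X' ⟶ X) (h : k ≫ q = q')
    {S : ShortComplex (EtCoh.Ab Y)} (hS : S.ShortExact) (t : ℕ) (x : TT M q S.X₁ t) :
    tau M k h S.X₃ (t + 1) (tδ M q hS t x) = tδ M q' hS t (tau M k h S.X₁ t x) := by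
  refine extMap_aux (EtCoh.pull k) ?_ (add_comm 1 t) x _
  have h1 := inv_aux (asIso (th k q q' h S.X₁)) (asIso (th k q q' h S.X₃)) (extClass_th hS k h)
  have h2 := Ext.mapExactFunctor_extClass (EtCoh.pull k) (hS.map_of_exact (EtCoh.pull q))
  exact (congrArg (fun e => (Ext.mk₀ (inv (th k q q' h S.X₃))).comp e (zero_add 1)) h2).trans h1

theorem inv_th_assoc {X X' X'' : Scheme.{u}} {q : X ⟶ Y} {q' : X' ⟶ Y} {q'' : X'' ⟶ Y}
    (k : X' ⟶ X) (h : k ≫ q = q') (k' : X'' ⟶ X') (h' : k' ≫ q' = q'') (k'' : X'' ⟶ X)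
    (e : k' ≫ k = k'') (h'' : k'' ≫ q = q'') (A : EtCoh.Ab Y) :
    (inv (th k' q' q'' h' A) ≫ (EtCoh.pull k').map (inv (th k q q' h A))) ≫
      th k' k k'' e ((EtCoh.pull q).obj A) = inv (th k'' q q'' h'' A) := by
  rw [← cancel_mono (th k'' q q'' h'' A), IsIso.inv_hom_id, Category.assoc,
    ← th_assoc k' k q k'' q' q'' e h h' h'' A, Category.assoc, ← Functor.map_comp_assoc,
    IsIso.inv_hom_id, CategoryTheory.Functor.map_id, Category.id_comp, IsIso.inv_hom_id]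

theorem tau_tau {X X' X'' : Scheme.{u}} {q : X ⟶ Y} {q' : X' ⟶ Y} {q'' : X'' ⟶ Y}
    (k : X' ⟶ X) (h : k ≫ q = q') (k' : X'' ⟶ X') (h' : k' ≫ q' = q'') (k'' : X'' ⟶ X)
    (e : k' ≫ k = k'') (h'' : k'' ≫ q = q'') (A : EtCoh.Ab Y) (t : ℕ) (x : TT M q A t) :
    tau M k' h' A t (tau M k h A t x) = tau M k'' h'' A t x := by
  have i1 : PreservesFiniteLimits (EtCoh.pull k ⋙ EtCoh.pull k') := inferInstance
  rw [tau_apply, tau_apply, tau_apply, ExtMap.extMap_comp_mk₀, ExtMap.extMap_extMap,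
    Ext.comp_assoc_of_third_deg_zero, Ext.mk₀_comp_mk₀, pullConst_comp k' k k'' e M,
    ← Ext.mk₀_comp_mk₀, ← Ext.comp_assoc_of_third_deg_zero]
  congr 1
  have h3 := ExtMap.extMap_natTrans (F := EtCoh.pull k ⋙ EtCoh.pull k') (F' := EtCoh.pull k'')
    (theta k' k k'' e).hom
    (inv (th k' q' q'' h' A) ≫ (EtCoh.pull k').map (inv (th k q q' h A))) (EtCoh.const X M) t x
  refine h3.trans ?_
  exact congrArg (fun a => ExtMap.extMap (EtCoh.pull k'') a (EtCoh.const X M) t x)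
    (inv_th_assoc k h k' h' k'' e h'' A)

end K833.TSys
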