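import Groth.Agent.EtAdic.K833.TorCmp
import Groth.Agent.EtAdic.K522.Geo
import Groth.Agent.EtAdic.K98.GmPow2

/-!
# The number of elements of `H^r(G, ℤ/ℓ^ν)` for a commutative group variety `G`
-/

set_option autoImplicit false
universe u
open CategoryTheory Limits MonoidalCategory CartesianMonoidalCategory MonObj GrpObj AlgebraicGeometry
open scoped Groth.Agent.Etcore.EtInst
open Groth.Agent.Etcore.EtInst

namespace K833.TorCard

open Groth.Agent.Etcore.HC Trn TorCmp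

variable {k : Type u} [Field k] [IsAlgClosed k] {l : ℕ} [Fact l.Prime] (hl : (l : k) ≠ 0)

/-- `[l^n]` kills the positive degree cohomology, for large `n` -/
def Kills (l ν : ℕ) (G : Over (Spec (CommRingCat.of k))) [GrpObj G] : Prop :=
  ∀ t, 1 ≤ t → ∃ N, HC (ZMod (l ^ ν)) ((𝟙 G) ^ (l ^ N) : G ⟶ G).left t = 0

omit [IsAlgClosed k] [Fact l.Prime] in
theorem Kills.eventually {ν : ℕ} {G : Over (Spec (CommRingCat.of k))} [GrpObj G] (h : Kills l ν G) (t : ℕ) (ht : 1 ≤ t) :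
    ∃ N, ∀ n, N ≤ n → HC (ZMod (l ^ ν)) ((𝟙 G) ^ (l ^ n) : G ⟶ G).left t = 0 := by
  obtain ⟨N, hN⟩ := h t ht
  refine ⟨N, fun n hn => ?_⟩
  have h1 : ((𝟙 G) ^ (l ^ (n - N)) : G ⟶ G) ≫ ((𝟙 G) ^ (l ^ N) : G ⟶ G) = (𝟙 G) ^ (l ^ n) := by
    rw [pw_pw, ← pow_add, Nat.sub_add_cancel hn]
  rw [← h1, Over.comp_left]
  ext x
  rw [HC_comp, hN]
  exact map_zero _

include hl in
theorem finite_HH (ν : ℕ) (G : Over (Spec (CommRingCat.of k))) [LocallyOfFiniteType G.hom] [QuasiCompact G.hom] (r : ℕ) :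
    Finite (HH G.left (EtCoh.const G.left (ZMod (l ^ ν))) r) := by
  have hl0 : l ^ ν ≠ 0 := pow_ne_zero _ (Fact.out : l.Prime).ne_zero
  have : NeZero (l ^ ν) := ⟨hl0⟩
  have hm : ((l ^ ν : ℕ) : k) ≠ 0 := by
    rw [Nat.cast_pow]
    exact pow_ne_zero _ hl
  have hM : ∀ x : ZMod (l ^ ν), (l ^ ν) • x = 0 := fun x => by
    rw [nsmul_eq_mul, ZMod.natCast_self, zero_mul]
  exact FieldRpush.finite_H hm G.hom _
    (Groth.Agent.Etrest.ConstBasic.isConstructible_const G.left (ZMod (l ^ ν)))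
    (Groth.Agent.Etrest.ConstBasic.killedBy_const _ (ZMod (l ^ ν)) (l ^ ν) hM) r

section Two

variable {G G' : Over (Spec (CommRingCat.of k))} [GrpObj G] [IsCommMonObj G] [Smooth G.hom] [QuasiCompact G.hom]
  [ConnectedSpace G.left] [GrpObj G'] [IsCommMonObj G'] [Smooth G'.hom] [QuasiCompact G'.hom]
  [ConnectedSpace G'.left] (E : ℕ → Over (Spec (CommRingCat.of k))) (tr : ∀ m, E (m + 1) ⟶ E m) (p : ∀ m, E m ⟶ G)
  (p' : ∀ m, E m ⟶ G')
  (s : ∀ m, G ⊗ G' ⟶ E m) (h1 : ∀ m, tr m ≫ p m = p (m + 1)) (h2 : ∀ m, tr m ≫ p' m = p' (m + 1))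
  (h3 : ∀ m, IsPullback (s m) (fst G G') (p m) ((𝟙 G) ^ (l ^ m)))
  (h4 : ∀ m, IsPullback (s m) (snd G G') (p' m) ((𝟙 G') ^ (l ^ m)))
  (h5 : ∀ m, s (m + 1) ≫ tr m = (((𝟙 G) ^ l) ⊗ₘ ((𝟙 G') ^ l)) ≫ s m)
  (hc : ∀ m, Etale ((𝟙 G) ^ (l ^ m)).left ∧ Surjective ((𝟙 G) ^ (l ^ m)).left)
  (hc' : ∀ m, Etale ((𝟙 G') ^ (l ^ m)).left ∧ Surjective ((𝟙 G') ^ (l ^ m)).left)

include hl h1 h2 h3 h4 h5 hc hc' in
theorem card_eq (ν : ℕ) (hK : Kills l ν G) (hK' : Kills l ν G') (r : ℕ) :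
    Nat.card (HH G.left (EtCoh.const G.left (ZMod (l ^ ν))) r) =
      Nat.card (HH G'.left (EtCoh.const G'.left (ZMod (l ^ ν))) r) := by
  obtain ⟨i1, s1⟩ := side hl E tr p s h1 h3 h5 hc ν hK'.eventually r
  have h4' : ∀ m, IsPullback ((β_ G' G).hom ≫ s m) (fst G' G) (p' m) ((𝟙 G') ^ (l ^ m)) := by
    intro m
    have e := (IsPullback.of_horiz_isIso (⟨by simp⟩ : CommSq (β_ G' G).hom (fst G' G) (snd G G')
      (𝟙 G'))).paste_horiz (h4 m)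
    rwa [Category.id_comp] at e
  have h5' : ∀ m, ((β_ G' G).hom ≫ s (m + 1)) ≫ tr m =
      (((𝟙 G') ^ l) ⊗ₘ ((𝟙 G) ^ l)) ≫ (β_ G' G).hom ≫ s m := by
    intro m
    rw [Category.assoc, h5, BraidedCategory.braiding_naturality_assoc]
  obtain ⟨i2, s2⟩ := side hl E tr p' (fun m => (β_ G' G).hom ≫ s m) h2 h4' h5' hc' ν hK.eventually r
  have f1 := finite_HH hl ν G r
  have f2 := finite_HH hl ν G' r
  have hq : ∀ {i j : ℕ} (h : i ≤ j), (trn tr h).left ≫ (p i).left = (p j).left :=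
    fun h => left_comp (trn_proj tr p h1 h)
  have hq' : ∀ {i j : ℕ} (h : i ≤ j), (trn tr h).left ≫ (p' i).left = (p' j).left :=
    fun h => left_comp (trn_proj tr p' h2 h)
  obtain ⟨f, hf⟩ := exists_injective (ZMod (l ^ ν)) (fun i => (E i).left) (fun i => (p i).left)
    (fun i => (p' i).left) (fun h => (trn tr h).left) hq hq' r i1 s2
  obtain ⟨g, hg⟩ := exists_injective (ZMod (l ^ ν)) (fun i => (E i).left) (fun i => (p' i).left)
    (fun i => (p i).left) (fun h => (trn tr h).left) hq' hq r i2 s1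
  exact le_antisymm (Nat.card_le_card_of_injective f hf) (Nat.card_le_card_of_injective g hg)

end Two

include hl in
/-- The number of elements of `H^r(G, ℤ/ℓ^ν)`. -/
theorem main (G : Over (Spec (CommRingCat.of k))) [GrpObj G] [IsCommMonObj G] [Smooth G.hom] [QuasiCompact G.hom]
    [ConnectedSpace G.left] (hK : ∀ ν, Kills l ν G) (hK' : ∀ ν b, Kills l ν (K522.Geo.Tor k b)) :
    ∃ b : ℕ, Nat.card {x : 𝟙_ (Over (Spec (CommRingCat.of k))) ⟶ G // x ^ l = 1} = l ^ b ∧ ∀ ν r,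
      Nat.card (EtCoh.H G.left (EtCoh.const G.left (ZMod (l ^ ν))) r) = (l ^ ν) ^ Nat.choose b r := by
  obtain ⟨b, E, tr, p, p', s, h1, h2, h3, h4, h5, hc, hc', hb⟩ := K522.Geo.main k l hl G
  refine ⟨b, hb, fun ν r => ?_⟩
  have hl0 : l ^ ν ≠ 0 := pow_ne_zero _ (Fact.out : l.Prime).ne_zero
  have : NeZero (l ^ ν) := ⟨hl0⟩
  have hm : ((l ^ ν : ℕ) : k) ≠ 0 := by
    rw [Nat.cast_pow]
    exact pow_ne_zero _ hl
  have hM : ∀ x : ZMod (l ^ ν), (l ^ ν) • x = 0 := fun x => by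
    rw [nsmul_eq_mul, ZMod.natCast_self, zero_mul]
  rw [show Nat.card (EtCoh.H G.left (EtCoh.const G.left (ZMod (l ^ ν))) r) = _ from
    card_eq hl E tr p p' s h1 h2 h3 h4 h5 hc hc' ν (hK ν) (hK' ν b) r]
  have h6 := K98.GmPow2.card_DS hm (ZMod (l ^ ν)) hM b r
  rw [Nat.card_zmod] at h6
  exact h6

end K833.TorCard
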