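import Groth.Agent.EtAdic.K833.Trn
import Groth.Agent.EtAdic.K833.EffProd
import Groth.Agent.EtAdic.K833.EffUnit

/-!
# Comparison of the cohomology of two commutative groups with isomorphic torsion
-/

set_option autoImplicit false
universe u
open CategoryTheory Limits MonoidalCategory CartesianMonoidalCategory MonObj GrpObj AlgebraicGeometry
open scoped Groth.Agent.Etcore.EtInst
open Groth.Agent.Etcore.EtInst

namespace K833.TorCmp

open Groth.Agent.Etcore.HC Trn EffMain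

section Card

variable (M : Type) [AddCommGroup M] {Y Y' : Scheme.{u}} (X : ℕ → Scheme.{u}) (q : ∀ i, X i ⟶ Y)
  (q' : ∀ i, X i ⟶ Y') (tr : ∀ {i j : ℕ}, i ≤ j → (X j ⟶ X i)) (hq : ∀ {i j : ℕ} (h : i ≤ j), tr h ≫ q i = q j)
  (hq' : ∀ {i j : ℕ} (h : i ≤ j), tr h ≫ q' i = q' j) (r : ℕ)

include hq hq' in
theorem exists_injective (hi : ∀ i, Function.Injective (HC M (q i) r))
    (hs : ∀ i (z : HH (X i) (EtCoh.const (X i) M) r), ∃ (j : ℕ) (h : i ≤ j)
      (w : HH Y' (EtCoh.const Y' M) r), HC M (tr h) r z = HC M (q' j) r w)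
    [Finite (HH Y (EtCoh.const Y M) r)] :
    ∃ f : HH Y (EtCoh.const Y M) r → HH Y' (EtCoh.const Y' M) r, Function.Injective f := by
  have h1 : ∀ w : HH Y (EtCoh.const Y M) r, ∃ (j : ℕ) (w' : HH Y' (EtCoh.const Y' M) r),
      HC M (q j) r w = HC M (q' j) r w' := by
    intro w
    obtain ⟨j, h, w', hw⟩ := hs 0 (HC M (q 0) r w)
    rw [← HC_comp, hq] at hw
    exact ⟨j, w', hw⟩
  choose j f hf using h1
  have : Fintype (HH Y (EtCoh.const Y M) r) := Fintype.ofFinite _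
  let N := Finset.univ.sup j
  have h2 : ∀ w, HC M (q N) r w = HC M (q' N) r (f w) := by
    intro w
    have hN : j w ≤ N := Finset.le_sup (Finset.mem_univ w)
    have h3 := congrArg (HC M (tr hN) r) (hf w)
    rwa [← HC_comp, ← HC_comp, hq, hq'] at h3
  refine ⟨f, fun a b hab => hi N ?_⟩
  rw [h2, h2, hab]

end Card

section Side

variable {k : Type u} [Field k] [IsAlgClosed k] {l : ℕ} [Fact l.Prime] (hl : (l : k) ≠ 0)

variable {G G' : Over (Spec (CommRingCat.of k))} [GrpObj G] [IsCommMonObj G] [Smooth G.hom] [QuasiCompact G.hom]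
  [ConnectedSpace G.left] [GrpObj G'] [IsCommMonObj G'] [Smooth G'.hom] [QuasiCompact G'.hom]
  [ConnectedSpace G'.left] (E : ℕ → Over (Spec (CommRingCat.of k))) (tr : ∀ m, E (m + 1) ⟶ E m) (p : ∀ m, E m ⟶ G)
  (s : ∀ m, G ⊗ G' ⟶ E m) (h1 : ∀ m, tr m ≫ p m = p (m + 1))
  (h3 : ∀ m, IsPullback (s m) (fst G G') (p m) ((𝟙 G) ^ (l ^ m)))
  (h5 : ∀ m, s (m + 1) ≫ tr m = (((𝟙 G) ^ l) ⊗ₘ ((𝟙 G') ^ l)) ≫ s m)
  (hc : ∀ m, Etale ((𝟙 G) ^ (l ^ m)).left ∧ Surjective ((𝟙 G) ^ (l ^ m)).left)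

include h5 in
theorem sec_trn {i j : ℕ} (h : i ≤ j) : s j ≫ trn tr h =
    (((𝟙 G) ^ (l ^ (j - i))) ⊗ₘ ((𝟙 G') ^ (l ^ (j - i)))) ≫ s i := by
  refine trn_sec tr s (fun d => ((𝟙 G) ^ (l ^ d)) ⊗ₘ ((𝟙 G') ^ (l ^ d))) ?_ ?_ ?_ h
  · simp
  · intro d
    rw [tensorHom_comp_tensorHom, pw_pw (G := G), pw_pw (G := G'), ← pow_add, add_comm]
  · intro m
    rw [pow_one]
    exact h5 m

include h3 in
theorem isPullback_ij {i j : ℕ} (h : i ≤ j) :
    IsPullback ((((𝟙 G) ^ (l ^ (j - i))) ▷ G') ≫ s i).left (fst G G').left (p i).left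
      ((𝟙 G) ^ (l ^ j)).left := by
  have e1 := (isPullback_whisker ((𝟙 G) ^ (l ^ (j - i))) G').paste_horiz (h3 i)
  rw [pw_pw, ← pow_add, Nat.sub_add_cancel h] at e1
  exact isPullback_left e1

include hl h1 h3 h5 hc in
theorem locDies {ν : ℕ} {t i j : ℕ} (h : i ≤ j)
    (hK : HC (ZMod (l ^ ν)) ((𝟙 G') ^ (l ^ (j - i)) : G' ⟶ G').left t = 0) :
    LocDies (ZMod (l ^ ν)) (p i).left (p j).left (trn tr h).left
      (left_comp (trn_proj tr p h1 h)) t := by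
  have hl0 : l ^ ν ≠ 0 := pow_ne_zero _ (Fact.out : l.Prime).ne_zero
  have : NeZero (l ^ ν) := ⟨hl0⟩
  have hm : ((l ^ ν : ℕ) : k) ≠ 0 := by
    rw [Nat.cast_pow]
    exact pow_ne_zero _ hl
  have := (hc j).1
  have := (hc j).2
  have e0 : ((𝟙 G) ^ (l ^ j) : G ⟶ G).left ≫ G.hom = G.hom := Over.w _
  have hy : IsPullback (snd G G').left (fst G G').left G'.hom
      (((𝟙 G) ^ (l ^ j) : G ⟶ G).left ≫ G.hom) := by
    rw [e0]
    exact isPullback_prod G G'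
  have hM : ∀ x : ZMod (l ^ ν), (l ^ ν) • x = 0 := fun x => by
    rw [nsmul_eq_mul, ZMod.natCast_self, zero_mul]
  have e1 : (G ◁ ((𝟙 G') ^ (l ^ (j - i)) : G' ⟶ G')).left ≫
      ((((𝟙 G) ^ (l ^ (j - i))) ▷ G') ≫ s i).left = (s j).left ≫ (trn tr h).left := by
    rw [← Over.comp_left, ← Over.comp_left, sec_trn E tr s h5 h, ← Category.assoc, whisker_exchange,
      ← MonoidalCategory.tensorHom_def]
  have e2 : (G ◁ ((𝟙 G') ^ (l ^ (j - i)) : G' ⟶ G')).left ≫ (fst G G').left = (fst G G').left :=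
    left_comp (whiskerLeft_fst _ _)
  have e3 : (G ◁ ((𝟙 G') ^ (l ^ (j - i)) : G' ⟶ G')).left ≫ (snd G G').left =
      (snd G G').left ≫ ((𝟙 G') ^ (l ^ (j - i)) : G' ⟶ G').left := by
    rw [← Over.comp_left, ← Over.comp_left, whiskerLeft_snd]
  exact EffProd.of_prod (k := k) (m := l ^ ν) hm (ZMod (l ^ ν)) hM (Y := G.left) G.hom (F := G'.left)
    (F' := G'.left) G'.hom ((𝟙 G') ^ (l ^ (j - i)) : G' ⟶ G').left (X := (E i).left) (X' := (E j).left)
    (p i).left (p j).left (trn tr h).left (left_comp (trn_proj tr p h1 h))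
    (Y' := G.left) ((𝟙 G) ^ (l ^ j) : G ⟶ G).left
    (P := (G ⊗ G').left) (P' := (G ⊗ G').left)
    (isPullback_ij E p s h3 h) (isPullback_left (h3 j)) hy (y' := (snd G G').left)
    (G ◁ ((𝟙 G') ^ (l ^ (j - i)) : G' ⟶ G')).left e1 e2 e3 t hK

include h3 hc in
theorem isIso_unit (M : Type) [AddCommGroup M] (i : ℕ) :
    IsIso ((EtCoh.pullPushAdj (p i).left).unit.app (EtCoh.const G.left M)) := by
  have := (hc i).1
  have := (hc i).2
  have := quasiCompact_left ((𝟙 G) ^ (l ^ i) : G ⟶ G)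
  exact EffUnit.isIso_unit_of_prod G.hom (p i).left ((𝟙 G) ^ (l ^ i) : G ⟶ G).left
    (isPullback_left (h3 i)) G'.hom (isPullback_prod G G') M

include hl h1 h3 h5 hc in
/-- One side of the comparison. -/
theorem side (ν : ℕ) (hK : ∀ t, 1 ≤ t → ∃ N, ∀ n, N ≤ n →
      HC (ZMod (l ^ ν)) ((𝟙 G') ^ (l ^ n) : G' ⟶ G').left t = 0) (r : ℕ) :
    (∀ i, Function.Injective (HC (ZMod (l ^ ν)) (p i).left r)) ∧
    ∀ i (z : HH (E i).left (EtCoh.const _ (ZMod (l ^ ν))) r), ∃ (j : ℕ) (h : i ≤ j)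
      (w : HH G.left (EtCoh.const G.left (ZMod (l ^ ν))) r),
      HC (ZMod (l ^ ν)) (trn tr h).left r z = HC (ZMod (l ^ ν)) (p j).left r w := by
  have hd : ∀ t, 1 ≤ t → t ≤ r → ∀ i, ∃ (j : ℕ) (h : i ≤ j),
      LocDies (ZMod (l ^ ν)) (p i).left (p j).left (trn tr h).left
        (left_comp (trn_proj tr p h1 h)) t := by
    intro t ht _ i
    obtain ⟨N, hN⟩ := hK t ht
    refine ⟨i + N, Nat.le_add_right _ _, locDies hl E tr p s h1 h3 h5 hc _ ?_⟩
    exact hN _ (by omega)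
  have hu := isIso_unit E p s h3 hc (ZMod (l ^ ν))
  have hq : ∀ {i j : ℕ} (h : i ≤ j), (trn tr h).left ≫ (p i).left = (p j).left :=
    fun h => left_comp (trn_proj tr p h1 h)
  exact ⟨EffMain.inj (ZMod (l ^ ν)) (fun i => (E i).left) (fun i => (p i).left)
      (fun h => (trn tr h).left) hq (fun h h' => left_comp (trn_comp tr h h')) hu r hd r le_rfl,
    EffMain.surj_J (ZMod (l ^ ν)) (fun i => (E i).left) (fun i => (p i).left)
      (fun h => (trn tr h).left) hq (fun h h' => left_comp (trn_comp tr h h')) hu r hd r le_rfl⟩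

end Side

end K833.TorCmp
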