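import Groth.Agent.EtAdic.K833.TorCard
import Groth.Agent.EtAdic.K98.KillMain

/-!
# The number of elements of `H^r(G, ℤ/ℓ^ν)` for a commutative group variety `G`
-/

set_option autoImplicit false
universe u
open CategoryTheory Limits MonoidalCategory CartesianMonoidalCategory MonObj GrpObj AlgebraicGeometry
open scoped Groth.Agent.Etcore.EtInst
open Groth.Agent.Etcore.EtInst

namespace K833.TorFin

open Groth.Agent.Etcore.HC TorCard

theorem kills {k : Type u} [Field k] [IsAlgClosed k] {l : ℕ} [Fact l.Prime] (hl : (l : k) ≠ 0) (ν : ℕ)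
    (G : Over (Spec (CommRingCat.of k))) [GrpObj G] [Smooth G.hom] [QuasiCompact G.hom]
    [ConnectedSpace G.left] : Kills l ν G := by
  intro t ht
  have hl0 : l ^ ν ≠ 0 := pow_ne_zero _ (Fact.out : l.Prime).ne_zero
  have : NeZero (l ^ ν) := ⟨hl0⟩
  have hm : ((l ^ ν : ℕ) : k) ≠ 0 := by
    rw [Nat.cast_pow]
    exact pow_ne_zero _ hl
  have hM : ∀ x : ZMod (l ^ ν), (l ^ ν) • x = 0 := fun x => by
    rw [nsmul_eq_mul, ZMod.natCast_self, zero_mul]
  obtain ⟨N, hN⟩ := K98.KillMain.main hm (ZMod (l ^ ν)) hM G t ht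
  refine ⟨ν * N, ?_⟩
  ext x
  rw [pow_mul l ν N]
  exact hN x

/-- **Cohomology of commutative group varieties.** The number of `l`-torsion points is `l ^ b`, and
`H^r(G, ℤ/l^ν)` has `(l^ν)^(b choose r)` elements. -/
theorem card {k : Type u} [Field k] [IsAlgClosed k] (l : ℕ) [Fact l.Prime] (hl : (l : k) ≠ 0)
    (G : Over (Spec (CommRingCat.of k))) [GrpObj G] [IsCommMonObj G] [Smooth G.hom]
    [QuasiCompact G.hom] [ConnectedSpace G.left] :
    ∃ b : ℕ, Nat.card {x : 𝟙_ (Over (Spec (CommRingCat.of k))) ⟶ G // x ^ l = 1} = l ^ b ∧ ∀ ν r,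
      Nat.card (EtCoh.H G.left (EtCoh.const G.left (ZMod (l ^ ν))) r) = (l ^ ν) ^ Nat.choose b r :=
  TorCard.main hl G (fun ν => kills hl ν G) (fun ν b => kills hl ν (K522.Geo.Tor k b))

/-- **(C1)** -/
theorem card_one {k : Type u} [Field k] [IsAlgClosed k] (l : ℕ) [Fact l.Prime] (hl : (l : k) ≠ 0)
    (G : Over (Spec (CommRingCat.of k))) [GrpObj G] [IsCommMonObj G] [Smooth G.hom]
    [QuasiCompact G.hom] [ConnectedSpace G.left] (ν : ℕ) :
    Nat.card (EtCoh.H G.left (EtCoh.const G.left (ZMod (l ^ ν))) 1) =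
      Nat.card {x : 𝟙_ (Over (Spec (CommRingCat.of k))) ⟶ G // x ^ l = 1} ^ ν := by
  obtain ⟨b, hb, h⟩ := card l hl G
  rw [h ν 1, hb, Nat.choose_one_right, ← pow_mul, ← pow_mul, mul_comm]

end K833.TorFin
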