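import Mathlib.CategoryTheory.Abelian.Exact
import Mathlib.Algebra.Homology.ShortComplex.ShortExact
import Mathlib.Algebra.Group.Hom.Defs
import Mathlib.Algebra.Category.Grp.Basic

/-!
# Towers of contravariant cohomological functors

`T i`, `i : J`, is a system of contravariant `δ`-functors, and `... ⟶ X 2 ⟶ X 1 ⟶ X 0 ⟶ b` a tower in `J`. If, after
going up in the tower, classes of degree `1 ≤ t ≤ r` of `T (X i)` are killed by epimorphisms, and `T b` agrees with the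
others in degree zero, then in degrees `≤ r` classes of `T (X i)` come, after going up, from `T b`, and
`T b ⟶ T (X i)` is injective.
-/

set_option autoImplicit false

universe w v u v' u'

open CategoryTheory CategoryTheory.Limits

namespace K833.Tower

/-- A system of contravariant `δ`-functors. -/
structure Sys (C : Type u) [Category.{v} C] [Abelian C] (J : Type u') [Category.{v'} J] where
  T : J → ℕ → C → Type w
  [grp : ∀ i t A, AddCommGroup (T i t A)]
  map : ∀ (i : J) (t : ℕ) {A B : C} (_ : A ⟶ B), T i t B →+ T i t A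
  δ : ∀ (i : J) (t : ℕ) {S : ShortComplex C} (_ : S.ShortExact), T i t S.X₁ →+ T i (t + 1) S.X₃
  exact₃ : ∀ (i : J) (t : ℕ) {S : ShortComplex C} (hS : S.ShortExact) (x : T i (t + 1) S.X₃),
    map i (t + 1) S.g x = 0 → ∃ y, δ i t hS y = x
  exact₁ : ∀ (i : J) (t : ℕ) {S : ShortComplex C} (hS : S.ShortExact) (x : T i t S.X₁),
    δ i t hS x = 0 → ∃ y, map i t S.f y = x
  δ_map : ∀ (i : J) (t : ℕ) {S : ShortComplex C} (hS : S.ShortExact) (y : T i t S.X₂),
    δ i t hS (map i t S.f y) = 0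
  τ : ∀ {i j : J} (_ : j ⟶ i) (t : ℕ) (A : C), T i t A →+ T j t A
  τ_map : ∀ {i j : J} (h : j ⟶ i) (t : ℕ) {A B : C} (f : A ⟶ B) (x : T i t B),
    τ h t A (map i t f x) = map j t f (τ h t B x)
  τ_δ : ∀ {i j : J} (h : j ⟶ i) (t : ℕ) {S : ShortComplex C} (hS : S.ShortExact) (x : T i t S.X₁),
    τ h (t + 1) S.X₃ (δ i t hS x) = δ j t hS (τ h t S.X₁ x)
  τ_τ : ∀ {i j l : J} (h : j ⟶ i) (h' : l ⟶ j) (t : ℕ) (A : C) (x : T i t A),
    τ h' t A (τ h t A x) = τ (h' ≫ h) t A x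

attribute [instance] Sys.grp

/-- A tower over `b`. -/
structure Tow (J : Type u') [Category.{v'} J] (b : J) (ι : Type) [Preorder ι] where
  X : ι → J
  tr : ∀ {i j : ι} (_ : i ≤ j), X j ⟶ X i
  π : ∀ i, X i ⟶ b
  tr_tr : ∀ {i j l : ι} (h : i ≤ j) (h' : j ≤ l), tr h' ≫ tr h = tr (h.trans h')
  tr_π : ∀ {i j : ι} (h : i ≤ j), tr h ≫ π i = π j

variable {C : Type u} [Category.{v} C] [Abelian C] {J : Type u'} [Category.{v'} J] (D : Sys.{w} C J)
  {b : J} {ι : Type} [Preorder ι] (X : Tow J b ι)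

/-- Classes come, after going up, from the base. -/
def Surj (t : ℕ) : Prop :=
  ∀ (i : ι) (A : C) (x : D.T (X.X i) t A), ∃ (j : ι) (h : i ≤ j) (y : D.T b t A),
    D.τ (X.tr h) t A x = D.τ (X.π j) t A y

/-- Injectivity of the comparison. -/
def Inj (t : ℕ) : Prop :=
  ∀ (i : ι) (A : C) (y : D.T b t A), D.τ (X.π i) t A y = 0 → y = 0

variable {D X}

/-- A class killed by an epimorphism comes from the base. -/
theorem surj_step {t : ℕ} (hs : Surj D X t) {i : ι} {P A : C} (e : P ⟶ A) [Epi e]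
    (x : D.T (X.X i) (t + 1) A) (hx : D.map (X.X i) (t + 1) e x = 0) :
    ∃ (j : ι) (h : i ≤ j) (y : D.T b (t + 1) A),
      D.τ (X.tr h) (t + 1) A x = D.τ (X.π j) (t + 1) A y := by
  let S : ShortComplex C := ShortComplex.mk (kernel.ι e) e (kernel.condition e)
  have hS : S.ShortExact := { exact := ShortComplex.exact_kernel e }
  obtain ⟨y, rfl⟩ := D.exact₃ (X.X i) t hS x hx
  obtain ⟨j, h, z, hz⟩ := hs i _ y
  refine ⟨j, h, D.δ b t hS z, (D.τ_δ (X.tr h) t hS y).trans ?_⟩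
  rw [hz]
  exact (D.τ_δ (X.π j) t hS z).symm

/-- Injectivity in the next degree. -/
theorem inj_step {t : ℕ} (hs : Surj D X t) (hi : Inj D X t)
    (hb : ∀ (A : C) (x : D.T b (t + 1) A), ∃ (P : C) (e : P ⟶ A), Epi e ∧ D.map b (t + 1) e x = 0) :
    Inj D X (t + 1) := by
  intro i A x hx
  obtain ⟨P, e, he, h0⟩ := hb A x
  let S : ShortComplex C := ShortComplex.mk (kernel.ι e) e (kernel.condition e)
  have hS : S.ShortExact := { exact := ShortComplex.exact_kernel e }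
  obtain ⟨y, rfl⟩ := D.exact₃ b t hS x h0
  obtain ⟨u, hu⟩ := D.exact₁ (X.X i) t hS _ ((D.τ_δ (X.π i) t hS y).symm.trans hx)
  obtain ⟨j, h1, u', hu'⟩ := hs i _ u
  have h3 : y = D.map b t S.f u' := by
    rw [← sub_eq_zero]
    refine hi j _ _ ?_
    rw [map_sub, D.τ_map, ← hu', ← D.τ_map, hu, D.τ_τ, X.tr_π, sub_self]
  rw [h3]
  exact D.δ_map b t hS u'

/-- **Main statement.** -/
theorem main (r : ℕ)
    (h0 : ∀ (i : ι) (A : C), Function.Bijective (D.τ (X.π i) 0 A))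
    (hb : ∀ (t : ℕ) (A : C) (x : D.T b (t + 1) A),
      ∃ (P : C) (e : P ⟶ A), Epi e ∧ D.map b (t + 1) e x = 0)
    (hc : ∀ t < r, ∀ (i : ι) (A : C) (x : D.T (X.X i) (t + 1) A),
      ∃ (j : ι) (h : i ≤ j) (P : C) (e : P ⟶ A), Epi e ∧
        D.map (X.X j) (t + 1) e (D.τ (X.tr h) (t + 1) A x) = 0) :
    ∀ t ≤ r, Surj D X t ∧ Inj D X t := by
  intro t
  induction t with
  | zero =>
    intro _
    refine ⟨fun i A x => ?_, fun i A y hy => ?_⟩
    · obtain ⟨y, hy⟩ := (h0 i A).2 x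
      exact ⟨i, le_rfl, y, by rw [← hy, D.τ_τ, X.tr_π]⟩
    · exact (h0 i A).1 (hy.trans (map_zero _).symm)
  | succ t ih =>
    intro ht
    obtain ⟨h1, h2⟩ := ih (by omega)
    refine ⟨fun i A x => ?_, inj_step h1 h2 (hb t)⟩
    obtain ⟨j, h, P, e, he, hx⟩ := hc t (by omega) i A x
    obtain ⟨l, h', y, hy⟩ := surj_step h1 e _ hx
    exact ⟨l, h.trans h', y, by rw [← hy, D.τ_τ, X.tr_tr]⟩

end K833.Tower
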