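import Groth.Agent.EtAdic.K833.FieldRpush

/-!
# Étale locally trivial fibrations with acyclic fibre
-/

set_option autoImplicit false
universe u

open CategoryTheory CategoryTheory.Limits AlgebraicGeometry Opposite
attribute [local instance] HasDerivedCategory.standard

namespace K833.Triv

open Groth.Agent.Sga4h Groth.Agent.Sga4h.Acyc

variable {k : Type u} [Field k] {m : ℕ} (hm : (m : k) ≠ 0)

include hm in
/-- Base change of a finite type acyclic scheme over a field. -/
theorem acyc_baseChange {F V P : Scheme.{u}} (qF : F ⟶ Spec (CommRingCat.of k))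
    [LocallyOfFiniteType qF] [QuasiCompact qF] {qV : V ⟶ Spec (CommRingCat.of k)} {p : P ⟶ V}
    {g' : P ⟶ F} (h : IsPullback g' p qF qV) (M : Type) [AddCommGroup M] [Finite M]
    (hM : ∀ x : M, m • x = 0) (hF : Acyc qF (EtCoh.const (Spec (CommRingCat.of k)) M)) :
    Acyc p (EtCoh.const V M) := by
  have hN : IsLocallyNoetherian F := LocallyOfFiniteType.isLocallyNoetherian qF
  have hqs : QuasiSeparated qF := inferInstance
  have hc : EtPBC.IsConstructible ((EtCoh.pull qF).obj (EtCoh.const (Spec (CommRingCat.of k)) M)) :=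
    (Groth.Agent.Etrest.ConsClass.cons _).prop_of_iso (EtCore.pullConst qF M).symm
      (Groth.Agent.Etrest.ConstBasic.isConstructible_const F M)
  have hk : EtCoh.KilledBy m ((EtCoh.pull qF).obj (EtCoh.const (Spec (CommRingCat.of k)) M)) :=
    Groth.Agent.EtpbcB.TorsionBasic.killedBy_map _ m _
      (Groth.Agent.Etrest.ConstBasic.killedBy_const _ M m hM)
  exact (AcycDesc.acyc_of_bc h.w _ hF (BCZero.isIso_baseChange0 h _)
    (FieldBC.bc hm qF qV h _ hc hk)).of_iso (EtCore.pullConst qV M)

end K833.Triv
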