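import Mathlib.CategoryTheory.Functor.OfSequence
import Mathlib.AlgebraicGeometry.Noetherian
import Groth.Agent.EtAdic.K522.Level

/-!
# Transition morphisms of a tower, and the pullback squares over powers
-/

set_option autoImplicit false
universe v u
open CategoryTheory Limits MonoidalCategory CartesianMonoidalCategory MonObj GrpObj AlgebraicGeometry

namespace K833.Trn

section Seq

variable {C : Type u} [Category.{v} C] {E : ℕ → C} (tr : ∀ m, E (m + 1) ⟶ E m)

/-- Transition morphisms of a tower. -/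
noncomputable def trn {i j : ℕ} (h : i ≤ j) : E j ⟶ E i :=
  (Functor.ofOpSequence tr).map (homOfLE h).op

theorem trn_comp {i j l : ℕ} (h : i ≤ j) (h' : j ≤ l) :
    trn tr h' ≫ trn tr h = trn tr (h.trans h') :=
  ((Functor.ofOpSequence tr).map_comp (homOfLE h').op (homOfLE h).op).symm

theorem trn_self (i : ℕ) (h : i ≤ i) : trn tr h = 𝟙 (E i) := (Functor.ofOpSequence tr).map_id _

theorem trn_succ (i : ℕ) : trn tr (Nat.le_add_right i 1) = tr i :=
  Functor.ofOpSequence_map_homOfLE_succ tr i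

theorem trn_proj {T : C} (p : ∀ m, E m ⟶ T) (hp : ∀ m, tr m ≫ p m = p (m + 1)) {i j : ℕ}
    (h : i ≤ j) : trn tr h ≫ p i = p j := by
  induction j, h using Nat.le_induction with
  | base => rw [trn_self, Category.id_comp]
  | succ j h ih =>
    rw [← trn_comp tr h (Nat.le_add_right j 1), trn_succ, Category.assoc, ih, hp]

theorem trn_sec {P : C} (s : ∀ m, P ⟶ E m) (Φ : ℕ → (P ⟶ P)) (h0 : Φ 0 = 𝟙 P)
    (hΦ : ∀ d, Φ 1 ≫ Φ d = Φ (d + 1)) (hs : ∀ m, s (m + 1) ≫ tr m = Φ 1 ≫ s m) {i j : ℕ}
    (h : i ≤ j) : s j ≫ trn tr h = Φ (j - i) ≫ s i := by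
  induction j, h using Nat.le_induction with
  | base => rw [trn_self, Category.comp_id, Nat.sub_self, h0, Category.id_comp]
  | succ j h ih =>
    rw [← trn_comp tr h (Nat.le_add_right j 1), trn_succ, reassoc_of% (hs j), ih,
      Nat.succ_sub h, ← Category.assoc, hΦ]

end Seq

section Cart

variable {C : Type u} [Category.{v} C] [CartesianMonoidalCategory C]

theorem isPullback_whisker {T G : C} (a : T ⟶ G) (G' : C) :
    IsPullback (a ▷ G') (fst T G') (fst G G') a := by
  refine ⟨⟨by simp⟩, ⟨PullbackCone.IsLimit.mk _ (fun s => lift s.snd (s.fst ≫ snd G G')) ?_ ?_ ?_⟩⟩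
  · intro s
    ext
    · simp [s.condition]
    · simp
  · intro s
    simp
  · intro s m h1 h2
    ext
    · simpa using h2
    · simpa using congrArg (fun t => t ≫ snd G G') h1

end Cart

section Pow

variable {k : Type u} [Field k]

local notation "𝕊" => Spec (CommRingCat.of k)

theorem pw_pw {G : Over 𝕊} [GrpObj G] (a b : ℕ) :
    ((𝟙 G) ^ a : G ⟶ G) ≫ ((𝟙 G) ^ b : G ⟶ G) = (𝟙 G) ^ (a * b) := by
  rw [MonObj.comp_pow, Category.comp_id, ← pow_mul]

theorem left_comp {S : Scheme.{u}} {A B D : Over S} {f : A ⟶ B} {g : B ⟶ D} {h : A ⟶ D} (e : f ≫ g = h) :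
    f.left ≫ g.left = h.left := by
  rw [← e]
  rfl

theorem isPullback_left {S : Scheme.{u}} {A B D Z : Over S} {f : A ⟶ B} {g : A ⟶ D} {h : B ⟶ Z}
    {h' : D ⟶ Z} (e : IsPullback f g h h') : IsPullback f.left g.left h.left h'.left :=
  e.map (Over.forget S)

theorem isPullback_prod {S : Scheme.{u}} (A B : Over S) :
    IsPullback (snd A B).left (fst A B).left B.hom A.hom :=
  (IsPullback.of_hasPullback A.hom B.hom).flip

theorem quasiCompact_left {G H : Over 𝕊} [LocallyOfFiniteType G.hom] [QuasiCompact G.hom]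
    (f : G ⟶ H) : QuasiCompact f.left := by
  have h1 : IsLocallyNoetherian G.left := LocallyOfFiniteType.isLocallyNoetherian (Y := 𝕊) G.hom
  have h2 : CompactSpace G.left :=
    (HasAffineProperty.iff_of_isAffine (P := @QuasiCompact) (f := G.hom)).1 ‹_›
  have h3 : IsNoetherian G.left := ⟨⟩
  infer_instance

end Pow

end K833.Trn
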